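import Groth.Agent.S8914
import Groth.Agent.IdealStalkLib.Comap
import Groth.Agent.InvDescLib.Sections
import Groth.Agent.AmpleEmb.ComposeRel
import Groth.Agent.ParaFLib.Glue

/-!
# Inverse image of an invertible ideal as a module
-/

set_option autoImplicit false
set_option backward.isDefEq.respectTransparency false
set_option backward.isDefEq.respectTransparency.types false
set_option linter.style.haveILetI false
set_option maxHeartbeats 1000000

universe u

open CategoryTheory CategoryTheory.Limits AlgebraicGeometry TopologicalSpace Opposite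
open Groth.Agent.PullbackMod Groth.Agent.ParaFLib

noncomputable section

namespace Groth.Agent.JacLib

variable {X Y : Scheme.{u}}

/-- If an effective Cartier divisor pulls back to one, so does its ideal module. -/
theorem nonempty_iso_pullback_idealMod (g : Y ⟶ X) (J : X.IdealSheafData)
    (hJ : BlowUp.IsEffCartierIdeal J) (hJ' : BlowUp.IsEffCartierIdeal (J.comap g)) :
    Nonempty ((Scheme.Modules.pullback g).obj (ClSub.idealMod J) ≅ ClSub.idealMod (J.comap g)) := by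
  classical
  have hM : PicF.IsInvertible (ClSub.idealMod J) := (Groth.Agent.S8914.result J).2 hJ
  have hloc : ∀ y : Y, ∃ (W : X.affineOpens) (V : Y.affineOpens) (hV : V.1 ≤ g ⁻¹ᵁ W.1)
      (j : Γ(ClSub.idealMod J, W.1)) (m : Γ(ClSub.idealMod (J.comap g), V.1)), y ∈ V.1 ∧ Gen W.1 j ∧ Gen V.1 m ∧
      OmegaSh.idealSect (J.comap g) V.1 m = g.appLE W.1 V.1 hV (OmegaSh.idealSect J W.1 j) := by
    intro y
    obtain ⟨W, hyW, a, ha, hWa⟩ := hJ (g y)
    obtain ⟨V₀, hyV₀, b, hb, hVb⟩ := hJ' y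
    obtain ⟨j, hj⟩ := Groth.Agent.S8914.gen_of_ideal_eq_span J W a ha hWa
    obtain ⟨t, ht, hyt⟩ := V₀.2.exists_basicOpen_le (V := g ⁻¹ᵁ W.1 ⊓ V₀.1) ⟨y, ⟨hyW, hyV₀⟩⟩ hyV₀
    let V : Y.affineOpens := Y.affineBasicOpen (U := V₀) t
    have hVW : V.1 ≤ g ⁻¹ᵁ W.1 := fun z hz => (ht hz).1
    have hd : ∃ d ∈ nonZeroDivisors Γ(Y, V.1), (J.comap g).ideal V = Ideal.span {d} := by
      letI : Algebra Γ(Y, V₀.1) Γ(Y, Y.basicOpen t) := (Y.presheaf.map (homOfLE (Y.basicOpen_le t)).op).hom.toAlgebra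
      haveI : IsLocalization.Away t Γ(Y, Y.basicOpen t) := V₀.2.isLocalization_basicOpen t
      refine ⟨Y.presheaf.map (homOfLE (Y.basicOpen_le t)).op b,
        IsLocalization.map_nonZeroDivisors_le (Submonoid.powers t) Γ(Y, Y.basicOpen t) ⟨b, hb, rfl⟩, ?_⟩
      rw [← (J.comap g).map_ideal_basicOpen V₀ t, hVb, Ideal.map_span, Set.image_singleton]
      rfl
    obtain ⟨d, hd, hVd⟩ := hd
    have hja : J.ideal W = Ideal.span {OmegaSh.idealSect J W.1 j} := by
      refine le_antisymm (fun z hz => ?_) ((Ideal.span_singleton_le_iff_mem _).2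
        ((OmegaAffLib.mem_range_idealSect J W _).2 ⟨_, rfl⟩))
      obtain ⟨n, rfl⟩ := (OmegaAffLib.mem_range_idealSect J W z).1 hz
      obtain ⟨r, rfl⟩ := (hj W.1 le_rfl).2 n
      rw [ParaFLib.res_self, OmegaAffLib.idealSect_smul]
      exact Ideal.mem_span_singleton.2 ⟨r, mul_comm _ _⟩
    have hsp : Ideal.span {g.appLE W.1 V.1 hVW (OmegaSh.idealSect J W.1 j)} = Ideal.span {d} := by
      refine Eq.trans ?_ hVd
      refine ((IdealStalkLib.comap_ideal J g W.2 V.2 hVW).trans ?_).symm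
      refine (congrArg (Ideal.map (g.appLE W.1 V.1 hVW).hom) hja).trans ?_
      rw [Ideal.map_span, Set.image_singleton]
    obtain ⟨c, hc⟩ := Ideal.mem_span_singleton.1 (hsp ▸ Ideal.mem_span_singleton_self _ :
      g.appLE W.1 V.1 hVW (OmegaSh.idealSect J W.1 j) ∈ Ideal.span {d})
    obtain ⟨e, he⟩ := Ideal.mem_span_singleton.1 (hsp.symm ▸ Ideal.mem_span_singleton_self d :
      d ∈ Ideal.span {g.appLE W.1 V.1 hVW (OmegaSh.idealSect J W.1 j)})
    have hce : c * e = 1 := by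
      refine (mul_cancel_left_mem_nonZeroDivisors hd).1 ?_
      rw [← mul_assoc, ← hc, ← he, mul_one]
    obtain ⟨m, hm⟩ := Groth.Agent.S8914.gen_of_ideal_eq_span (J.comap g) V _
      (show g.appLE W.1 V.1 hVW (OmegaSh.idealSect J W.1 j) ∈ nonZeroDivisors _ from hc ▸ mul_mem hd
        (IsUnit.mem_nonZeroDivisors (IsUnit.of_mul_eq_one e hce))) (hVd.trans hsp.symm)
    obtain ⟨n, hn⟩ := (OmegaAffLib.mem_range_idealSect (J.comap g) V (g.appLE W.1 V.1 hVW (OmegaSh.idealSect J W.1 j))).1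
      (by rw [hVd, ← hsp]; exact Ideal.mem_span_singleton_self _)
    obtain ⟨u, hu⟩ := (hm V.1 le_rfl).2 n
    simp only [ParaFLib.res_self] at hu
    obtain ⟨w, hw⟩ := Ideal.mem_span_singleton.1
      ((hVd.trans hsp.symm).le ((OmegaAffLib.mem_range_idealSect (J.comap g) V _).2 ⟨m, rfl⟩))
    have hu' : IsUnit u := by
      refine IsUnit.of_mul_eq_one w ((mul_cancel_left_mem_nonZeroDivisors (hc ▸ mul_mem hd
        (IsUnit.mem_nonZeroDivisors (IsUnit.of_mul_eq_one e hce)) :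
        g.appLE W.1 V.1 hVW (OmegaSh.idealSect J W.1 j) ∈ nonZeroDivisors _)).1 ?_)
      rw [mul_one]
      have h1 := congrArg (OmegaSh.idealSect (J.comap g) V.1) hu
      rw [OmegaAffLib.idealSect_smul, hn, hw] at h1
      linear_combination h1
    exact ⟨W, V, hVW, j, n, hyt, hj, hu ▸ hm.smul hu', hn⟩
  choose W V hV j m hyV hj hm hjm using hloc
  have hcov : iSup (fun y => (V y).1) = ⊤ := top_le_iff.1 fun z _ => Opens.mem_iSup.2 ⟨z, hyV z⟩
  have hη : ∀ a b, ∃ η : Γ(X, (W a).1 ⊓ (W b).1), η • (ClSub.idealMod J).presheaf.map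
      (homOfLE (inf_le_right : (W a).1 ⊓ (W b).1 ≤ (W b).1)).op (j b) =
      (ClSub.idealMod J).presheaf.map (homOfLE (inf_le_left : (W a).1 ⊓ (W b).1 ≤ (W a).1)).op (j a) := fun a b => by
    obtain ⟨η, -, h⟩ := ((hj a).res inf_le_left).exists_unit ((hj b).res inf_le_right)
    exact ⟨η, h⟩
  choose η hη using hη
  have hle : ∀ a b, (V a).1 ⊓ (V b).1 ≤ g ⁻¹ᵁ ((W a).1 ⊓ (W b).1) := fun a b z hz => ⟨hV a hz.1, hV b hz.2⟩
  refine nonempty_iso_of_bases (U := fun y => (V y).1)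
    (s := fun y => pullMap g (ClSub.idealMod J) (hV y) (j y)) (t := m) hcov (fun y => ?_) hm
    (fun a b => g.appLE _ _ (hle a b) (η a b)) (fun a b => ?_) fun a b => ?_
  · have h := (AmpleEmb.gen_pullMap g hM (hj y)).res (hV y)
    rwa [pullMap_res g _ le_rfl le_rfl (hV y) (hV y), ParaFLib.res_self] at h
  · rw [pullMap_res g (ClSub.idealMod J) (hV a) (inf_le_left : (W a).1 ⊓ (W b).1 ≤ _) _ (hle a b),
      pullMap_res g (ClSub.idealMod J) (hV b) (inf_le_right : (W a).1 ⊓ (W b).1 ≤ _) _ (hle a b), ← hη, pullMap_smul]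
  · refine OmegaAffLib.idealSect_injective _ _ ?_
    rw [OmegaAffLib.idealSect_smul, Groth.Agent.S8914.idealSect_res, Groth.Agent.S8914.idealSect_res, hjm, hjm]
    have e1 : ∀ (O : X.Opens) (P : Y.Opens) (hP : P ≤ g ⁻¹ᵁ O) (Q : Y.Opens) (hQ : Q ≤ P) (O' : X.Opens) (hO : O' ≤ O)
        (hQ' : Q ≤ g ⁻¹ᵁ O') (z : Γ(X, O)),
        Y.presheaf.map (homOfLE hQ).op (g.appLE O P hP z) = g.appLE O' Q hQ' (X.presheaf.map (homOfLE hO).op z) := by
      intro O P hP Q hQ O' hO hQ' z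
      rw [← CommRingCat.comp_apply, ← CommRingCat.comp_apply, Scheme.Hom.appLE_map, Scheme.Hom.map_appLE]
    rw [e1 _ _ (hV a) _ inf_le_left _ inf_le_left (hle a b), e1 _ _ (hV b) _ inf_le_right _ inf_le_right (hle a b),
      ← Groth.Agent.S8914.idealSect_res, ← Groth.Agent.S8914.idealSect_res, ← hη, OmegaAffLib.idealSect_smul, map_mul]

end Groth.Agent.JacLib
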