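import Groth.Agent.AbelMapLib.CanSect
import Groth.Agent.CubeLib.Artin
import Groth.Agent.S8914
import Groth.Agent.ZeroSchemeLib.Basic

/-!
# Sections and effective Cartier ideals
-/

set_option autoImplicit false
set_option backward.isDefEq.respectTransparency false
set_option backward.isDefEq.respectTransparency.types false
set_option linter.style.haveILetI false
set_option maxHeartbeats 1600000

universe u

open CategoryTheory CategoryTheory.Limits AlgebraicGeometry TopologicalSpace Opposite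
open Groth.Agent.PullbackMod Groth.Agent.ParaFLib Groth.Agent.DCohLib

noncomputable section

namespace Groth.Agent.JacLib

variable {Y : Scheme.{u}}

theorem exists_affine_gen {L : Y.Modules} (hL : PicF.IsInvertible L) (s : Γ(L, ⊤)) (y : Y) :
    ∃ (W : Y.affineOpens) (_ : y ∈ W.1) (l : Γ(L, W.1)) (a : Γ(Y, W.1)), Gen W.1 l ∧
      L.presheaf.map (homOfLE le_top).op s = a • l := by
  obtain ⟨U, l₀, hyU, hl₀⟩ := ParaFLib.exists_gen_nhd hL y
  obtain ⟨W, hW, hyW, hle⟩ := exists_isAffineOpen_mem_and_subset hyU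
  have hl := hl₀.res (show W ≤ U from hle)
  obtain ⟨a, ha⟩ := (hl W le_rfl).2 (L.presheaf.map (homOfLE le_top).op s)
  simp only [ParaFLib.res_self] at ha
  exact ⟨⟨W, hW⟩, hyW, _, a, hl, ha.symm⟩

/-- The zero scheme of a section has it as canonical section. -/
theorem isCanSect_zeroScheme {L : Y.Modules} (hL : PicF.IsInvertible L) (s : Γ(L, ⊤)) :
    AbelMapLib.IsCanSect (PicF2.zeroScheme L (DCohLib.secHom L s)) L s := fun y => by
  obtain ⟨W, hy, l, a, hl, ha⟩ := exists_affine_gen hL s y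
  refine ⟨W, hy, l, a, hl, ?_, ha⟩
  rw [ZeroSchemeLib.zeroScheme_ideal hL]
  refine ZeroSchemeLib.colonIdeal_of_gen _ hl ?_
  rw [AmpleLib.resT, AmpleLib.sec_secHom]
  exact ha.symm

/-- An effective Cartier ideal with a canonical section in `L` is inverse to `L`. -/
theorem nonempty_tensor_idealMod_iso {K : Y.IdealSheafData} (hK : BlowUp.IsEffCartierIdeal K) {L : Y.Modules}
    {s : Γ(L, ⊤)} (hs : AbelMapLib.IsCanSect K L s) :
    Nonempty (CohB1.tensorMod L (ClSub.idealMod K) ≅ Coh.structureModule Y) := by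
  let J := ClSub.idealMod K
  have hJ : PicF.IsInvertible J := (Groth.Agent.S8914.result K).2 hK
  have hloc : ∀ y : Y, ∃ (W : Y.Opens) (_ : y ∈ W) (l : Γ(L, W)) (j : Γ(J, W)), Gen W l ∧ Gen W j ∧
      L.presheaf.map (homOfLE le_top).op s = OmegaSh.idealSect K W j • l := by
    intro y
    obtain ⟨W₁, hy₁, l, a, hl, hI, hsl⟩ := hs y
    obtain ⟨U, j₀, hyU, hj₀⟩ := ParaFLib.exists_gen_nhd hJ y
    obtain ⟨W, hW, hyW, hle⟩ := exists_isAffineOpen_mem_and_subset (U := U ⊓ W₁.1) ⟨hyU, hy₁⟩
    have hWU : W ≤ U := fun z hz => (hle hz).1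
    have hWW : W ≤ W₁.1 := fun z hz => (hle hz).2
    let a' := Y.presheaf.map (homOfLE hWW).op a
    let j₁ := J.presheaf.map (homOfLE hWU).op j₀
    have hj₁ : Gen W j₁ := hj₀.res hWU
    have hI' : K.ideal ⟨W, hW⟩ = Ideal.span {a'} := by
      rw [← K.map_ideal (U := ⟨W, hW⟩) (V := W₁) hWW, hI, Ideal.map_span, Set.image_singleton]
      rfl
    obtain ⟨j, hj⟩ := (OmegaAffLib.mem_range_idealSect K ⟨W, hW⟩ a').1 (hI'.ge (Ideal.mem_span_singleton_self _))
    obtain ⟨r, hr⟩ := (hj₁ W le_rfl).2 j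
    simp only [ParaFLib.res_self] at hr
    have hc : OmegaSh.idealSect K W j₁ ∈ Ideal.span {a'} :=
      hI' ▸ (OmegaAffLib.mem_range_idealSect K ⟨W, hW⟩ _).2 ⟨j₁, rfl⟩
    obtain ⟨r', hr'⟩ := Ideal.mem_span_singleton'.1 hc
    have hj₁' : r' • j = j₁ := OmegaAffLib.idealSect_injective K W (by
      rw [OmegaAffLib.idealSect_smul, hj, hr'])
    have hu : IsUnit r := by
      refine IsUnit.of_mul_eq_one r' ((hj₁ W le_rfl).1 ?_)
      simp only [ParaFLib.res_self, one_smul]
      rw [mul_comm, ← smul_smul, hr, hj₁']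
    refine ⟨W, hyW, L.presheaf.map (homOfLE hWW).op l, j, hl.res hWW, hr ▸ hj₁.smul hu, ?_⟩
    rw [hj]
    have h1 := congrArg (L.presheaf.map (homOfLE hWW).op) hsl
    rw [ParaFLib.res_res, L.map_smul] at h1
    exact h1
  choose W hyW l j hl hj hs' using hloc
  let F : TopCat.Sheaf Ab Y := ⟨(CohB1.tensorMod L J).presheaf, (CohB1.tensorMod L J).isSheaf⟩
  let loc : ∀ y, Γ(CohB1.tensorMod L J, W y) := fun y => pairS L J (l y) (j y)
  obtain ⟨τ, hτ, -⟩ := F.existsUnique_gluing' W ⊤ (fun y => homOfLE le_top)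
    (fun y _ => Opens.mem_iSup.2 ⟨y, hyW y⟩) loc (fun x y => by
      let O := W x ⊓ W y
      obtain ⟨α, hα, hαe⟩ := ((hl x).res (inf_le_left : O ≤ _)).exists_unit ((hl y).res (inf_le_right : O ≤ _))
      have ex := congrArg (L.presheaf.map (homOfLE (inf_le_left : O ≤ W x)).op) (hs' x)
      have ey := congrArg (L.presheaf.map (homOfLE (inf_le_right : O ≤ W y)).op) (hs' y)
      simp only [ParaFLib.res_res, L.map_smul] at ex ey
      have e := ex.symm.trans ey
      rw [← hαe, smul_smul] at e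
      have ha := ((hl y).res (inf_le_right : O ≤ _) O le_rfl).1
        (by simp only [ParaFLib.res_res]; exact e)
      have hjj : J.presheaf.map (homOfLE (inf_le_right : O ≤ W y)).op (j y) =
          α • J.presheaf.map (homOfLE (inf_le_left : O ≤ W x)).op (j x) := by
        refine OmegaAffLib.idealSect_injective K O ?_
        rw [OmegaAffLib.idealSect_smul, show OmegaSh.idealSect K O _ = _ from
          DCohLib.app_natural (ClSub.idealModι K) (inf_le_right : O ≤ W y) (j y),
          show OmegaSh.idealSect K O (J.presheaf.map (homOfLE (inf_le_left : O ≤ W x)).op (j x)) = _ from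
          DCohLib.app_natural (ClSub.idealModι K) (inf_le_left : O ≤ W x) (j x), mul_comm]
        exact ha.symm
      show (CohB1.tensorMod L J).presheaf.map (homOfLE inf_le_left).op (pairS L J (l x) (j x)) =
        (CohB1.tensorMod L J).presheaf.map (homOfLE inf_le_right).op (pairS L J (l y) (j y))
      refine (res_pairS _ _ _).trans (Eq.trans ?_ (res_pairS _ _ _).symm)
      rw [hjj, ← hαe, pairS_smul_left, pairS_smul_right])
  refine CubeLib.triv_iff.1 ⟨τ, AmpleLib.gen_of_germ fun y _ => ?_⟩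
  have h := (AmpleLib.gen_pairS (hl y) (hj y)).bijective_germ y (hyW y)
  have e : (CohB1.tensorMod L J).presheaf.map (homOfLE (le_top : W y ≤ ⊤)).op τ = pairS L J (l y) (j y) := hτ y
  have h' : (CohB1.tensorMod L J).presheaf.germ ⊤ y trivial τ =
      (CohB1.tensorMod L J).presheaf.germ (W y) y (hyW y) (pairS L J (l y) (j y)) :=
    (TopCat.Presheaf.germ_res_apply (CohB1.tensorMod L J).presheaf (homOfLE (le_top : W y ≤ ⊤)) y (hyW y) τ).symm.trans
      (congrArg ((CohB1.tensorMod L J).presheaf.germ (W y) y (hyW y)) e)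
  refine (congrArg (fun m => Function.Bijective fun r : Y.presheaf.stalk y => r • m) h').mpr h

end Groth.Agent.JacLib
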