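import Groth.Agent.JacLib.Point

/-!
# The classes on powers of a curve
-/

set_option autoImplicit false
set_option backward.isDefEq.respectTransparency false
set_option backward.isDefEq.respectTransparency.types false
set_option linter.style.haveILetI false
set_option maxHeartbeats 1000000

universe u

open CategoryTheory CategoryTheory.Limits AlgebraicGeometry
open Groth.Agent.PicLib

noncomputable section

namespace Groth.Agent.JacLib

variable {C S : Scheme.{u}} (f : C ⟶ S)

/-- The fibre powers of a curve. -/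
def pow : ℕ → Over S
  | 0 => Over.mk (𝟙 S)
  | n + 1 => Over.mk (pullback.fst (pow n).hom f ≫ (pow n).hom)

/-- Forgetting the last point. -/
def proj (n : ℕ) : pow f (n + 1) ⟶ pow f n := Over.homMk (pullback.fst (pow f n).hom f) rfl

/-- The last point. -/
def lastPt (n : ℕ) : pow f (n + 1) ⟶ Over.mk f :=
  Over.homMk (pullback.snd (pow f n).hom f) pullback.condition.symm

/-- Appending a point. -/
def snoc {n : ℕ} {T : Over S} (w : T ⟶ pow f n) (x : T ⟶ Over.mk f) : T ⟶ pow f (n + 1) :=
  Over.homMk (pullback.lift w.left x.left ((Over.w w).trans (Over.w x).symm)) (by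
    show pullback.lift _ _ _ ≫ pullback.fst _ _ ≫ _ = _
    rw [pullback.lift_fst_assoc]
    exact Over.w w)

theorem snoc_proj {n : ℕ} {T : Over S} (w : T ⟶ pow f n) (x : T ⟶ Over.mk f) : snoc f w x ≫ proj f n = w :=
  Over.OverMorphism.ext (pullback.lift_fst _ _ _)

theorem snoc_lastPt {n : ℕ} {T : Over S} (w : T ⟶ pow f n) (x : T ⟶ Over.mk f) : snoc f w x ≫ lastPt f n = x :=
  Over.OverMorphism.ext (pullback.lift_snd _ _ _)

theorem hom_ext_pow {n : ℕ} {T : Over S} {a b : T ⟶ pow f (n + 1)} (h₁ : a ≫ proj f n = b ≫ proj f n)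
    (h₂ : a ≫ lastPt f n = b ≫ lastPt f n) : a = b :=
  Over.OverMorphism.ext (pullback.hom_ext (congrArg CommaMorphism.left h₁) (congrArg CommaMorphism.left h₂))

/-- A tuple of points. -/
def tuple {T : Over S} : ∀ n : ℕ, (Fin n → (T ⟶ Over.mk f)) → (T ⟶ pow f n)
  | 0, _ => Over.homMk T.hom (Category.comp_id _)
  | n + 1, x => snoc f (tuple n fun i => x i.castSucc) (x (Fin.last n))

/-- The points of a tuple. -/
def comps {T : Over S} : ∀ n : ℕ, (T ⟶ pow f n) → Fin n → (T ⟶ Over.mk f)
  | 0, _ => Fin.elim0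
  | n + 1, w => Fin.snoc (α := fun _ => T ⟶ Over.mk f) (comps n (w ≫ proj f n)) (w ≫ lastPt f n)

theorem tuple_comps {T : Over S} : ∀ (n : ℕ) (w : T ⟶ pow f n), tuple f n (comps f n w) = w
  | 0, w => Over.OverMorphism.ext ((Over.w w).symm.trans (Category.comp_id w.left))
  | n + 1, w => by
    rw [tuple, comps]
    simp only [Fin.snoc_castSucc, Fin.snoc_last]
    rw [tuple_comps n (w ≫ proj f n)]
    exact hom_ext_pow f (snoc_proj f _ _) (snoc_lastPt f _ _)

section Instances

instance isProper_pow [IsProper f] : ∀ n, IsProper (pow f n).hom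
  | 0 => inferInstanceAs (IsProper (𝟙 S))
  | n + 1 =>
    haveI := isProper_pow n
    inferInstanceAs (IsProper (pullback.fst (pow f n).hom f ≫ (pow f n).hom))

instance smooth_pow [Smooth f] : ∀ n, Smooth (pow f n).hom
  | 0 => inferInstanceAs (Smooth (𝟙 S))
  | n + 1 =>
    haveI := smooth_pow n
    inferInstanceAs (Smooth (pullback.fst (pow f n).hom f ≫ (pow f n).hom))

instance smoothOfRelativeDimension_pow [SmoothOfRelativeDimension 1 f] :
    ∀ n, SmoothOfRelativeDimension n (pow f n).hom
  | 0 => inferInstanceAs (SmoothOfRelativeDimension 0 (𝟙 S))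
  | n + 1 => by
    haveI := smoothOfRelativeDimension_pow n
    haveI := smoothOfRelativeDimension_isStableUnderBaseChange (n := 1)
    haveI : SmoothOfRelativeDimension 1 (pullback.fst (pow f n).hom f) :=
      MorphismProperty.pullback_fst (P := @SmoothOfRelativeDimension 1) _ _ inferInstance
    have h : SmoothOfRelativeDimension (1 + n) (pullback.fst (pow f n).hom f ≫ (pow f n).hom) := inferInstance
    rwa [Nat.add_comm] at h

theorem geometricallyConnected_pow [Smooth f] [GeometricallyConnected f] :
    ∀ n, GeometricallyConnected (pow f n).hom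
  | 0 => by
    refine ⟨fun K _ y T fst snd h => ?_⟩
    haveI : IsIso snd := MorphismProperty.of_isPullback (P := MorphismProperty.isomorphisms _) h
      (by change IsIso (𝟙 S); infer_instance)
    haveI : ConnectedSpace ↥(Spec (CommRingCat.of K)) := inferInstance
    exact snd.homeomorph.connectedSpace_iff.2 inferInstance
  | n + 1 => by
    haveI := geometricallyConnected_pow n
    exact GeometricallyConnected.comp (pullback.fst (pow f n).hom f) (pow f n).hom

end Instances

variable [IsSeparated f] [SmoothOfRelativeDimension 1 f]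

/-- The class of the universal tuple. -/
def fam : ∀ n : ℕ, Pic (PicF.XT f (pow f n))
  | 0 => 1
  | n + 1 => pull (PicF.XTmap f (proj f n)) (fam n) * pt f (lastPt f n)

theorem pull_tuple_fam {T : Over S} : ∀ (n : ℕ) (x : Fin n → (T ⟶ Over.mk f)),
    pull (PicF.XTmap f (tuple f n x)) (fam f n) = ∏ i, pt f (x i)
  | 0, x => by rw [Finset.univ_eq_empty, Finset.prod_empty]; exact map_one _
  | n + 1, x => by
    rw [fam, map_mul, pt_comp, tuple, snoc_lastPt,
      InvDescLib.pull_XTmap_XTmap _ _ (snoc_proj f _ _), pull_tuple_fam n, Fin.prod_univ_castSucc]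

variable (e : S ⟶ C) (he : e ≫ f = 𝟙 S)

/-- The base point. -/
def basePt (T : Over S) : T ⟶ Over.mk f :=
  Over.homMk (T.hom ≫ e) (by
    show (T.hom ≫ e) ≫ f = T.hom
    rw [Category.assoc, he, Category.comp_id])

theorem comp_basePt {T T' : Over S} (g : T' ⟶ T) : g ≫ basePt f e he T = basePt f e he T' :=
  Over.OverMorphism.ext (by
    show g.left ≫ T.hom ≫ e = T'.hom ≫ e
    rw [← Category.assoc, Over.w g])

/-- The degree zero class of the universal tuple. -/
def fam0 (n : ℕ) : Pic (PicF.XT f (pow f n)) := fam f n / pt f (basePt f e he (pow f n)) ^ n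

theorem pull_fam0 {T : Over S} {n : ℕ} (w : T ⟶ pow f n) :
    pull (PicF.XTmap f w) (fam0 f e he n) = (∏ i, pt f (comps f n w i)) / pt f (basePt f e he T) ^ n := by
  rw [fam0, map_div, map_pow, pt_comp, comp_basePt, ← pull_tuple_fam, tuple_comps]

theorem pull_tuple_fam0 {T : Over S} (n : ℕ) (x : Fin n → (T ⟶ Over.mk f)) :
    pull (PicF.XTmap f (tuple f n x)) (fam0 f e he n) = (∏ i, pt f (x i)) / pt f (basePt f e he T) ^ n := by
  rw [fam0, map_div, map_pow, pt_comp, comp_basePt, pull_tuple_fam]

end Groth.Agent.JacLib
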