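import Groth.Agent.PicRepLib.Local
import Groth.Agent.JacLib.Family
import Groth.Agent.HilbCurveLib.Split

/-!
# Tuples of pairwise disjoint points with the same good class differ by a permutation
-/

set_option autoImplicit false
set_option backward.isDefEq.respectTransparency false
set_option backward.isDefEq.respectTransparency.types false
set_option linter.style.haveILetI false
set_option linter.unusedSectionVars false
set_option maxHeartbeats 1000000

universe u

open CategoryTheory CategoryTheory.Limits AlgebraicGeometry TopologicalSpace Opposite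
open Groth.Agent.PicLib Groth.Agent.DCohLib Groth.Agent.PullbackMod Groth.Agent.ParaFLib Groth.Agent.PicRepLib

noncomputable section

namespace Groth.Agent.JacLib

theorem isCanSect_mul {Y : Scheme.{u}} {I J : Y.IdealSheafData} {L M : Y.Modules} {s : Γ(L, ⊤)} {t : Γ(M, ⊤)}
    (hs : AbelMapLib.IsCanSect I L s) (ht : AbelMapLib.IsCanSect J M t) :
    AbelMapLib.IsCanSect (I * J) (CohB1.tensorMod L M) (pairS L M s t) := fun y => by
  obtain ⟨W₁, hy₁, l, a, hl, hI, hsl⟩ := hs y
  obtain ⟨W₂, hy₂, m, b, hm, hJ, htm⟩ := ht y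
  obtain ⟨W, hW, hyW, hle⟩ := exists_isAffineOpen_mem_and_subset (U := W₁.1 ⊓ W₂.1) ⟨hy₁, hy₂⟩
  have h1 : W ≤ W₁.1 := fun z hz => (hle hz).1
  have h2 : W ≤ W₂.1 := fun z hz => (hle hz).2
  refine ⟨⟨W, hW⟩, hyW, pairS L M (L.presheaf.map (homOfLE h1).op l) (M.presheaf.map (homOfLE h2).op m),
    Y.presheaf.map (homOfLE h1).op a * Y.presheaf.map (homOfLE h2).op b,
    AmpleLib.gen_pairS (hl.res h1) (hm.res h2), ?_, ?_⟩
  · rw [Scheme.IdealSheafData.ideal_mul, Pi.mul_apply, ← I.map_ideal (U := ⟨W, hW⟩) (V := W₁) h1,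
      ← J.map_ideal (U := ⟨W, hW⟩) (V := W₂) h2, hI, hJ, Ideal.map_span, Ideal.map_span, Set.image_singleton,
      Set.image_singleton, Ideal.span_singleton_mul_span_singleton]
    rfl
  · have e1 := congrArg (L.presheaf.map (homOfLE h1).op) hsl
    have e2 := congrArg (M.presheaf.map (homOfLE h2).op) htm
    rw [ParaFLib.res_res, L.map_smul] at e1
    rw [ParaFLib.res_res, M.map_smul] at e2
    refine (res_pairS _ _ _).trans ?_
    rw [e1, e2, pairS_smul_left, pairS_smul_right, smul_smul]

theorem cls_idealMod_mul {Y : Scheme.{u}} {I J : Y.IdealSheafData} (hI : PicF.IsInvertible (ClSub.idealMod I))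
    (hJ : PicF.IsInvertible (ClSub.idealMod J)) (hIJ : PicF.IsInvertible (ClSub.idealMod (I * J))) :
    cls hIJ = cls hI * cls hJ := by
  obtain ⟨L, hL, hLc⟩ := exists_cls (cls hI)⁻¹
  obtain ⟨M, hM, hMc⟩ := exists_cls (cls hJ)⁻¹
  obtain ⟨e⟩ : Nonempty (CohB1.tensorMod L (ClSub.idealMod I) ≅ Coh.structureModule _) := by
    rw [← cls_eq_one (AmpleLib.isInvertible_tensor hL hI), cls_tensor hL hI, hLc, inv_mul_cancel]
  obtain ⟨e'⟩ : Nonempty (CohB1.tensorMod M (ClSub.idealMod J) ≅ Coh.structureModule _) := by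
    rw [← cls_eq_one (AmpleLib.isInvertible_tensor hM hJ), cls_tensor hM hJ, hMc, inv_mul_cancel]
  obtain ⟨s, hs⟩ := AbelMapLib.exists_canSect I hL hI e
  obtain ⟨t, ht⟩ := AbelMapLib.exists_canSect J hM hJ e'
  have hLM := AmpleLib.isInvertible_tensor hL hM
  obtain ⟨θ⟩ := nonempty_tensor_idealMod_iso ((Groth.Agent.S8914.result _).1 hIJ) (isCanSect_mul hs ht)
  have h := (cls_eq_one (AmpleLib.isInvertible_tensor hLM hIJ)).2 ⟨θ⟩
  rw [cls_tensor hLM hIJ, cls_tensor hL hM, hLc, hMc] at h
  calc cls hIJ = (cls hI * cls hJ) * ((cls hI)⁻¹ * (cls hJ)⁻¹ * cls hIJ) := by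
        rw [← mul_inv, mul_inv_cancel_left]
    _ = cls hI * cls hJ := by rw [h, mul_one]

variable {C S : Scheme.{u}} {f : C ⟶ S} [IsProper f] [SmoothOfRelativeDimension 1 f] {T : Over S}

/-- The ideal of the union of the graphs of a tuple. -/
def tupIdeal {n : ℕ} (x : Fin n → (T ⟶ Over.mk f)) : (PicF.XT f T).IdealSheafData :=
  ∏ i, (graph f (x i)).ker

theorem deg_graph (x : T ⟶ Over.mk f) :
    Mor2.IsFinLocFreeOfDeg 1 ((graph f x).ker.subschemeι ≫ PicF.XTproj f T) :=
  (HilbCurveLib.deg_section (pullback.snd f T.hom) (graph f x) (pullback.lift_snd _ _ _)).2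

theorem deg_top : Mor2.IsFinLocFreeOfDeg 0 ((⊤ : (PicF.XT f T).IdealSheafData).subschemeι ≫ PicF.XTproj f T) := by
  haveI : IsEmpty ↥((⊤ : (PicF.XT f T).IdealSheafData)).subscheme := by
    refine ⟨fun z => ?_⟩
    have := Set.mem_range_self (f := (⊤ : (PicF.XT f T).IdealSheafData).subschemeι) z
    rw [Scheme.IdealSheafData.range_subschemeι, Scheme.IdealSheafData.support_top] at this
    exact this
  haveI : IsClosedImmersion (((⊤ : (PicF.XT f T).IdealSheafData)).subschemeι ≫ PicF.XTproj f T) :=
    .of_isPreimmersion _ (by rw [Set.range_eq_empty]; exact isClosed_empty)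
  haveI : IsOpenImmersion (((⊤ : (PicF.XT f T).IdealSheafData)).subschemeι ≫ PicF.XTproj f T) := inferInstance
  refine ⟨⟨inferInstance, inferInstance, inferInstance⟩, fun y => ?_⟩
  let c := (⊤ : (PicF.XT f T).IdealSheafData).subschemeι ≫ PicF.XTproj f T
  let t : Spec (T.left.residueField y) := IsLocalRing.closedPoint (T.left.residueField y)
  show c.finrank y = 0
  rw [← T.left.fromSpecResidueField_apply y t, ← Scheme.Hom.finrank_pullback_snd]
  by_contra hc
  haveI : Subsingleton ↥(Spec (T.left.residueField y)) := inferInstance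
  have hs : Surjective (pullback.snd c (T.left.fromSpecResidueField y)) :=
    (Scheme.Hom.one_le_finrank_iff_surjective _).1 fun z => by rw [Subsingleton.elim z t]; exact Nat.one_le_iff_ne_zero.2 hc
  obtain ⟨w, -⟩ := hs.surj t
  exact IsEmpty.false (pullback.fst c (T.left.fromSpecResidueField y) w)

theorem cls_ideal_congr {Y : Scheme.{u}} {I J : Y.IdealSheafData} (e : I = J)
    (hI : PicF.IsInvertible (ClSub.idealMod I)) (hJ : PicF.IsInvertible (ClSub.idealMod J)) : cls hI = cls hJ := by
  subst e; rfl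

variable [GeometricallyConnected f]

theorem deg_tupIdeal : ∀ {n : ℕ} (x : Fin n → (T ⟶ Over.mk f)),
    Mor2.IsFinLocFreeOfDeg n ((tupIdeal x).subschemeι ≫ PicF.XTproj f T)
  | 0, x => by
    rw [tupIdeal, Finset.univ_eq_empty, Finset.prod_empty]
    exact deg_top
  | n + 1, x => by
    rw [tupIdeal, Fin.prod_univ_castSucc]
    exact HilbCurveLib.deg_mul (PicF.XTproj f T) (deg_tupIdeal fun i => x i.castSucc) (deg_graph _)

/-- The family of a tuple. -/
def tupObj {n : ℕ} (x : Fin n → (T ⟶ Over.mk f)) : HilbD.Obj f n T := ⟨tupIdeal x, deg_tupIdeal x⟩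

theorem divCls_tupObj_zero (x : Fin 0 → (T ⟶ Over.mk f)) : divCls (tupObj x) = 1 := by
  rw [divCls, inv_eq_one]
  have hx : (tupObj x).1 = (1 : (PicF.XT f T).IdealSheafData) := by simp [tupObj, tupIdeal]
  have h11 : (tupObj x).1 * (tupObj x).1 = (tupObj x).1 := by rw [hx, one_mul]
  have h := isInvertible_obj (tupObj x)
  have h2 : PicF.IsInvertible (ClSub.idealMod ((tupObj x).1 * (tupObj x).1)) := by rw [h11]; exact h
  have e := cls_idealMod_mul h h h2
  rw [cls_ideal_congr h11 h2 h] at e
  exact left_eq_mul.1 e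

theorem divCls_tupObj_succ {n : ℕ} (x : Fin (n + 1) → (T ⟶ Over.mk f)) :
    divCls (tupObj x) = divCls (tupObj fun i => x i.castSucc) * pt f (x (Fin.last n)) := by
  have hp : PicF.IsInvertible (ClSub.idealMod (graph f (x (Fin.last n))).ker) := (Groth.Agent.S8914.result _).2
    (HilbCurveLib.effCartier_of_flf (PicF.XTproj f T) (deg_graph (x (Fin.last n))).1)
  have h1 : (tupObj x).1 = (tupObj fun i => x i.castSucc).1 * (graph f (x (Fin.last n))).ker :=
    Fin.prod_univ_castSucc _
  have h2 : PicF.IsInvertible (ClSub.idealMod ((tupObj fun i => x i.castSucc).1 * (graph f (x (Fin.last n))).ker)) := by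
    rw [← h1]; exact isInvertible_obj (tupObj x)
  rw [pt_eq f _ hp, divCls, divCls, ← mul_inv, cls_ideal_congr h1 (isInvertible_obj (tupObj x)) h2,
    cls_idealMod_mul (isInvertible_obj (tupObj fun i => x i.castSucc)) hp h2]

theorem divCls_tupObj : ∀ {n : ℕ} (x : Fin n → (T ⟶ Over.mk f)), divCls (tupObj x) = ∏ i, pt f (x i)
  | 0, x => by
    rw [Finset.univ_eq_empty, Finset.prod_empty]
    exact divCls_tupObj_zero x
  | n + 1, x => by
    rw [Fin.prod_univ_castSucc, divCls_tupObj_succ, divCls_tupObj fun i => x i.castSucc]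

theorem factors_of_le_ker {x y : T ⟶ Over.mk f} {W : T.left.Opens}
    (h : (graph f x).ker.comap (W.ι ≫ graph f y) = ⊥) : W.ι ≫ y.left = W.ι ≫ x.left := by
  haveI : IsClosedImmersion (graph f x) :=
    (HilbCurveLib.deg_section (pullback.snd f T.hom) (graph f x) (pullback.lift_snd _ _ _)).1
  have hle : (graph f x).ker ≤ (W.ι ≫ graph f y).ker := by
    rw [← Scheme.IdealSheafData.map_bot (W.ι ≫ graph f y)]
    exact Scheme.IdealSheafData.le_map_iff_comap_le.2 h.le
  let l := IsClosedImmersion.lift (graph f x) (W.ι ≫ graph f y) hle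
  have hl : l ≫ graph f x = W.ι ≫ graph f y := IsClosedImmersion.lift_fac _ _ _
  have hs : ∀ z : T ⟶ Over.mk f, graph f z ≫ pullback.snd f T.hom = 𝟙 _ := fun z => pullback.lift_snd _ _ _
  have hf : ∀ z : T ⟶ Over.mk f, graph f z ≫ pullback.fst f T.hom = z.left := fun z => pullback.lift_fst _ _ _
  have e2 : l = W.ι := by
    calc l = l ≫ graph f x ≫ pullback.snd f T.hom := by rw [hs]; exact (Category.comp_id l).symm
      _ = (W.ι ≫ graph f y) ≫ pullback.snd f T.hom := by rw [← Category.assoc, hl]
      _ = W.ι := by rw [Category.assoc, hs]; exact Category.comp_id _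
  calc W.ι ≫ y.left = (W.ι ≫ graph f y) ≫ pullback.fst f T.hom := by rw [Category.assoc, hf]
    _ = (l ≫ graph f x) ≫ pullback.fst f T.hom := by rw [hl]
    _ = W.ι ≫ x.left := by rw [Category.assoc, hf, e2]

/-- Tuples of pairwise disjoint points with the same good class differ locally by a permutation. -/
theorem exists_perm_local {n : ℕ} (x y : Fin n → (T ⟶ Over.mk f))
    (hx : ∀ i j, i ≠ j → ∀ t, graph f (x i) t ≠ graph f (x j) t)
    (hy : ∀ i j, i ≠ j → ∀ t, graph f (y i) t ≠ graph f (y j) t)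
    (hgood : Good (∏ i, pt f (x i)) = Set.univ) (N : Pic T.left)
    (h : ∏ i, pt f (y i) = (∏ i, pt f (x i)) * pull (PicF.XTproj f T) N) (t : T.left) :
    ∃ (W : T.left.Opens) (σ : Equiv.Perm (Fin n)), t ∈ W ∧ ∀ j, W.ι ≫ (y j).left = W.ι ≫ (x (σ j)).left := by
  classical
  rw [← divCls_tupObj, ← divCls_tupObj] at h
  rw [← divCls_tupObj] at hgood
  have hZ : tupIdeal x = tupIdeal y := eq_of_divCls (tupObj x) (tupObj y) hgood N h
  let a : Fin n → Fin n → T.left.IdealSheafData := fun j i => (graph f (x i)).ker.comap (graph f (y j))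
  haveI : ∀ z : T ⟶ Over.mk f, IsClosedImmersion (graph f z) := fun z =>
    (HilbCurveLib.deg_section (pullback.snd f T.hom) (graph f z) (pullback.lift_snd _ _ _)).1
  have ha : ∀ j, ∏ i, a j i = ⊥ := by
    intro j
    have e : ∀ s : Finset (Fin n), (∏ i ∈ s, (graph f (x i)).ker).comap (graph f (y j)) = ∏ i ∈ s, a j i := fun s => by
      induction s using Finset.induction with
      | empty => simp only [Finset.prod_empty]; exact Scheme.IdealSheafData.comap_top _
      | insert b s hb ih => rw [Finset.prod_insert hb, Finset.prod_insert hb, BlowCompLib.comap_mul, ih]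
    rw [← e Finset.univ, show (∏ i, (graph f (x i)).ker) = tupIdeal x from rfl, hZ, eq_bot_iff,
      ← Scheme.IdealSheafData.le_map_iff_comap_le, Scheme.IdealSheafData.map_bot, tupIdeal,
      ← Finset.mul_prod_erase _ _ (Finset.mem_univ j)]
    intro U
    rw [Scheme.IdealSheafData.ideal_mul, Pi.mul_apply]
    exact Ideal.mul_le_left
  have hsupp : ∀ j i t, t ∈ (a j i).support ↔ graph f (y j) t = graph f (x i) t := by
    intro j i t
    rw [Scheme.IdealSheafData.support_comap]
    show graph f (y j) t ∈ (graph f (x i)).ker.support ↔ _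
    rw [← SetLike.mem_coe, Scheme.Hom.support_ker]
    show graph f (y j) t ∈ closure (Set.range (graph f (x i))) ↔ _
    rw [(graph f (x i)).isClosedEmbedding.isClosed_range.closure_eq]
    refine ⟨fun ⟨s, hs⟩ => ?_, fun e => ⟨t, e.symm⟩⟩
    have h1 := congrArg (PicF.XTproj f T) hs
    simp only [← Scheme.Hom.comp_apply, graph, pullback.lift_snd, PicF.XTproj] at h1
    rw [← hs]
    congr 1
  have hex : ∀ j, ∃ i, graph f (y j) t = graph f (x i) t := by
    intro j
    by_contra hne
    push Not at hne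
    have hnot : ∀ s : Finset (Fin n), t ∉ (∏ i ∈ s, a j i).support := fun s => by
      induction s using Finset.induction with
      | empty => rw [Finset.prod_empty, show (1 : T.left.IdealSheafData) = ⊤ from rfl, Scheme.IdealSheafData.support_top]; exact id
      | insert b s hb ih =>
        rw [Finset.prod_insert hb, Scheme.IdealSheafData.support_mul]
        rintro (h1 | h1)
        · exact hne b ((hsupp j b t).1 h1)
        · exact ih h1
    refine hnot Finset.univ ?_
    rw [ha j, Scheme.IdealSheafData.support_bot]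
    trivial
  choose σ hσ using hex
  have hinj : Function.Injective σ := fun j j' e => by
    by_contra hne
    exact hy j j' hne t ((hσ j).trans (e ▸ (hσ j').symm))
  let π : Equiv.Perm (Fin n) := Equiv.ofBijective σ (Finite.injective_iff_bijective.1 hinj)
  let B : Set T.left := ⋃ j, ⋃ i ∈ Finset.univ.erase (σ j), ((a j i).support : Set T.left)
  have hB : IsClosed B := isClosed_iUnion_of_finite fun j => isClosed_biUnion_finset fun i _ => (a j i).support.2
  refine ⟨⟨Bᶜ, hB.isOpen_compl⟩, π, ?_, fun j => factors_of_le_ker ?_⟩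
  · show t ∉ B
    simp only [B, Set.mem_iUnion, not_exists]
    intro j i hi h1
    exact hx (σ j) i (Finset.ne_of_mem_erase hi).symm t ((hσ j).symm.trans ((hsupp j i t).1 h1))
  · let W : T.left.Opens := ⟨Bᶜ, hB.isOpen_compl⟩
    show (graph f (x (σ j))).ker.comap (W.ι ≫ graph f (y j)) = ⊥
    have htop : ∀ s ⊆ Finset.univ.erase (σ j), (∏ i ∈ s, a j i).comap W.ι = ⊤ := fun s hs => by
      induction s using Finset.induction with
      | empty => simp only [Finset.prod_empty]; exact Scheme.IdealSheafData.comap_top _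
      | insert b s hb ih =>
        rw [Finset.prod_insert hb, BlowCompLib.comap_mul, ih (fun z hz => hs (Finset.mem_insert_of_mem hz)),
          Scheme.IdealSheafData.mul_top, ← Scheme.IdealSheafData.support_eq_bot_iff]
        refine Closeds.ext (Set.eq_empty_iff_forall_notMem.2 fun z hz => ?_)
        rw [Scheme.IdealSheafData.support_comap] at hz
        exact z.2 (Set.mem_iUnion.2 ⟨j, Set.mem_iUnion₂.2 ⟨b, hs (Finset.mem_insert_self _ _), hz⟩⟩)
    have h0 := congrArg (fun I => I.comap W.ι) (ha j)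
    simp only [← Finset.mul_prod_erase _ _ (Finset.mem_univ (σ j)), BlowCompLib.comap_mul,
      htop _ subset_rfl, Scheme.IdealSheafData.mul_top, Scheme.IdealSheafData.comap_bot] at h0
    rw [Scheme.IdealSheafData.comap_comp]
    exact h0

end Groth.Agent.JacLib
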