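import Groth.Agent.S2768
import Groth.Agent.EulerIneqLib.Basic
import Groth.Agent.AVLib.GeomInt
import Groth.Agent.CurveLib.Inv
import Groth.Agent.CurveLib.GlobalFun
import Groth.Prelude.Def_Pic
import Mathlib

/-!
# Smooth families of connected curves are smooth of relative dimension one
-/

set_option autoImplicit false
set_option backward.isDefEq.respectTransparency false
set_option backward.isDefEq.respectTransparency.types false
set_option linter.style.haveILetI false
set_option maxHeartbeats 1000000

universe u

open CategoryTheory CategoryTheory.Limits AlgebraicGeometry TopologicalSpace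

noncomputable section

namespace Groth.Agent.JacLib

theorem one_le_dim_of_open {X : Type u} [TopologicalSpace X] [IrreducibleSpace X] [JacobsonSpace X]
    [QuasiSober X] [T0Space X] (hdim : topologicalKrullDim X = 1) (U : Opens X) (hU : (U : Set X).Nonempty) :
    1 ≤ topologicalKrullDim (U : Set X) := by
  have hη : genericPoint X ∈ (U : Set X) :=
    ((genericPoint_spec X).mem_open_set_iff U.2).2 (by simpa [Set.top_eq_univ] using hU)
  haveI : IrreducibleSpace X := inferInstance
  have hnt : ∃ y ∈ (U : Set X), y ≠ genericPoint X := by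
    by_contra h
    push Not at h
    have hUη : (U : Set X) = {genericPoint X} := Set.Subset.antisymm (fun y hy => h y hy) (Set.singleton_subset_iff.2 hη)
    have hcl : IsClosed ({genericPoint X} : Set X) := by
      obtain ⟨z, hz, hzc⟩ := nonempty_inter_closedPoints (Z := (U : Set X)) hU U.2.isLocallyClosed
      rw [hUη, Set.mem_singleton_iff] at hz
      exact hz ▸ hzc
    haveI : Subsingleton X := ⟨fun a b => by
      have := genericPoint_spec X
      rw [IsGenericPoint, hcl.closure_eq] at this
      have ha : a ∈ ({genericPoint X} : Set X) := this.symm ▸ Set.mem_univ a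
      have hb : b ∈ ({genericPoint X} : Set X) := this.symm ▸ Set.mem_univ b
      exact ha.trans hb.symm⟩
    haveI : Subsingleton (IrreducibleCloseds X) := ⟨fun A B => by
      obtain ⟨a, ha⟩ := A.isIrreducible.nonempty
      obtain ⟨b, hb⟩ := B.isIrreducible.nonempty
      ext z
      exact ⟨fun _ => by rw [Subsingleton.elim z b]; exact hb, fun _ => by rw [Subsingleton.elim z a]; exact ha⟩⟩
    have h2 : topologicalKrullDim X ≤ 0 := Order.krullDim_nonpos_of_subsingleton
    rw [hdim] at h2
    exact absurd h2 (by norm_num)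
  obtain ⟨y, hyU, hy⟩ := hnt
  let a : IrreducibleCloseds ↥(U : Set X) := ⟨closure {⟨y, hyU⟩}, isIrreducible_singleton.closure, isClosed_closure⟩
  let b : IrreducibleCloseds ↥(U : Set X) := ⟨closure {⟨genericPoint X, hη⟩}, isIrreducible_singleton.closure, isClosed_closure⟩
  have hgen : ∀ z : ↥(U : Set X), (⟨genericPoint X, hη⟩ : ↥(U : Set X)) ⤳ z := fun z =>
    (subtype_specializes_iff _ _).2 ((genericPoint_spec X).specializes (Set.mem_univ _))
  have hab : a < b := by
    refine lt_of_le_of_ne ?_ fun e => hy ?_
    · show closure _ ⊆ closure _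
      exact closure_minimal (Set.singleton_subset_iff.2 (hgen _).mem_closure) isClosed_closure
    · have h1 : (⟨y, hyU⟩ : ↥(U : Set X)) ⤳ ⟨genericPoint X, hη⟩ := by
        rw [specializes_iff_mem_closure]
        have h2 : closure {(⟨y, hyU⟩ : ↥(U : Set X))} = closure {⟨genericPoint X, hη⟩} := congrArg IrreducibleCloseds.carrier e
        rw [h2]
        exact subset_closure rfl
      exact congrArg Subtype.val (h1.antisymm (hgen _)).eq
  exact Order.one_le_krullDim_iff.2 ⟨a, b, hab⟩

/-- A smooth proper family of connected curves is smooth of relative dimension one. -/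
theorem smoothOfRelativeDimension_one {C S : Scheme.{u}} (f : C ⟶ S) [IsProper f] [Smooth f]
    [GeometricallyConnected f] (hdim : ∀ s : S, topologicalKrullDim ↥(f.fiber s) = 1) :
    SmoothOfRelativeDimension 1 f := by
  refine ⟨fun x => ?_⟩
  obtain ⟨U, hU, V, hV, hxV, e, hs⟩ := Smooth.exists_isStandardSmooth f x
  obtain ⟨n, hn⟩ : ∃ n, RingHom.IsStandardSmoothOfRelativeDimension n (f.appLE U V e).hom := by
    algebraize [(f.appLE U V e).hom]
    obtain ⟨ι, σ, i1, i2, ⟨P⟩⟩ := Algebra.IsStandardSmooth.out (R := Γ(S, U)) (S := Γ(C, V))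
    exact ⟨P.dimension, P.isStandardSmoothOfRelativeDimension rfl⟩
  let g := V.ι ≫ f
  haveI : SmoothOfRelativeDimension n g := by
    haveI : IsAffine V.toScheme := hV
    refine ⟨fun v => ⟨U, hU, ⊤, isAffineOpen_top _, trivial, fun w _ => e w.2, ?_⟩⟩
    have : g.appLE U ⊤ (fun w _ => e w.2) = f.appLE U V e ≫ V.topIso.inv := by
      simp only [g, Scheme.Hom.appLE, Scheme.Hom.comp_app, Scheme.Opens.ι_app, Category.assoc,
        Scheme.Opens.topIso_inv]
      erw [← C.presheaf.map_comp, ← C.presheaf.map_comp]
      congr 1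
    rw [this]
    exact RingHom.isStandardSmoothOfRelativeDimension_respectsIso.1 _ V.topIso.symm.commRingCatIsoToRingEquiv hn
  let s := f x
  haveI := smoothOfRelativeDimension_isStableUnderBaseChange (n := n)
  haveI : SmoothOfRelativeDimension n (g.fiberToSpecResidueField s) :=
    MorphismProperty.pullback_snd (P := @SmoothOfRelativeDimension n) g (S.fromSpecResidueField s) inferInstance
  let F := f.fiber s
  let κ := S.residueField s
  letI : F.Over (Spec (CommRingCat.of κ)) := ⟨f.fiberToSpecResidueField s⟩
  haveI : IsProper (F ↘ Spec (CommRingCat.of κ)) := MorphismProperty.pullback_snd f (S.fromSpecResidueField s) inferInstance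
  haveI : Smooth (F ↘ Spec (CommRingCat.of κ)) := MorphismProperty.pullback_snd f (S.fromSpecResidueField s) inferInstance
  haveI : GeometricallyConnected (F ↘ Spec (CommRingCat.of κ)) :=
    MorphismProperty.pullback_snd f (S.fromSpecResidueField s) inferInstance
  haveI : ConnectedSpace F := GeometricallyConnected.connectedSpace_of_subsingleton (F ↘ Spec (CommRingCat.of κ))
  haveI := EulerIneqLib.isNoetherian_proper (X := F) κ
  haveI : IsIntegral F := CurveLib.isIntegral_of_smooth κ
  haveI : JacobsonSpace F := LocallyOfFiniteType.jacobsonSpace (F ↘ Spec (CommRingCat.of κ))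
  let ι : g.fiber s ⟶ F := pullback.map g _ f _ V.ι (𝟙 _) (𝟙 _) (by simp [g]) (by simp)
  haveI : IsOpenImmersion ι := by
    have h1 : IsPullback ι (g.fiberι s) (f.fiberι s) V.ι := by
      refine IsPullback.flip (IsPullback.of_bot ?_ (pullback.lift_fst _ _ _).symm (IsPullback.of_hasPullback f (S.fromSpecResidueField s)))
      have hι : ι ≫ f.fiberToSpecResidueField s = g.fiberToSpecResidueField s :=
        (pullback.lift_snd _ _ _).trans (Category.comp_id _)
      erw [hι]
      exact IsPullback.of_hasPullback g (S.fromSpecResidueField s)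
    exact MorphismProperty.of_isPullback (P := @IsOpenImmersion) h1.flip inferInstance
  obtain ⟨y, hy⟩ : (Set.univ : Set ↥(g.fiber s)).Nonempty :=
    ⟨g.asFiber ⟨x, hxV⟩, trivial⟩
  have key : ∀ W : Opens ↥(g.fiber s), y ∈ W → topologicalKrullDim (W : Set ↥(g.fiber s)) = 1 := by
    intro W hyW
    let O : Opens F := ι ''ᵁ W
    have e₁ : ↥(W : Set ↥(g.fiber s)) ≃ₜ ↥(O : Set F) :=
      Scheme.Hom.homeomorph (ι.isoImage W).hom
    rw [IsHomeomorph.topologicalKrullDim_eq e₁ e₁.isHomeomorph]
    refine le_antisymm ?_ (one_le_dim_of_open (hdim s) O ⟨ι y, y, hyW, rfl⟩)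
    exact (Topology.IsEmbedding.subtypeVal.isInducing.topologicalKrullDim_le).trans (hdim s).le
  have hn1 : FlatMor.localDim ↥(g.fiber s) y = (1 : WithBot ℕ∞) := by
    refine le_antisymm ((iInf_le _ ⟨⊤, trivial⟩).trans (key ⊤ trivial).le) (le_iInf fun W => (key W.1 W.2).ge)
  rw [S2768.localDim_eq n (g.fiberToSpecResidueField s) y] at hn1
  have : n = 1 := by exact_mod_cast hn1
  subst this
  exact ⟨U, hU, V, hV, hxV, e, hn⟩

end Groth.Agent.JacLib
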