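import Groth.Agent.PicDegLib.Main
import Groth.Agent.CurveLib.DegTensor
import Groth.Agent.CurveLib.Deg
import Groth.Prelude.Def_Pic13

/-!
# Degrees on families and on curves over a field
-/

set_option autoImplicit false
set_option backward.isDefEq.respectTransparency false
set_option backward.isDefEq.respectTransparency.types false
set_option linter.style.haveILetI false
set_option maxHeartbeats 1000000

universe u

open CategoryTheory CategoryTheory.Limits AlgebraicGeometry

noncomputable section

namespace Groth.Agent.JacLib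

variable {k : Type u} [Field k] {X : Scheme.{u}} [X.Over (Spec (CommRingCat.of k))]
  [IsProper (X ↘ Spec (CommRingCat.of k))]

theorem fiberRank_eq_finrank (G : X.Modules) [Coh.IsQCoh G] (p : ℕ) (t : Spec (CommRingCat.of k)) :
    CohIII.fiberRank (X ↘ Spec (CommRingCat.of k)) G p t = Module.finrank k (Coh.HH X G p) := by
  let g := X ↘ Spec (CommRingCat.of k)
  letI : (g.fiber t).Over (Spec (CommRingCat.of ((Spec (CommRingCat.of k)).residueField t))) :=
    ⟨g.fiberToSpecResidueField t⟩
  refine BCLib.finrank_HH_fieldExt (k := k) (k' := (Spec (CommRingCat.of k)).residueField t)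
    (g' := g.fiberι t) (φ := Spec.preimage ((Spec (CommRingCat.of k)).fromSpecResidueField t)) ?_ G p (Iso.refl _)
  rw [Spec.map_preimage]
  exact IsPullback.of_hasPullback _ _

theorem chi_eq_euler (hdim : topologicalKrullDim X ≤ 1) (G : X.Modules) [Coh.IsQCoh G]
    (t : Spec (CommRingCat.of k)) : PicDegLib.chi (X ↘ Spec (CommRingCat.of k)) G t = Curv2.euler k X G := by
  rw [CurveLib.euler_eq_sub (k := k) hdim, PicDegLib.chi, fiberRank_eq_finrank, fiberRank_eq_finrank]

/-- The degree on a family over a field is the degree of the curve. -/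
theorem deg_eq (hdim : topologicalKrullDim X ≤ 1) {L : X.Modules} (hL : PicF.IsInvertible L)
    (t : Spec (CommRingCat.of k)) :
    PicDegLib.deg (X ↘ Spec (CommRingCat.of k)) L t = Curv2.deg k X L 1 := by
  haveI := PicDegLib.isQCoh_invertible hL
  haveI : Coh.IsQCoh (Coh.structureModule X) :=
    PicDegLib.isQCoh_invertible ParaFLib.isInvertible_structureModule
  rw [PicDegLib.deg, Curv2.deg, chi_eq_euler hdim, chi_eq_euler hdim]
  simp

theorem curveDeg_eq (hdim : topologicalKrullDim X ≤ 1) (L : X.Modules) :
    Pic13.curveDeg k (X ↘ Spec (CommRingCat.of k)) L = Curv2.deg k X L 1 := by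
  have key : ∀ G : X.Modules, FGA.eulerCharLE k X G 1 = Curv2.euler k X G := fun G => by
    rw [CurveLib.euler_eq_sub (k := k) hdim]
    simp [FGA.eulerCharLE, Finset.sum_range_succ]
    ring
  show FGA.eulerCharLE k X L 1 - FGA.eulerCharLE k X (Coh.structureModule X) 1 = _
  rw [key, key, Curv2.deg]
  simp

theorem deg_cls_congr {L M : X.Modules} (e : L ≅ M) : Curv2.deg k X L 1 = Curv2.deg k X M 1 := by
  rw [Curv2.deg, Curv2.deg, CurveLib.euler_iso (K := k) e]

end Groth.Agent.JacLib
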