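import Groth.Agent.JacLib.RelDim
import Groth.Agent.CurveFF.PointIdeal
import Groth.Agent.CurveFF.CanGen
import Groth.Agent.FF.Misc
import Groth.Agent.PicLib.Group
import Mathlib.AlgebraicGeometry.AlgClosed.Basic

/-!
# Divisors of degree the genus on a curve over an algebraically closed field
-/

set_option autoImplicit false
set_option backward.isDefEq.respectTransparency false
set_option linter.style.haveILetI false
set_option maxHeartbeats 1000000

universe u

open CategoryTheory CategoryTheory.Limits AlgebraicGeometry TopologicalSpace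
open Groth.Agent.PicLib Groth.Agent.CurveFF

noncomputable section

namespace Groth.Agent.JacLib

attribute [local instance] Curv2.stalkAlgebra
attribute [local instance high] FunFld.Place.algRes

variable {k : Type u} [Field k] [IsAlgClosed k] {C : Scheme.{u}} [C.Over (Spec (CommRingCat.of k))]
  [IsProper (C ↘ Spec (CommRingCat.of k))] [IsIntegral C] [VBLib.IsRegCurve C]
  (hdim : topologicalKrullDim C = 1) (h0 : Module.finrank k (Coh.HH C (Coh.structureModule C) 0) = 1)

include hdim h0 in
theorem deg_place (P : FunFld.Place k C.functionField) : P.deg = 1 := by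
  have hK := isFunctionField k hdim h0
  haveI : Module.Finite k (IsLocalRing.ResidueField P.O) := FF.finite_residue hK P
  haveI : Algebra.IsIntegral k (IsLocalRing.ResidueField P.O) := Algebra.IsIntegral.of_finite k _
  have hb : Function.Bijective (Algebra.linearMap k (IsLocalRing.ResidueField P.O)) :=
    IsAlgClosed.algebraMap_bijective_of_isIntegral
  exact (LinearEquiv.ofBijective _ hb).finrank_eq.symm.trans (Module.finrank_self k)

include hdim h0 in
theorem deg_eq_card {n : ℕ} (P : Fin n → FunFld.Place k C.functionField) :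
    FunFld.Divisor.deg (∑ i, Finsupp.single (P i) (1 : ℤ)) = (n : ℤ) := by
  induction n with
  | zero => simpa using FF.deg_zero
  | succ n ih =>
    rw [Fin.sum_univ_succ, FF.deg_add, FF.deg_single, deg_place hdim h0, ih fun i => P i.succ]
    push_cast
    ring

include hdim h0 in
theorem exists_eq_sum {E : FunFld.Divisor k C.functionField} (hE : 0 ≤ E) (n : ℕ) (hn : E.deg = n) :
    ∃ P : Fin n → FunFld.Place k C.functionField, ∑ i, Finsupp.single (P i) (1 : ℤ) = E := by
  classical
  induction n generalizing E with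
  | zero =>
    refine ⟨Fin.elim0, ?_⟩
    rw [Finset.univ_eq_empty, Finset.sum_empty]
    by_contra hne
    obtain ⟨P, hP⟩ := Finsupp.ne_iff.1 (Ne.symm hne)
    rw [Finsupp.coe_zero, Pi.zero_apply] at hP
    have hle : Finsupp.single P (1 : ℤ) ≤ E := fun Q => by
      rcases eq_or_ne Q P with rfl | h
      · rw [Finsupp.single_eq_same]
        have := hE Q
        simp only [Finsupp.coe_zero, Pi.zero_apply] at this
        omega
      · rw [Finsupp.single_eq_of_ne h]; exact hE Q
    have := FF.deg_mono hle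
    rw [FF.deg_single, deg_place hdim h0, hn] at this
    norm_num at this
  | succ n ih =>
    obtain ⟨P, hP⟩ : ∃ P, E P ≠ 0 := by
      by_contra h
      push Not at h
      rw [show E = 0 from Finsupp.ext h, FF.deg_zero] at hn
      omega
    have hle : 0 ≤ E - Finsupp.single P (1 : ℤ) := fun Q => by
      have := hE Q
      simp only [Finsupp.coe_zero, Pi.zero_apply, Finsupp.sub_apply] at this ⊢
      rcases eq_or_ne Q P with rfl | h
      · rw [Finsupp.single_eq_same]; omega
      · rw [Finsupp.single_eq_of_ne h]; omega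
    obtain ⟨Q, hQ⟩ := ih hle (by rw [FF.deg_sub, FF.deg_single, deg_place hdim h0, hn]; push_cast; ring)
    refine ⟨Fin.cons P Q, ?_⟩
    rw [Fin.sum_univ_succ, Fin.cons_zero]
    simp only [Fin.cons_succ]
    rw [hQ]
    abel

variable (k) in
/-- A class with a given divisor. -/
def HasDiv (c : Pic C) (D : FunFld.Divisor k C.functionField) : Prop :=
  ∃ (L : C.Modules) (hL : PicF.IsInvertible L) (e : L.presheaf.stalk (genericPoint C)),
    cls hL = c ∧ IsBase L e ∧ IsDiv k hdim L e D

include h0 in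
theorem exists_hasDiv (c : Pic C) : ∃ D, HasDiv k hdim c D := by
  obtain ⟨L, hL, rfl⟩ := exists_cls c
  obtain ⟨e, he⟩ := exists_base hL
  obtain ⟨D, hD⟩ := exists_isDiv hdim h0 hL he
  exact ⟨D, L, hL, e, rfl, he, hD⟩

theorem hasDiv_one : HasDiv k hdim (1 : Pic C) 0 :=
  ⟨_, ParaFLib.isInvertible_structureModule, _, rfl, ParaFLib.bijective_oneG _, isDiv_structure hdim⟩

theorem hasDiv_mul {c d : Pic C} {D E : FunFld.Divisor k C.functionField} (hc : HasDiv k hdim c D)
    (hd : HasDiv k hdim d E) : HasDiv k hdim (c * d) (D + E) := by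
  obtain ⟨L, hL, e, rfl, he, hD⟩ := hc
  obtain ⟨M, hM, e', rfl, he', hE⟩ := hd
  exact ⟨_, AmpleLib.isInvertible_tensor hL hM, _, rfl, isBase_tensor he he', isDiv_tensor hdim hL hM he he' hD hE⟩

include h0 in
theorem hasDiv_inv {c : Pic C} {D : FunFld.Divisor k C.functionField} (hc : HasDiv k hdim c D) :
    HasDiv k hdim c⁻¹ (-D) := by
  obtain ⟨L, hL, e, rfl, he, hD⟩ := hc
  obtain ⟨N, hN, ⟨φ⟩⟩ := AmpleEmb.exists_isInverseOf hL
  obtain ⟨e', he', hD'⟩ := exists_isDiv_inverse hdim h0 hL hN φ he hD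
  refine ⟨N, hN, e', eq_inv_of_mul_eq_one_right ?_, he', hD'⟩
  exact (cls_eq_one _).2 ⟨φ⟩

theorem hasDiv_prod {ι : Type} (s : Finset ι) (c : ι → Pic C) (D : ι → FunFld.Divisor k C.functionField)
    (h : ∀ i, HasDiv k hdim (c i) (D i)) : HasDiv k hdim (∏ i ∈ s, c i) (∑ i ∈ s, D i) := by
  classical
  induction s using Finset.induction with
  | empty => rw [Finset.prod_empty, Finset.sum_empty]; exact hasDiv_one hdim
  | insert a t ha ih => rw [Finset.prod_insert ha, Finset.sum_insert ha]; exact hasDiv_mul hdim (h a) ih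

include h0 in
theorem eq_iff_of_hasDiv {c d : Pic C} {D E : FunFld.Divisor k C.functionField} (hc : HasDiv k hdim c D)
    (hd : HasDiv k hdim d E) : c = d ↔ E - D ∈ FunFld.prinDivs k C.functionField := by
  obtain ⟨L, hL, e, rfl, he, hD⟩ := hc
  obtain ⟨M, hM, e', rfl, he', hE⟩ := hd
  rw [cls_eq_cls]
  refine ⟨fun ⟨φ⟩ => ?_, fun h => nonempty_iso_of_sub_mem_prinDivs hdim h0 hL hM he hD he' hE h⟩
  have := neg_mem (sub_mem_prinDivs_of_iso hdim h0 φ he hD he' hE)
  rwa [neg_sub] at this

/-- The class of a closed point. -/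
def ptc (x : C) (hx : IsClosed ({x} : Set C)) : Pic C :=
  (cls (isDiv_pointIdeal k hdim hx).1)⁻¹

include h0 in
theorem hasDiv_ptc (x : C) (hx : IsClosed ({x} : Set C)) :
    HasDiv k hdim (ptc (k := k) hdim x hx) (Finsupp.single (placeOf k hdim x hx) 1) := by
  obtain ⟨hI, e, he, hD⟩ := isDiv_pointIdeal k hdim hx
  have := hasDiv_inv hdim h0 ⟨_, hI, e, rfl, he, hD⟩
  rwa [neg_neg] at this

include h0 in
/-- A class of degree at least the genus is the class of a sum of points. -/
theorem exists_eq_prod {L : C.Modules} (hL : PicF.IsInvertible L) (n : ℕ) (hn : Curv2.deg k C L 1 = n)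
    (hg : Curv2.genus k C ≤ n) :
    ∃ x : Fin n → {x : C // IsClosed ({x} : Set C)}, cls hL = ∏ i, ptc (k := k) hdim (x i).1 (x i).2 := by
  have hK := isFunctionField k hdim h0
  obtain ⟨e, he⟩ := exists_base hL
  obtain ⟨D, hD⟩ := exists_isDiv hdim h0 hL he
  obtain ⟨hgen, hdd⟩ := genus_and_deg hdim h0 hL he hD
  obtain ⟨K, hC⟩ := FF.exists_canonical hK
  have hl := FF.riemann_roch hK hC D
  obtain ⟨z, hz, hzL⟩ := FF.exists_ne_zero_of_ell_pos (D := D) (by omega)
  obtain ⟨P, hP⟩ := exists_eq_sum hdim h0 (FF.le_add_div_of_mem_L hK hz hzL) n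
    (by rw [FF.deg_add, FF.deg_div hK, add_zero, ← hdd, hn])
  have hs : ∀ i, ∃ x : {x : C // IsClosed ({x} : Set C)}, placeOf k hdim x.1 x.2 = P i := fun i => by
    obtain ⟨x, hx, h⟩ := placeOf_surjective hdim (P i)
    exact ⟨⟨x, hx⟩, h⟩
  choose x hx using hs
  refine ⟨x, (eq_iff_of_hasDiv hdim h0 ⟨L, hL, e, rfl, he, hD⟩
    (hasDiv_prod hdim Finset.univ _ _ fun i => hasDiv_ptc hdim h0 (x i).1 (x i).2)).2 ?_⟩
  simp only [hx, hP, add_sub_cancel_left]
  exact (FF.mem_prinDivs_iff hK).2 ⟨z, hz, rfl⟩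

include hdim h0 in
/-- A linear system of rank one has one member. -/
theorem eq_of_ell_one {D E : FunFld.Divisor k C.functionField} (hD : 0 ≤ D) (hE : 0 ≤ E) (hl : FunFld.ell D = 1)
    (h : E - D ∈ FunFld.prinDivs k C.functionField) : E = D := by
  have hK := isFunctionField k hdim h0
  obtain ⟨z, hz, hzd⟩ := (FF.mem_prinDivs_iff hK).1 h
  have hzL : z ∈ FunFld.L D := (FF.mem_L_iff_ord hz).2 fun P => by
    have h4 : FunFld.div k z P = P.ord z := FF.div_apply hK z P
    rw [hzd, Finsupp.sub_apply] at h4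
    rw [← h4, sub_add_cancel]
    exact hE P
  obtain ⟨c, hc⟩ := (finrank_eq_one_iff_of_nonzero' (⟨1, FF.one_mem_L hD⟩ : FunFld.L D)
    (fun h1 => one_ne_zero (congrArg Subtype.val h1))).1 hl ⟨z, hzL⟩
  have hc' : algebraMap k C.functionField c = z := by
    have := congrArg Subtype.val hc
    simpa [Algebra.smul_def] using this
  rw [← hc', FF.div_algebraMap hK] at hzd
  exact sub_eq_zero.1 hzd.symm

variable (k) in
include k hdim in
theorem exists_closed_not_mem (F : Finset {x : C // IsClosed ({x} : Set C)}) :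
    ∃ x : {x : C // IsClosed ({x} : Set C)}, x ∉ F := by
  haveI : JacobsonSpace C := LocallyOfFiniteType.jacobsonSpace (C ↘ Spec (CommRingCat.of k))
  let B : Set C := ⋃ y ∈ F, {y.1}
  have hB : IsClosed B := F.finite_toSet.isClosed_biUnion fun y _ => y.2
  have hne : (Bᶜ : Set C).Nonempty := ⟨genericPoint C, fun h => by
    obtain ⟨y, -, hy⟩ := Set.mem_iUnion₂.1 h
    exact ne_generic hdim y.2 (Set.mem_singleton_iff.1 hy).symm⟩
  obtain ⟨x, hx, hxc⟩ := nonempty_inter_closedPoints hne hB.isOpen_compl.isLocallyClosed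
  exact ⟨⟨x, hxc⟩, fun h => hx (Set.mem_iUnion₂.2 ⟨_, h, rfl⟩)⟩

include h0 in
/-- General points span a linear system of rank one. -/
theorem exists_ell_one : ∀ n : ℕ, n ≤ Curv2.genus k C → ∃ x : Fin n → {x : C // IsClosed ({x} : Set C)},
    FunFld.ell (∑ i, Finsupp.single (placeOf k hdim (x i).1 (x i).2) (1 : ℤ)) = 1 := by
  classical
  intro n
  have hK := isFunctionField k hdim h0
  obtain ⟨K, hC⟩ := FF.exists_canonical hK
  obtain ⟨eO, heO⟩ := exists_base (L := Coh.structureModule C) ParaFLib.isInvertible_structureModule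
  obtain ⟨DO, hDO⟩ := exists_isDiv hdim h0 ParaFLib.isInvertible_structureModule heO
  have hgen := (genus_and_deg hdim h0 ParaFLib.isInvertible_structureModule heO hDO).1
  induction n with
  | zero =>
    intro _
    refine ⟨Fin.elim0, ?_⟩
    rw [Finset.univ_eq_empty, Finset.sum_empty, FF.ell_zero hK]
  | succ n ih =>
    intro hn
    obtain ⟨x, hx⟩ := ih (by omega)
    let D : FunFld.Divisor k C.functionField := ∑ i, Finsupp.single (placeOf k hdim (x i).1 (x i).2) (1 : ℤ)
    have hxD : FunFld.ell D = 1 := hx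
    have hdeg : D.deg = n := deg_eq_card hdim h0 _
    have hD : 0 ≤ D := Finset.sum_nonneg fun i _ => Finsupp.single_nonneg.2 zero_le_one
    have hl := FF.riemann_roch hK hC D
    obtain ⟨z, hz, hzL⟩ := FF.exists_ne_zero_of_ell_pos (D := K - D) (by omega)
    let E := K - D + FunFld.div k z
    obtain ⟨y, hy⟩ := exists_closed_not_mem k hdim
      ((Finset.finite_toSet E.support).preimage (f := fun y : {x : C // IsClosed ({x} : Set C)} => placeOf k hdim y.1 y.2)
        (fun a _ b _ h => Subtype.ext (placeOf_injective hdim a.2 b.2 h))).toFinset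
    let Q := placeOf k hdim y.1 y.2
    have hQ : E Q = 0 := by
      by_contra h
      exact hy ((Set.Finite.mem_toFinset _).2 (Finsupp.mem_support_iff.2 h))
    refine ⟨Fin.cons y x, ?_⟩
    rw [Fin.sum_univ_succ, Fin.cons_zero]
    simp only [Fin.cons_succ]
    show FunFld.ell (Finsupp.single Q 1 + D) = 1
    have hle : K - (Finsupp.single Q 1 + D) ≤ K - D := by
      rw [sub_le_sub_iff_left, le_add_iff_nonneg_left]
      exact Finsupp.single_nonneg.2 zero_le_one
    have hlt : FunFld.ell (K - (Finsupp.single Q 1 + D)) < FunFld.ell (K - D) := by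
      haveI := FF.finite_L hK (K - D)
      refine Submodule.finrank_lt_finrank_of_lt (lt_of_le_of_ne (FF.L_mono hle) fun h6 => ?_)
      have h7 := (FF.mem_L_iff_ord hz).1 (h6 ▸ hzL : z ∈ FunFld.L (K - (Finsupp.single Q 1 + D))) Q
      rw [Finsupp.sub_apply, Finsupp.add_apply, Finsupp.single_eq_same] at h7
      simp only [E, Finsupp.add_apply, Finsupp.sub_apply, FF.div_apply hK] at hQ
      omega
    have hl' := FF.riemann_roch hK hC (Finsupp.single Q 1 + D)
    rw [FF.deg_add, FF.deg_single, deg_place hdim h0] at hl'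
    have hge := FF.ell_mono hK (show (0 : FunFld.Divisor k C.functionField) ≤ Finsupp.single Q 1 + D from
      add_nonneg (Finsupp.single_nonneg.2 zero_le_one) hD)
    rw [FF.ell_zero hK] at hge
    omega

end Groth.Agent.JacLib
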