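import Groth.Agent.JacLib.Point
import Groth.Agent.JacLib.Curve
import Groth.Agent.JacLib.Deg
import Groth.Agent.CurveFF.RatPoint
import Groth.Agent.CurveP1Lib.PointIdeal
import Groth.Agent.S1536
import Groth.Agent.S9777

/-!
# The curve over an algebraically closed point
-/

set_option autoImplicit false
set_option backward.isDefEq.respectTransparency false
set_option backward.isDefEq.respectTransparency.types false
set_option linter.style.haveILetI false
set_option maxHeartbeats 1600000

universe u

open CategoryTheory CategoryTheory.Limits AlgebraicGeometry TopologicalSpace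
open Groth.Agent.PicLib

noncomputable section

namespace Groth.Agent.JacLib

theorem setup_of_smooth_connected (k : Type u) [Field k] (X : Scheme.{u}) [X.Over (Spec (CommRingCat.of k))]
    [IsProper (X ↘ Spec (CommRingCat.of k))] [Smooth (X ↘ Spec (CommRingCat.of k))]
    [GeometricallyConnected (X ↘ Spec (CommRingCat.of k))] (hdim : topologicalKrullDim X = 1) :
    IsIntegral X ∧ VBLib.IsRegCurve X ∧ Module.finrank k (Coh.HH X (Coh.structureModule X) 0) = 1 := by
  haveI := AVLib.geometricallyReduced_of_smooth (X ↘ Spec (CommRingCat.of k))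
  haveI : ConnectedSpace X := GeometricallyConnected.connectedSpace_of_subsingleton (X ↘ Spec (CommRingCat.of k))
  haveI := EulerIneqLib.isNoetherian_proper (X := X) k
  haveI := CurveLib.isIntegral_of_smooth (X := X) k
  exact ⟨inferInstance, VBLib.isRegCurve_of_smooth (X := X) k hdim.le, Groth.Agent.S1536.result k X⟩

theorem ker_section {k : Type u} [Field k] {X : Scheme.{u}} (q : Spec (CommRingCat.of k) ⟶ X)
    [IsClosedImmersion q] (z : X) (hz : IsClosed ({z} : Set X)) (h : q (IsLocalRing.closedPoint k) = z) :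
    q.ker = Scheme.IdealSheafData.vanishingIdeal (⟨{z}, hz⟩ : Closeds X) := by
  have hq : Set.range q = {z} := by
    haveI : Subsingleton ↥(Spec (CommRingCat.of k)) := inferInstanceAs (Subsingleton (PrimeSpectrum k))
    rw [Set.range_eq_singleton_iff]
    exact fun x => (congrArg q (Subsingleton.elim _ _)).trans h
  have h1 : q.ker = Scheme.IdealSheafData.vanishingIdeal q.ker.support := by
    rw [Scheme.IdealSheafData.vanishingIdeal_support]
    refine le_antisymm (Scheme.IdealSheafData.le_radical _) fun U a ha => ?_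
    rw [Scheme.Hom.ker_apply, RingHom.mem_ker]
    obtain ⟨n, hn⟩ := ha
    rw [Scheme.Hom.ker_apply, RingHom.mem_ker, map_pow] at hn
    exact IsReduced.eq_zero _ ⟨n, hn⟩
  rw [h1]
  congr 1
  apply TopologicalSpace.Closeds.ext
  rw [Scheme.Hom.support_ker, q.isClosedEmbedding.isClosed_range.closure_eq, hq]
  rfl

variable {C S : Scheme.{u}} (f : C ⟶ S) [IsProper f] [SmoothOfRelativeDimension 1 f]
variable {Ω : Type u} [Field Ω] [IsAlgClosed Ω] (σ : Spec (CommRingCat.of Ω) ⟶ S)

/-- The curve over the point, with its structure. -/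
local instance overXT : (PicF.XT f (Over.mk σ)).Over (Spec (CommRingCat.of Ω)) := ⟨PicF.XTproj f (Over.mk σ)⟩

instance isProper_XT : IsProper (PicF.XT f (Over.mk σ) ↘ Spec (CommRingCat.of Ω)) :=
  inferInstanceAs (IsProper (pullback.snd f σ))

instance smooth_XT : Smooth (PicF.XT f (Over.mk σ) ↘ Spec (CommRingCat.of Ω)) :=
  haveI : Smooth f := SmoothOfRelativeDimension.smooth 1 f
  inferInstanceAs (Smooth (pullback.snd f σ))

instance geometricallyConnected_XT [GeometricallyConnected f] :
    GeometricallyConnected (PicF.XT f (Over.mk σ) ↘ Spec (CommRingCat.of Ω)) :=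
  inferInstanceAs (GeometricallyConnected (pullback.snd f σ))

theorem dim_XT (hdim : ∀ s : S, topologicalKrullDim ↥(f.fiber s) = 1) :
    topologicalKrullDim (PicF.XT f (Over.mk σ)) = 1 := by
  haveI : Subsingleton ↥(Spec (CommRingCat.of Ω)) := inferInstanceAs (Subsingleton (PrimeSpectrum Ω))
  let t : Spec (CommRingCat.of Ω) := IsLocalRing.closedPoint Ω
  have h := (Groth.Agent.S9777.result f _ (pullback.snd f σ) (pullback.fst f σ) (IsPullback.of_hasPullback f σ) t).trans
    (hdim _)
  have hu : Set.univ = (pullback.snd f σ) ⁻¹' {t} := by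
    ext z
    simp [Subsingleton.elim ((pullback.snd f σ) z) t]
  rw [← h]
  let e := (Homeomorph.Set.univ ↥(pullback f σ)).symm.trans ((Homeomorph.setCongr hu).trans
    ((pullback.snd f σ).fiberHomeo t).symm)
  exact IsHomeomorph.topologicalKrullDim_eq e e.isHomeomorph

/-- The point of a closed point of the curve. -/
def pointHom (z : PicF.XT f (Over.mk σ)) (hz : IsClosed ({z} : Set (PicF.XT f (Over.mk σ)))) :
    Over.mk σ ⟶ Over.mk f :=
  Over.homMk (pointOfClosedPoint (PicF.XT f (Over.mk σ) ↘ Spec (CommRingCat.of Ω)) z hz ≫ pullback.fst f σ) (by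
    have h := pointOfClosedPoint_comp (PicF.XT f (Over.mk σ) ↘ Spec (CommRingCat.of Ω)) z hz
    show (_ ≫ pullback.fst f σ) ≫ f = σ
    rw [Category.assoc, pullback.condition, ← Category.assoc]
    exact (congrArg (· ≫ σ) h).trans (Category.id_comp σ))

theorem graph_pointHom (z : PicF.XT f (Over.mk σ)) (hz : IsClosed ({z} : Set (PicF.XT f (Over.mk σ)))) :
    graph f (pointHom f σ z hz) = pointOfClosedPoint (PicF.XT f (Over.mk σ) ↘ Spec (CommRingCat.of Ω)) z hz := by
  apply pullback.hom_ext
  · simp [graph, pointHom]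
  · rw [graph, pullback.lift_snd]
    exact (pointOfClosedPoint_comp _ z hz).symm

variable [IsIntegral (PicF.XT f (Over.mk σ))] [VBLib.IsRegCurve (PicF.XT f (Over.mk σ))]
  (hd : topologicalKrullDim (PicF.XT f (Over.mk σ)) = 1)

/-- The closed point of a point. -/
def pointClosed (x : Over.mk σ ⟶ Over.mk f) : {z : PicF.XT f (Over.mk σ) // IsClosed ({z} : Set _)} :=
  ⟨graph f x (IsLocalRing.closedPoint Ω),
    CurveFF.isClosed_point_of_section (k := Ω) (graph f x) (pullback.lift_snd _ _ _)⟩

theorem pt_eq_ptc (x : Over.mk σ ⟶ Over.mk f) :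
    pt f x = ptc (k := Ω) hd (pointClosed f σ x).1 (pointClosed f σ x).2 := by
  haveI : IsClosedImmersion (graph f x) :=
    isClosedImmersion_of_section (pullback.snd f σ) (graph f x) (pullback.lift_snd _ _ _)
  have hk := ker_section (graph f x) _ (pointClosed f σ x).2 rfl
  have h := (CurveFF.isDiv_pointIdeal Ω hd (pointClosed f σ x).2).1
  rw [pt_eq f x (hk ▸ h), ptc]
  congr 1
  exact (cls_eq_cls _ _).2 ⟨eqToIso (by rw [hk])⟩

theorem pointClosed_pointHom (z : PicF.XT f (Over.mk σ)) (hz : IsClosed ({z} : Set (PicF.XT f (Over.mk σ)))) :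
    pointClosed f σ (pointHom f σ z hz) = ⟨z, hz⟩ :=
  Subtype.ext ((congrArg (fun q => q (IsLocalRing.closedPoint Ω)) (graph_pointHom f σ z hz)).trans
    (pointOfClosedPoint_apply _ z hz _))

theorem pointHom_pointClosed (x : Over.mk σ ⟶ Over.mk f) :
    pointHom f σ (pointClosed f σ x).1 (pointClosed f σ x).2 = x := by
  let π := PicF.XT f (Over.mk σ) ↘ Spec (CommRingCat.of Ω)
  have h := congrArg Subtype.val
    ((pointEquivClosedPoint π).symm_apply_apply ⟨graph f x, pullback.lift_snd _ _ _⟩)
  refine Over.OverMorphism.ext ?_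
  show pointOfClosedPoint π _ _ ≫ pullback.fst f σ = x.left
  exact (congrArg (· ≫ pullback.fst f σ) h).trans (pullback.lift_fst _ _ _)

theorem ptc_eq_pt (z : PicF.XT f (Over.mk σ)) (hz : IsClosed ({z} : Set (PicF.XT f (Over.mk σ)))) :
    ptc (k := Ω) hd z hz = pt f (pointHom f σ z hz) := by
  rw [pt_eq_ptc f σ hd]
  simp only [pointClosed_pointHom]

include hd in
/-- A class of degree at least the genus is a product of point classes. -/
theorem exists_eq_prod_pt (h0 : Module.finrank Ω (Coh.HH (PicF.XT f (Over.mk σ)) (Coh.structureModule _) 0) = 1)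
    {L : (PicF.XT f (Over.mk σ)).Modules} (hL : PicF.IsInvertible L) (n : ℕ)
    (hn : Curv2.deg Ω (PicF.XT f (Over.mk σ)) L 1 = n) (hg : Curv2.genus Ω (PicF.XT f (Over.mk σ)) ≤ n) :
    ∃ x : Fin n → (Over.mk σ ⟶ Over.mk f), cls hL = ∏ i, pt f (x i) := by
  obtain ⟨z, hz⟩ := exists_eq_prod hd h0 hL n hn hg
  refine ⟨fun i => pointHom f σ (z i).1 (z i).2, hz.trans ?_⟩
  exact Finset.prod_congr rfl fun i _ => ptc_eq_pt f σ hd _ _

end Groth.Agent.JacLib
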