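import Groth.Agent.JacLib.Field
import Groth.Agent.S18366
import Groth.Agent.GeomIrred.Scheme
import Groth.Agent.CurveFF.Genus
import Groth.Agent.CurveFF.BC

/-!
# Twisting by rational points: many points over a separably closed field
-/

set_option autoImplicit false
set_option backward.isDefEq.respectTransparency false
set_option backward.isDefEq.respectTransparency.types false
set_option linter.style.haveILetI false
set_option maxHeartbeats 1000000

universe u

open CategoryTheory CategoryTheory.Limits AlgebraicGeometry TopologicalSpace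
open Groth.Agent.PicLib Groth.Agent.CurveFF

noncomputable section

namespace Groth.Agent.JacLib

/-- The inverse image of the ideal of a section is the ideal of the base changed section. -/
theorem comap_ker_of_section {X X' S S' : Scheme.{u}} {f : X ⟶ S} {f' : X' ⟶ S'} {g : X' ⟶ X} {b : S' ⟶ S}
    (h : IsPullback g f' f b) (σ : S ⟶ X) [IsClosedImmersion σ] (hσ : σ ≫ f = 𝟙 S) (σ' : S' ⟶ X')
    (h1 : σ' ≫ g = b ≫ σ) (h2 : σ' ≫ f' = 𝟙 S') : σ.ker.comap g = σ'.ker := by
  have hs : IsPullback b (σ' ≫ f') (σ ≫ f) b := by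
    rw [h2, hσ]; exact IsPullback.of_vert_isIso ⟨by simp⟩
  have hsq : IsPullback σ' b g σ := (IsPullback.of_bot hs h1.symm h).flip
  haveI : IsIso σ.toImage := inferInstance
  have hι : σ.toImage ≫ σ.ker.subschemeι = σ := σ.toImage_imageι
  have hsq' : IsPullback σ' (b ≫ σ.toImage) g σ.ker.subschemeι :=
    hsq.of_iso (Iso.refl _) (Iso.refl _) (asIso σ.toImage) (Iso.refl _) (by simp) (by simp) (by simp) (by simp [hι])
  show (pullback.fst g σ.ker.subschemeι).ker = _
  rw [← hsq'.isoPullback_hom_fst, Scheme.Hom.ker_comp_of_isIso]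

section SepClosed

variable {k : Type u} [Field k] [IsSepClosed k] {X : Scheme.{u}} [X.Over (Spec (CommRingCat.of k))]
  [IsProper (X ↘ Spec (CommRingCat.of k))] [Smooth (X ↘ Spec (CommRingCat.of k))] [IsIntegral X]
  (hdim : topologicalKrullDim X = 1)

include hdim in
/-- There are rational points outside any finite set. -/
theorem exists_section_avoid {S : Set X} (hS : S.Finite) : ∃ σ : Spec (CommRingCat.of k) ⟶ X,
    σ ≫ (X ↘ Spec (CommRingCat.of k)) = 𝟙 _ ∧ σ (IsLocalRing.closedPoint k) ∉ S := by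
  haveI := EulerIneqLib.isNoetherian_proper (X := X) k
  haveI : VBLib.IsRegCurve X := VBLib.isRegCurve_of_smooth (X := X) k hdim.le
  let S' : Set X := {x ∈ S | IsClosed ({x} : Set X)}
  have hS' : IsClosed S' := by
    have h : S' = ⋃ x ∈ S', {x} := by simp
    rw [h]
    exact Set.Finite.isClosed_biUnion (hS.subset fun x hx => hx.1) fun x hx => hx.2
  let U : X.Opens := ⟨S'ᶜ, hS'.isOpen_compl⟩
  haveI : Nonempty U := ⟨⟨genericPoint X, fun h => ne_generic hdim h.2 rfl⟩⟩
  haveI := AVLib.geometricallyReduced_of_smooth (U.ι ≫ (X ↘ Spec (CommRingCat.of k)))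
  obtain ⟨s, hs⟩ := Groth.Agent.S18366.result k (U.ι ≫ (X ↘ Spec (CommRingCat.of k)))
  refine ⟨s ≫ U.ι, by rw [Category.assoc]; exact hs, fun h => ?_⟩
  have h2 := isClosed_point_of_section (s ≫ U.ι) (by rw [Category.assoc]; exact hs)
  exact (s (IsLocalRing.closedPoint k)).2 ⟨h, h2⟩

omit [Smooth (X ↘ Spec (CommRingCat.of k))] in
theorem geometricallyConnected_of_sepClosed : GeometricallyConnected (X ↘ Spec (CommRingCat.of k)) :=
  GeomIrred.geometricallyConnected_of_connectedSpace _

include hdim in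
theorem setup_sepClosed : VBLib.IsRegCurve X ∧ Module.finrank k (Coh.HH X (Coh.structureModule X) 0) = 1 := by
  haveI := geometricallyConnected_of_sepClosed (k := k) (X := X)
  exact (setup_of_smooth_connected k X hdim).2

end SepClosed

section Curve

attribute [local instance] Curv2.stalkAlgebra
attribute [local instance] Curv2.resAlgebra
attribute [local instance high] FunFld.Place.algRes

variable {K : Type u} [Field K] {Y : Scheme.{u}} [Y.Over (Spec (CommRingCat.of K))]
  [IsProper (Y ↘ Spec (CommRingCat.of K))] [IsIntegral Y] [VBLib.IsRegCurve Y]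
  (hdim : topologicalKrullDim Y = 1) (h0 : Module.finrank K (Coh.HH Y (Coh.structureModule Y) 0) = 1)

omit [IsIntegral Y] [VBLib.IsRegCurve Y] [IsProper (Y ↘ Spec (CommRingCat.of K))] in
theorem finrank_eq_of_cls {L M : Y.Modules} {hL : PicF.IsInvertible L} {hM : PicF.IsInvertible M}
    (h : cls hL = cls hM) (p : ℕ) : Module.finrank K (Coh.HH Y L p) = Module.finrank K (Coh.HH Y M p) :=
  ShBCLib.finrank_HH_iso ((cls_eq_cls hL hM).1 h).some p

include hdim in
/-- The ideal of a rational point. -/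
theorem section_divisor (s : Spec (CommRingCat.of K) ⟶ Y) (hs : s ≫ (Y ↘ Spec (CommRingCat.of K)) = 𝟙 _) :
    ∃ (h : PicF.IsInvertible (ClSub.idealMod s.ker)) (hc : IsClosed ({s (IsLocalRing.closedPoint K)} : Set Y)) (e : _),
      IsBase (ClSub.idealMod s.ker) e ∧
      IsDiv K hdim (ClSub.idealMod s.ker) e (-Finsupp.single (placeOf K hdim _ hc) 1) ∧
      (placeOf K hdim _ hc).deg = 1 := by
  haveI : IsClosedImmersion s := isClosedImmersion_of_section _ s hs
  have hc := isClosed_point_of_section s hs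
  obtain ⟨hI, e, he, hD⟩ := isDiv_pointIdeal K hdim hc
  rw [ker_section s _ hc rfl]
  refine ⟨hI, hc, e, he, hD, ?_⟩
  rw [deg_placeOf]
  exact ((RingEquiv.ofBijective _ (resMap_bijective_of_section s hs)).toAddEquiv.toLinearEquiv (R := K) (M := K)
    (M₂ := Y.residueField (s (IsLocalRing.closedPoint K))) fun c d => by
      show Curv2.resMap K Y _ (c * d) = Curv2.resMap K Y _ c * Curv2.resMap K Y _ d
      exact map_mul _ _ _).finrank_eq.symm.trans (Module.finrank_self K)

include hdim h0 in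
/-- Subtracting a general rational point. -/
theorem twist_step {L : Y.Modules} (hL : PicF.IsInvertible L) (h1 : Subsingleton (Coh.HH Y L 1))
    (hpos : 0 < Module.finrank K (Coh.HH Y L 0)) :
    ∃ B : Set Y, B.Finite ∧ ∀ (s : Spec (CommRingCat.of K) ⟶ Y), s ≫ (Y ↘ Spec (CommRingCat.of K)) = 𝟙 _ →
      s (IsLocalRing.closedPoint K) ∉ B → ∀ (M : Y.Modules) (hM : PicF.IsInvertible M)
      (hI : PicF.IsInvertible (ClSub.idealMod s.ker)), cls hM = cls hL * cls hI →
        Module.finrank K (Coh.HH Y M 0) + 1 = Module.finrank K (Coh.HH Y L 0) ∧ Subsingleton (Coh.HH Y M 1) := by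
  classical
  have hK := isFunctionField K hdim h0
  haveI := EulerIneqLib.isNoetherian_proper (X := Y) K
  obtain ⟨e, he⟩ := exists_base hL
  obtain ⟨D, hD⟩ := exists_isDiv hdim h0 hL he
  rw [finrank_H0_eq_ell hdim hL he hD] at hpos ⊢
  obtain ⟨z, hz, hzL⟩ := FF.exists_ne_zero_of_ell_pos hpos
  let E := D + FunFld.div K z
  refine ⟨(fun P => ((placeEquiv K hdim).symm P).1) '' (E.support : Set (FunFld.Place K Y.functionField)),
    E.support.finite_toSet.image _, fun s hs hB M hM hI hcls => ?_⟩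
  obtain ⟨hI', hc, e', he', hD', hdeg1⟩ := section_divisor hdim s hs
  set P := placeOf K hdim (s (IsLocalRing.closedPoint K)) hc
  have hP : E P = 0 := by
    by_contra h
    refine hB ⟨P, Finsupp.mem_support_iff.2 h, ?_⟩
    exact congrArg Subtype.val ((placeEquiv K hdim).symm_apply_apply ⟨_, hc⟩)
  have hT := AmpleLib.isInvertible_tensor hL hI
  obtain ⟨φ⟩ := (cls_eq_cls hM hT).1 (hcls.trans (cls_tensor hL hI).symm)
  have hDT : IsDiv K hdim _ (tensorBase e e') (D + -Finsupp.single P 1) := isDiv_tensor hdim hL hI he he' hD hD'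
  obtain ⟨gT, dT⟩ := genus_and_deg hdim h0 hT (isBase_tensor he he') hDT
  obtain ⟨-, dL⟩ := genus_and_deg hdim h0 hL he hD
  rw [FF.deg_add, FF.deg_neg, FF.deg_single, hdeg1, ← CurveLib.deg_iso φ] at dT
  have hle : D + -Finsupp.single P 1 ≤ D := by
    rw [add_le_iff_nonpos_right, neg_nonpos]; exact Finsupp.single_nonneg.2 zero_le_one
  have hlt : FunFld.ell (D + -Finsupp.single P 1) < FunFld.ell D := by
    haveI := FF.finite_L hK D
    refine Submodule.finrank_lt_finrank_of_lt (lt_of_le_of_ne (FF.L_mono hle) fun h6 => ?_)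
    have h7 := (FF.mem_L_iff_ord hz).1 (h6 ▸ hzL : z ∈ FunFld.L (D + -Finsupp.single P 1)) P
    rw [Finsupp.add_apply, Finsupp.neg_apply, Finsupp.single_eq_same] at h7
    simp only [E, Finsupp.add_apply, FF.div_apply hK] at hP
    omega
  rw [← finrank_H0_eq_ell hdim hT (isBase_tensor he he') hDT, ← ShBCLib.finrank_HH_iso φ 0] at hlt
  haveI := EulerIneqLib.finite_HH (k := K) (CurveLib.isCoh_of_isInvertible hM) 1
  have eM := CurveLib.euler_eq_sub (k := K) (M := M) hdim.le
  have eL := CurveLib.euler_eq_sub (k := K) (M := L) hdim.le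
  rw [show Module.finrank K (Coh.HH Y L 1) = 0 from Module.finrank_zero_of_subsingleton,
    finrank_H0_eq_ell hdim hL he hD] at eL
  unfold Curv2.deg at dL dT
  have hM1 : Module.finrank K (Coh.HH Y M 1) = 0 := by omega
  refine ⟨by omega, (Module.finrank_eq_zero_iff_of_free K _).1 hM1⟩

end Curve

end Groth.Agent.JacLib

namespace Groth.Agent.JacLib

section Main

attribute [local instance] Curv2.stalkAlgebra
attribute [local instance] Curv2.resAlgebra
attribute [local instance high] FunFld.Place.algRes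

variable {k : Type u} [Field k] [IsSepClosed k] {X : Scheme.{u}} [X.Over (Spec (CommRingCat.of k))]
  [IsProper (X ↘ Spec (CommRingCat.of k))] [Smooth (X ↘ Spec (CommRingCat.of k))] [IsIntegral X]
  (hdim : topologicalKrullDim X = 1)
  {K : Type u} [Field K] [Algebra k K] {XK : Scheme.{u}} [XK.Over (Spec (CommRingCat.of K))] {g : XK ⟶ X}
  (hpb : IsPullback g (XK ↘ Spec (CommRingCat.of K)) (X ↘ Spec (CommRingCat.of k))
    (Spec.map (CommRingCat.ofHom (algebraMap k K))))

include hdim hpb in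
/-- The base change of the curve. -/
theorem setup_XK : IsProper (XK ↘ Spec (CommRingCat.of K)) ∧ IsIntegral XK ∧ VBLib.IsRegCurve XK ∧
    topologicalKrullDim XK = 1 ∧ Module.finrank K (Coh.HH XK (Coh.structureModule XK) 0) = 1 := by
  haveI := geometricallyConnected_of_sepClosed (k := k) (X := X)
  haveI : IsProper (XK ↘ Spec (CommRingCat.of K)) :=
    MorphismProperty.of_isPullback (P := @IsProper) hpb inferInstance
  haveI : Smooth (XK ↘ Spec (CommRingCat.of K)) :=
    MorphismProperty.of_isPullback (P := @Smooth) hpb inferInstance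
  haveI : GeometricallyConnected (XK ↘ Spec (CommRingCat.of K)) :=
    MorphismProperty.of_isPullback (P := @GeometricallyConnected) hpb inferInstance
  let y : Spec (CommRingCat.of K) := IsLocalRing.closedPoint K
  have h := Groth.Agent.S9777.result (X ↘ Spec (CommRingCat.of k)) _ (XK ↘ Spec (CommRingCat.of K)) g hpb y
  rw [topologicalKrullDim_fiber_eq, topologicalKrullDim_fiber_eq, hdim] at h
  obtain ⟨h1, h2, h3⟩ := setup_of_smooth_connected K XK h
  exact ⟨inferInstance, h1, h2, h, h3⟩

include hdim hpb in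
/-- Pull back of the ideal of a rational point. -/
theorem exists_bc_section (σ : Spec (CommRingCat.of k) ⟶ X) (hσ : σ ≫ (X ↘ Spec (CommRingCat.of k)) = 𝟙 _) :
    ∃ (s : Spec (CommRingCat.of K) ⟶ XK) (h : PicF.IsInvertible (ClSub.idealMod σ.ker))
      (h' : PicF.IsInvertible (ClSub.idealMod s.ker)), s ≫ (XK ↘ Spec (CommRingCat.of K)) = 𝟙 _ ∧
        g (s (IsLocalRing.closedPoint K)) = σ (IsLocalRing.closedPoint k) ∧ pull g (cls h) = cls h' := by
  haveI : VBLib.IsRegCurve X := (setup_sepClosed (k := k) hdim).1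
  obtain ⟨_, _, _, hdK, -⟩ := setup_XK hdim hpb
  let s := hpb.lift (Spec.map (CommRingCat.ofHom (algebraMap k K)) ≫ σ) (𝟙 _) (by simp [hσ])
  obtain ⟨h, -⟩ := section_divisor hdim σ hσ
  obtain ⟨h', -⟩ := section_divisor hdK s (hpb.lift_snd _ _ _)
  refine ⟨s, h, h', hpb.lift_snd _ _ _, ?_, ?_⟩
  · rw [← Scheme.Hom.comp_apply, hpb.lift_fst]
    haveI : Subsingleton ↥(Spec (CommRingCat.of k)) := inferInstanceAs (Subsingleton (PrimeSpectrum k))
    exact congrArg σ (Subsingleton.elim _ _)
  · haveI := isClosedImmersion_of_section _ σ hσ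
    have hk := comap_ker_of_section hpb σ hσ s (hpb.lift_fst _ _ _) (hpb.lift_snd _ _ _)
    obtain ⟨e⟩ := nonempty_iso_pullback_idealMod g _ ((Groth.Agent.S8914.result _).1 h)
      (by rw [hk]; exact (Groth.Agent.S8914.result _).1 h')
    rw [pull_cls]
    exact (cls_eq_cls _ _).2 ⟨e ≪≫ eqToIso (by rw [hk])⟩

include hdim hpb in
/-- Twisting down to one section. -/
theorem exists_twist_down : ∀ (n : ℕ) (L : XK.Modules) (hL : PicF.IsInvertible L),
    Subsingleton (Coh.HH XK L 1) → Module.finrank K (Coh.HH XK L 0) = n + 1 →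
    ∃ (c : Pic X) (M : XK.Modules) (hM : PicF.IsInvertible M), cls hM = cls hL * pull g c ∧
      Module.finrank K (Coh.HH XK M 0) = 1 ∧ Subsingleton (Coh.HH XK M 1)
  | 0, L, hL, h1, h0 => ⟨1, L, hL, by rw [map_one, mul_one], h0, h1⟩
  | n + 1, L, hL, h1, h0 => by
    obtain ⟨_, _, _, hdK, hh⟩ := setup_XK hdim hpb
    obtain ⟨B, hB, hstep⟩ := twist_step hdK hh hL h1 (by omega)
    obtain ⟨σ, hσ, hav⟩ := exists_section_avoid (k := k) hdim (hB.image g)
    obtain ⟨s, h, h', hs, hgs, hcls⟩ := exists_bc_section hdim hpb σ hσ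
    obtain ⟨a, b⟩ := hstep s hs (fun hb => hav ⟨_, hb, hgs⟩) _ (AmpleLib.isInvertible_tensor hL h') h'
      (cls_tensor hL h')
    obtain ⟨c, M, hM, hc, r0, r1⟩ := exists_twist_down n _ (AmpleLib.isInvertible_tensor hL h') b (by omega)
    exact ⟨cls h * c, M, hM, by rw [hc, cls_tensor, map_mul, hcls, mul_assoc], r0, r1⟩

include hdim hpb in
/-- Twisting up to positive sections without first cohomology. -/
theorem exists_twist_up {L : XK.Modules} (hL : PicF.IsInvertible L) :
    ∃ (c : Pic X) (M : XK.Modules) (hM : PicF.IsInvertible M), cls hM = cls hL * pull g c ∧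
      0 < Module.finrank K (Coh.HH XK M 0) ∧ Subsingleton (Coh.HH XK M 1) := by
  obtain ⟨_, _, _, hdK, hh⟩ := setup_XK hdim hpb
  haveI := EulerIneqLib.isNoetherian_proper (X := XK) K
  obtain ⟨σ, hσ, -⟩ := exists_section_avoid (k := k) hdim (Set.finite_empty (α := X))
  obtain ⟨s, h, h', hs, -, hcls⟩ := exists_bc_section hdim hpb σ hσ
  obtain ⟨hI, hc, e, he, hD, hdeg⟩ := section_divisor hdK s hs
  have hdI : Curv2.deg K XK (ClSub.idealMod s.ker) 1 = -1 := by
    rw [(genus_and_deg hdK hh hI he hD).2, FF.deg_neg, FF.deg_single, hdeg]; norm_num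
  obtain ⟨J, hJ, ⟨φ⟩⟩ := AmpleEmb.exists_isInverseOf h'
  have hdJ : Curv2.deg K XK J 1 = 1 := by
    have h3 := CurveLib.deg_tensor_add (k := K) hdK.le h' hJ
    rw [CurveLib.deg_iso φ, CurveLib.deg_structureModule, hdI] at h3
    omega
  obtain ⟨n, hn⟩ : ∃ n : ℕ, n = 2 * Curv2.genus K XK + (Curv2.deg K XK L 1).natAbs + 1 := ⟨_, rfl⟩
  let M := CohB1.tensorMod L (CohB1.tensorPow J n)
  have hM : PicF.IsInvertible M := AmpleLib.isInvertible_tensor hL (AmpleLib.isInvertible_tensorPow hJ n)
  have hdM : Curv2.deg K XK M 1 = Curv2.deg K XK L 1 + n := by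
    rw [CurveLib.deg_tensor_add (k := K) hdK.le hL (AmpleLib.isInvertible_tensorPow hJ n),
      CurveLib.deg_tensorPow (k := K) hdK.le hJ, hdJ]
    ring
  have h1 : Subsingleton (Coh.HH XK M 1) := subsingleton_H1 hdK hh hM (by omega)
  have e1 := CurveLib.euler_eq_sub (k := K) (M := M) hdK.le
  have e2 := CurveLib.euler_eq_sub (k := K) (M := Coh.structureModule XK) hdK.le
  rw [show Module.finrank K (Coh.HH XK M 1) = 0 from Module.finrank_zero_of_subsingleton] at e1
  rw [hh] at e2
  have hg : Module.finrank K (Coh.HH XK (Coh.structureModule XK) 1) = Curv2.genus K XK := rfl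
  rw [hg] at e2
  unfold Curv2.deg at hdM hdI hn
  refine ⟨(cls h)⁻¹ ^ n, M, hM, ?_, by omega, h1⟩
  show cls (AmpleLib.isInvertible_tensor hL (AmpleLib.isInvertible_tensorPow hJ n)) = _
  rw [map_pow, map_inv, hcls, cls_tensor hL (AmpleLib.isInvertible_tensorPow hJ n), cls_tensorPow hJ n]
  congr 2
  exact eq_inv_of_mul_eq_one_right ((cls_tensor h' hJ).symm.trans ((cls_eq_one _).2 ⟨φ⟩))

include hdim hpb in
/-- A twist with exactly one section and no first cohomology. -/
theorem exists_twist {L : XK.Modules} (hL : PicF.IsInvertible L) :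
    ∃ L₀ : X.Modules, PicF.IsInvertible L₀ ∧
      Module.finrank K (Coh.HH XK (CohB1.tensorMod L ((Scheme.Modules.pullback g).obj L₀)) 0) = 1 ∧
      Subsingleton (Coh.HH XK (CohB1.tensorMod L ((Scheme.Modules.pullback g).obj L₀)) 1) := by
  obtain ⟨_, _, _, hdK, hh⟩ := setup_XK hdim hpb
  haveI := EulerIneqLib.isNoetherian_proper (X := XK) K
  obtain ⟨a, M, hM, ha, hpos, h1⟩ := exists_twist_up hdim hpb hL
  obtain ⟨n, hn⟩ := Nat.exists_eq_add_of_le' hpos
  obtain ⟨c, N, hN, hc, r0, r1⟩ := exists_twist_down hdim hpb n M hM h1 hn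
  obtain ⟨L₀, h₀, hcl⟩ := exists_cls (a * c)
  have hT := AmpleLib.isInvertible_tensor hL (AmpleLib.isInvertible_pullback g h₀)
  have he : cls hT = cls hN := by
    rw [cls_tensor, hc, ha, mul_assoc, ← map_mul, ← hcl]
    rfl
  refine ⟨L₀, h₀, (finrank_eq_of_cls he 0).trans r0, ?_⟩
  haveI := EulerIneqLib.finite_HH (k := K) (CurveLib.isCoh_of_isInvertible hT) 1
  refine (Module.finrank_eq_zero_iff_of_free K _).1 ((finrank_eq_of_cls he 1).trans ?_)
  exact Module.finrank_zero_of_subsingleton

end Main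

end Groth.Agent.JacLib
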