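import Groth.Agent.JacLib.RelDim
import Groth.Agent.JacLib.IdealPull
import Groth.Agent.HilbCurveLib.Divisor
import Groth.Agent.InvDescLib.RelPic
import Groth.Agent.PicLib.Group

/-!
# The class of the diagonal and the classes of points
-/

set_option autoImplicit false
set_option backward.isDefEq.respectTransparency false
set_option backward.isDefEq.respectTransparency.types false
set_option linter.style.haveILetI false
set_option maxHeartbeats 1000000

universe u

open CategoryTheory CategoryTheory.Limits AlgebraicGeometry
open Groth.Agent.PicLib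

noncomputable section

namespace Groth.Agent.JacLib

theorem isClosedImmersion_of_section {X Y : Scheme.{u}} (g : X ⟶ Y) [IsSeparated g] (σ : Y ⟶ X)
    (hσ : σ ≫ g = 𝟙 Y) : IsClosedImmersion σ :=
  haveI : IsClosedImmersion (σ ≫ g) := by rw [hσ]; infer_instance
  IsClosedImmersion.of_comp σ g

theorem isIso_subschemeι_comp_of_section {X Y : Scheme.{u}} (g : X ⟶ Y) [IsSeparated g] (σ : Y ⟶ X)
    (hσ : σ ≫ g = 𝟙 Y) : IsIso (σ.ker.subschemeι ≫ g) := by
  haveI := isClosedImmersion_of_section g σ hσ
  haveI : IsIso σ.toImage := inferInstance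
  have h : σ.toImage ≫ σ.ker.subschemeι ≫ g = 𝟙 Y := by
    rw [← Category.assoc]
    exact (congrArg (· ≫ g) σ.toImage_imageι).trans hσ
  have h' : σ.ker.subschemeι ≫ g = inv σ.toImage := by
    rw [← cancel_epi σ.toImage, h, IsIso.hom_inv_id]
  rw [h']
  infer_instance

/-- A section of a smooth curve family is an effective Cartier divisor. -/
theorem isEffCartier_ker_of_section {X Y : Scheme.{u}} (g : X ⟶ Y) [IsSeparated g]
    [SmoothOfRelativeDimension 1 g] (σ : Y ⟶ X) (hσ : σ ≫ g = 𝟙 Y) : BlowUp.IsEffCartierIdeal σ.ker := by
  haveI := isIso_subschemeι_comp_of_section g σ hσ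
  exact HilbCurveLib.isEffCartier_of_lqf g σ.ker

theorem isInvertible_ker_of_section {X Y : Scheme.{u}} (g : X ⟶ Y) [IsSeparated g]
    [SmoothOfRelativeDimension 1 g] (σ : Y ⟶ X) (hσ : σ ≫ g = 𝟙 Y) : PicF.IsInvertible (ClSub.idealMod σ.ker) :=
  (Groth.Agent.S8914.result _).2 (isEffCartier_ker_of_section g σ hσ)

section Classes

variable {C S : Scheme.{u}} (f : C ⟶ S) [IsSeparated f] [SmoothOfRelativeDimension 1 f]

theorem isInvertible_diag : PicF.IsInvertible (ClSub.idealMod (pullback.diagonal f).ker) := by
  haveI := smoothOfRelativeDimension_isStableUnderBaseChange (n := 1)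
  haveI : SmoothOfRelativeDimension 1 (pullback.snd f f) :=
    MorphismProperty.pullback_snd (P := @SmoothOfRelativeDimension 1) f f inferInstance
  exact isInvertible_ker_of_section (pullback.snd f f) (pullback.diagonal f) (pullback.diagonal_snd f)

/-- The class of the diagonal, as a family of degree one classes. -/
def dClass : Pic (PicF.XT f (Over.mk f)) := (cls (L := ClSub.idealMod (pullback.diagonal f).ker) (isInvertible_diag f))⁻¹

/-- The class of a point. -/
def pt {T : Over S} (x : T ⟶ Over.mk f) : Pic (PicF.XT f T) := pull (PicF.XTmap f x) (dClass f)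

theorem pt_comp {T T' : Over S} (g : T' ⟶ T) (x : T ⟶ Over.mk f) :
    pull (PicF.XTmap f g) (pt f x) = pt f (g ≫ x) :=
  InvDescLib.pull_XTmap_XTmap x g rfl _

/-- The graph of a point. -/
def graph {T : Over S} (x : T ⟶ Over.mk f) : T.left ⟶ PicF.XT f T :=
  pullback.lift x.left (𝟙 _) (by rw [Category.id_comp]; exact Over.w x)

/-- The class of a point is the inverse of the ideal of its graph. -/
theorem pt_eq {T : Over S} (x : T ⟶ Over.mk f) (h : PicF.IsInvertible (ClSub.idealMod (graph f x).ker)) :
    pt f x = (cls h)⁻¹ := by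
  haveI := smoothOfRelativeDimension_isStableUnderBaseChange (n := 1)
  haveI : SmoothOfRelativeDimension 1 (pullback.snd f f) :=
    MorphismProperty.pullback_snd (P := @SmoothOfRelativeDimension 1) f f inferInstance
  have hcomap : (pullback.diagonal f).ker.comap (PicF.XTmap f x) = (graph f x).ker := by
    haveI : IsClosedImmersion (pullback.diagonal f) := inferInstance
    haveI : IsIso (pullback.diagonal f).toImage := inferInstance
    have hι : (pullback.diagonal f).toImage ≫ (pullback.diagonal f).ker.subschemeι = pullback.diagonal f :=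
      (pullback.diagonal f).toImage_imageι
    have hsq : IsPullback (graph f x) x.left (PicF.XTmap f x) (pullback.diagonal f) := by
      have w1 : graph f x ≫ PicF.XTmap f x = x.left ≫ pullback.diagonal f := by
        apply pullback.hom_ext
        · simp [graph, PicF.XTmap, pullback.map]
        · simp [graph, PicF.XTmap, pullback.map]
          exact Category.id_comp _
      refine ⟨⟨w1⟩, ⟨PullbackCone.IsLimit.mk _ (fun c => c.fst ≫ PicF.XTproj f T) (fun c => ?_) (fun c => ?_)
        (fun c m hm _ => ?_)⟩⟩
      · have h1 := congrArg (· ≫ pullback.fst f f) c.condition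
        have h2 := congrArg (· ≫ pullback.snd f f) c.condition
        simp [PicF.XTmap, pullback.map] at h1 h2
        apply pullback.hom_ext
        · simp [graph, h2, h1]
        · simp [graph]
      · have h2 := congrArg (· ≫ pullback.snd f f) c.condition
        simp [PicF.XTmap, pullback.map] at h2
        simpa using h2
      · have h3 := congrArg (· ≫ PicF.XTproj f T) hm
        simpa [graph] using h3
    show (pullback.fst (PicF.XTmap f x) (pullback.diagonal f).ker.subschemeι).ker = _
    have hsq' : IsPullback (graph f x) (x.left ≫ (pullback.diagonal f).toImage) (PicF.XTmap f x)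
        (pullback.diagonal f).ker.subschemeι :=
      hsq.of_iso (Iso.refl _) (Iso.refl _) (asIso (pullback.diagonal f).toImage) (Iso.refl _) (by simp) (by simp)
        (by simp) (by simp [hι])
    rw [← hsq'.isoPullback_hom_fst, Scheme.Hom.ker_comp_of_isIso]
  have hE : BlowUp.IsEffCartierIdeal ((pullback.diagonal f).ker.comap (PicF.XTmap f x)) := by
    rw [hcomap]; exact (Groth.Agent.S8914.result _).1 h
  obtain ⟨e⟩ := nonempty_iso_pullback_idealMod (PicF.XTmap f x) _
    ((Groth.Agent.S8914.result _).1 (isInvertible_diag f)) hE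
  rw [pt, dClass, map_inv, pull_cls]
  congr 1
  exact (cls_eq_cls _ _).2 ⟨e ≪≫ eqToIso (by rw [hcomap])⟩

end Classes

end Groth.Agent.JacLib
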