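import Groth.Agent.JacLib.PicZero
import Groth.Agent.DimFormulaLib.Scheme
import Groth.Agent.S10841
import Groth.Agent.S4715
import Mathlib.AlgebraicGeometry.ZariskisMainTheorem

/-!
# `Pic⁰` of a curve over an algebraically closed field has dimension the genus
-/

set_option autoImplicit false
set_option backward.isDefEq.respectTransparency false
set_option backward.isDefEq.respectTransparency.types false
set_option linter.style.haveILetI false
set_option maxHeartbeats 1600000

universe u

open CategoryTheory CategoryTheory.Limits AlgebraicGeometry TopologicalSpace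
open Groth.Agent.PicLib Groth.Agent.AbDualLib

noncomputable section

namespace Groth.Agent.JacLib

attribute [local instance] Curv2.stalkAlgebra
attribute [local instance high] FunFld.Place.algRes

theorem topologicalKrullDim_of_smooth {k : Type u} [Field k] {X : Scheme.{u}} (g : X ⟶ Spec (CommRingCat.of k))
    (n : ℕ) [SmoothOfRelativeDimension n g] [Nonempty X] : topologicalKrullDim X = (n : WithBot ℕ∞) := by
  rw [DimFormulaLib.topologicalKrullDim_eq_iSup_localDim]
  simp [Groth.Agent.S2768.localDim_eq n g]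

variable {Ω : Type u} [Field Ω] [IsAlgClosed Ω] {C : Scheme.{u}} (f : C ⟶ Spec (CommRingCat.of Ω))
  [IsProper f] [Smooth f] [GeometricallyConnected f] (hdim : ∀ s, topologicalKrullDim ↥(f.fiber s) = 1)
variable {P₀ : Over (Spec (CommRingCat.of Ω))}
  {φ₀ : ∀ T : Over (Spec (CommRingCat.of Ω)), PicF.Cl (PicF.XT f T) → (T ⟶ P₀)}
  (hP₀ : AbDual.IsRelPicZeroK Scheme.fppfPrecoverage f P₀ φ₀) [LocallyOfFiniteType P₀.hom]

include hdim hP₀ in
/-- The dimension of `Pic⁰` is the genus. -/
theorem dim_eq_genus :
    topologicalKrullDim P₀.left =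
      (CohIII.fiberRank f (Coh.structureModule C) 1 (IsLocalRing.closedPoint Ω) : WithBot ℕ∞) := by
  classical
  haveI : Subsingleton ↥(Spec (CommRingCat.of Ω)) := inferInstanceAs (Subsingleton (PrimeSpectrum Ω))
  haveI : SmoothOfRelativeDimension 1 f := smoothOfRelativeDimension_one f hdim
  let n := CohIII.fiberRank f (Coh.structureModule C) 1 (IsLocalRing.closedPoint Ω)
  -- a rational point
  haveI : ConnectedSpace C := GeometricallyConnected.connectedSpace_of_subsingleton f
  haveI : JacobsonSpace C := LocallyOfFiniteType.jacobsonSpace f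
  obtain ⟨zc, -, hzc⟩ := nonempty_inter_closedPoints (Z := (Set.univ : Set C)) Set.univ_nonempty isOpen_univ.isLocallyClosed
  let e : Spec (CommRingCat.of Ω) ⟶ C := pointOfClosedPoint f zc hzc
  have he : e ≫ f = 𝟙 _ := pointOfClosedPoint_comp f zc hzc
  let W := pow f n
  let a := abel f e he φ₀ n
  haveI := geometricallyConnected_pow f n
  haveI : ConnectedSpace W.left := GeometricallyConnected.connectedSpace_of_subsingleton W.hom
  haveI : IsLocallyNoetherian W.left := LocallyOfFiniteType.isLocallyNoetherian W.hom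
  haveI : CompactSpace W.left := QuasiCompact.compactSpace_of_compactSpace W.hom
  haveI : IsNoetherian W.left := ⟨⟩
  haveI : IsLocallyNoetherian P₀.left := LocallyOfFiniteType.isLocallyNoetherian P₀.hom
  letI : W.left.Over (Spec (CommRingCat.of Ω)) := ⟨W.hom⟩
  haveI : IsProper (W.left ↘ Spec (CommRingCat.of Ω)) := isProper_pow f n
  haveI : Smooth (W.left ↘ Spec (CommRingCat.of Ω)) := smooth_pow f n
  haveI : IsIntegral W.left := CurveLib.isIntegral_of_smooth Ω
  haveI hsurj : Surjective a.left := surjective_abel f hdim hP₀ e he (fun s => le_of_eq (by rw [Subsingleton.elim s]))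
  haveI : IrreducibleSpace P₀.left := by
    rw [irreducibleSpace_def, Set.top_eq_univ, ← Set.range_eq_univ.mpr hsurj.surj, ← Set.image_univ]
    exact (IrreducibleSpace.isIrreducible_univ W.left).image _ a.left.continuous.continuousOn
  haveI : CompactSpace P₀.left := hsurj.surj.compactSpace a.left.continuous
  haveI : QuasiCompact P₀.hom := (HasAffineProperty.iff_of_isAffine (P := @QuasiCompact)).2 inferInstance
  haveI : LocallyOfFiniteType (a.left ≫ P₀.hom) := by rw [Over.w a]; infer_instance
  haveI : LocallyOfFiniteType a.left := locallyOfFiniteType_of_comp a.left P₀.hom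
  have hdW : topologicalKrullDim W.left = (n : WithBot ℕ∞) := topologicalKrullDim_of_smooth W.hom n
  refine le_antisymm ((Groth.Agent.S10841.result Ω P₀.hom W.hom a.left (Over.w a) (hsurj.surj _)).trans hdW.le) ?_
  -- a point with finite fibre
  let σ : Spec (CommRingCat.of Ω) ⟶ Spec (CommRingCat.of Ω) := 𝟙 _
  letI : (PicF.XT f (Over.mk σ)).Over (Spec (CommRingCat.of Ω)) := ⟨PicF.XTproj f (Over.mk σ)⟩
  haveI : IsProper (PicF.XT f (Over.mk σ) ↘ Spec (CommRingCat.of Ω)) := isProper_XT f σ
  haveI : Smooth (PicF.XT f (Over.mk σ) ↘ Spec (CommRingCat.of Ω)) := smooth_XT f σ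
  haveI : GeometricallyConnected (PicF.XT f (Over.mk σ) ↘ Spec (CommRingCat.of Ω)) := geometricallyConnected_XT f σ
  have hd := dim_XT f σ hdim
  obtain ⟨hint, hreg, h0⟩ := setup_of_smooth_connected Ω (PicF.XT f (Over.mk σ)) hd
  haveI := hint; haveI := hreg
  have hgen : n ≤ Curv2.genus Ω (PicF.XT f (Over.mk σ)) := ((genus_XT f σ).trans (by rw [Subsingleton.elim (σ _)])).ge
  obtain ⟨z, hz⟩ := exists_ell_one hd h0 n hgen
  let x : Fin n → (Over.mk σ ⟶ Over.mk f) := fun i => pointHom f σ (z i).1 (z i).2
  let w := tuple f n x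
  let D := ∑ i, Finsupp.single (CurveFF.placeOf Ω hd (z i).1 (z i).2) (1 : ℤ)
  -- the finitely many tuples of the divisor
  have key : ∀ v : Over.mk σ ⟶ W, v ≫ a = w ≫ a → ∀ i, (pointClosed f σ (comps f n v i)) ∈ Set.range z := by
    intro v hv i
    let y := comps f n v
    have h1 : (∏ i, pt f (y i)) / pt f (basePt f e he (Over.mk σ)) ^ n =
        (∏ i, pt f (x i)) / pt f (basePt f e he (Over.mk σ)) ^ n :=
      eq_of_phi f hP₀ σ (isPZc_div_pow f hdim σ _ _) (isPZc_div_pow f hdim σ _ _) (by
        rw [← comp_abel f hdim hP₀ e he, ← tuple_abel f hdim hP₀ e he]; exact hv)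
    rw [div_left_inj] at h1
    have hy := hasDiv_prod hd Finset.univ _ _ fun i => hasDiv_ptc hd h0 (pointClosed f σ (y i)).1 (pointClosed f σ (y i)).2
    have hx := hasDiv_prod hd Finset.univ _ _ fun i => hasDiv_ptc hd h0 (z i).1 (z i).2
    simp only [← pt_eq_ptc] at hy
    rw [h1] at hy
    simp only [ptc_eq_pt f σ hd] at hx
    have hD : ∑ i, Finsupp.single (CurveFF.placeOf Ω hd (pointClosed f σ (y i)).1 (pointClosed f σ (y i)).2) (1 : ℤ) = D :=
      eq_of_ell_one hd h0 (Finset.sum_nonneg fun i _ => Finsupp.single_nonneg.2 zero_le_one)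
        (Finset.sum_nonneg fun i _ => Finsupp.single_nonneg.2 zero_le_one) hz ((eq_iff_of_hasDiv hd h0 hx hy).1 rfl)
    by_contra hni
    let Q := CurveFF.placeOf Ω hd (pointClosed f σ (y i)).1 (pointClosed f σ (y i)).2
    have h2 := DFunLike.congr_fun hD Q
    simp only [D, Finsupp.coe_finset_sum, Finset.sum_apply] at h2
    have h3 : (∑ j, Finsupp.single (CurveFF.placeOf Ω hd (z j).1 (z j).2) (1 : ℤ) Q) = 0 :=
      Finset.sum_eq_zero fun j _ => Finsupp.single_eq_of_ne fun h => hni ⟨j, Subtype.ext
        (CurveFF.placeOf_injective hd (z j).2 (pointClosed f σ (y i)).2 h.symm)⟩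
    rw [h3] at h2
    have h4 : (1 : ℤ) ≤ ∑ j, Finsupp.single (CurveFF.placeOf Ω hd (pointClosed f σ (y j)).1 (pointClosed f σ (y j)).2) (1 : ℤ) Q :=
      le_trans (le_of_eq (Finsupp.single_eq_same (a := Q)).symm)
        (Finset.single_le_sum (f := fun j => Finsupp.single (CurveFF.placeOf Ω hd (pointClosed f σ (y j)).1 (pointClosed f σ (y j)).2) (1 : ℤ) Q)
          (fun j _ => (Finsupp.single_nonneg.2 zero_le_one : (0 : FunFld.Divisor Ω _) ≤ _) Q) (Finset.mem_univ i))
    omega
  -- the fibre
  let p : P₀.left := a.left (w.left (IsLocalRing.closedPoint Ω))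
  let w₀ : W.left := w.left (IsLocalRing.closedPoint Ω)
  have hfin : (a.left ⁻¹' {p} ∩ closedPoints W.left).Finite := by
    refine Set.Finite.subset (Set.finite_range fun m : Fin n → Fin n =>
      (tuple f n fun i => x (m i)).left (IsLocalRing.closedPoint Ω)) ?_
    rintro v ⟨hv, hvc⟩
    let V : Over.mk σ ⟶ W := Over.homMk (pointOfClosedPoint W.hom v hvc) (pointOfClosedPoint_comp W.hom v hvc)
    have hV : V ≫ a = w ≫ a := by
      refine Over.OverMorphism.ext (ext_of_apply_closedPoint_eq P₀.hom (Over.w (V ≫ a)) (Over.w (w ≫ a)) ?_)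
      show a.left (pointOfClosedPoint W.hom v hvc (IsLocalRing.closedPoint Ω)) = _
      rw [pointOfClosedPoint_apply]
      exact hv
    choose m hm using fun i => key V hV i
    refine ⟨m, ?_⟩
    have hxy : (fun i => x (m i)) = comps f n V := funext fun i => by
      rw [← pointHom_pointClosed f σ (comps f n V i)]
      simp only [x, hm i]
    show (tuple f n fun i => x (m i)).left (IsLocalRing.closedPoint Ω) = v
    rw [hxy, tuple_comps]
    exact pointOfClosedPoint_apply W.hom v hvc _
  have hqf : w₀ ∈ a.left.quasiFiniteLocus := by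
    rw [Scheme.Hom.mem_quasiFiniteLocus, Scheme.Hom.quasiFiniteAt_iff_isOpen_singleton_asFiber]
    haveI : LocallyOfFiniteType (a.left.fiberToSpecResidueField (a.left w₀)) :=
      MorphismProperty.pullback_snd _ _ inferInstance
    haveI : JacobsonSpace ↥(a.left.fiber (a.left w₀)) :=
      LocallyOfFiniteType.jacobsonSpace (a.left.fiberToSpecResidueField (a.left w₀))
    haveI : JacobsonSpace W.left := LocallyOfFiniteType.jacobsonSpace W.hom
    have hpc : IsClosed ({p} : Set P₀.left) :=
      (pointEquivClosedPoint P₀.hom ⟨(w ≫ a).left, Over.w (w ≫ a)⟩).2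
    have hsub : (closedPoints ↥(a.left.fiber (a.left w₀))).Finite := by
      refine Set.Finite.of_finite_image (f := a.left.fiberι (a.left w₀)) (Set.Finite.subset hfin ?_)
        (a.left.fiberι _).isEmbedding.injective.injOn
      rintro _ ⟨y, hy, rfl⟩
      refine ⟨(a.left.range_fiberι _).le ⟨y, rfl⟩, ?_⟩
      show IsClosed {(a.left.fiberι (a.left w₀)) y}
      rw [← Set.image_singleton]
      haveI : Topology.IsClosedEmbedding (a.left.fiberι (a.left w₀)) :=
        ⟨(a.left.fiberι _).isEmbedding, by rw [a.left.range_fiberι]; exact hpc.preimage a.left.continuous⟩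
      exact ‹Topology.IsClosedEmbedding (a.left.fiberι (a.left w₀))›.isClosedMap _ hy
    haveI : DiscreteTopology ↥(a.left.fiber (a.left w₀)) := JacobsonSpace.discreteTopology hsub
    exact isOpen_discrete _
  let U := a.left.quasiFiniteLocus
  haveI : Nonempty U.toScheme := ⟨⟨w₀, hqf⟩⟩
  haveI : LocallyQuasiFinite (U.ι ≫ a.left) := by
    rw [← Scheme.Hom.quasiFiniteLocus_eq_top_iff, Scheme.Hom.quasiFiniteLocus_comp]
    exact Scheme.Opens.ι_preimage_self U
  haveI : SmoothOfRelativeDimension n (U.ι ≫ W.hom) := by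
    have h : SmoothOfRelativeDimension (0 + n) (U.ι ≫ W.hom) := inferInstance
    rwa [Nat.zero_add] at h
  haveI : NoetherianSpace U.toScheme := U.ι.isOpenEmbedding.isInducing.noetherianSpace
  haveI : QuasiCompact (U.ι ≫ a.left) := inferInstance
  have h := Groth.Agent.S4715.result (U.ι ≫ a.left)
  exact (topologicalKrullDim_of_smooth (U.ι ≫ W.hom) n).ge.trans (h.1.trans h.2)

end Groth.Agent.JacLib
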