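import Groth.Agent.JacLib.Field
import Groth.Agent.JacLib.Family
import Groth.Agent.AbDualLib.Dual

/-!
# Algebraic equivalence to zero is degree zero
-/

set_option autoImplicit false
set_option backward.isDefEq.respectTransparency false
set_option backward.isDefEq.respectTransparency.types false
set_option linter.style.haveILetI false
set_option maxHeartbeats 1600000

universe u

open CategoryTheory CategoryTheory.Limits AlgebraicGeometry TopologicalSpace
open Groth.Agent.PicLib

noncomputable section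

namespace Groth.Agent.JacLib

attribute [local instance] Curv2.stalkAlgebra

variable {k : Type u} [Field k] {C : Scheme.{u}} [C.Over (Spec (CommRingCat.of k))]
  [IsProper (C ↘ Spec (CommRingCat.of k))]

theorem slice_snd {T : Scheme.{u}} (q : T ⟶ Spec (CommRingCat.of k)) (t : Spec (CommRingCat.of k) ⟶ T)
    (ht : t ≫ q = 𝟙 _) :
    IsPullback (Pic13.sliceAt k C q t ht) (C ↘ Spec (CommRingCat.of k))
      (pullback.snd (C ↘ Spec (CommRingCat.of k)) q) t := by
  have h1 : Pic13.sliceAt k C q t ht ≫ pullback.fst _ q = 𝟙 C := pullback.lift_fst _ _ _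
  have h2 : Pic13.sliceAt k C q t ht ≫ pullback.snd _ q = (C ↘ Spec (CommRingCat.of k)) ≫ t := pullback.lift_snd _ _ _
  refine IsPullback.of_right (h₁₂ := pullback.fst (C ↘ Spec (CommRingCat.of k)) q) (v₁₃ := C ↘ Spec (CommRingCat.of k)) (h₂₂ := q) ?_ h2
    (IsPullback.of_hasPullback _ _)
  rw [h1, ht]
  exact IsPullback.of_horiz_isIso ⟨by simp⟩

/-- Modules algebraically equivalent to zero on a curve have degree zero. -/
theorem deg_eq_zero_of_algEquivZero [Flat (C ↘ Spec (CommRingCat.of k))]
    [LocallyOfFinitePresentation (C ↘ Spec (CommRingCat.of k))] (hdim : topologicalKrullDim C ≤ 1)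
    {L : C.Modules} (hL : PicF.IsInvertible L) (h : Pic13.IsAlgEquivZero k C L) : Curv2.deg k C L 1 = 0 := by
  obtain ⟨T, q, hc, -, -, M, hM, t, t₀, ht, ht₀, ⟨eL⟩, ⟨eO⟩⟩ := h
  haveI := hc
  let π := pullback.snd (C ↘ Spec (CommRingCat.of k)) q
  haveI : IsProper π := MorphismProperty.pullback_snd _ _ inferInstance
  haveI : Flat π := MorphismProperty.pullback_snd _ _ inferInstance
  haveI : LocallyOfFinitePresentation π := MorphismProperty.pullback_snd _ _ inferInstance
  have hdim' : ∀ y : T, topologicalKrullDim ↥(π.fiber y) ≤ (1 : ℕ) := fun y => by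
    refine ((Groth.Agent.S9777.result (C ↘ Spec (CommRingCat.of k)) q π (pullback.fst _ q)
      (IsPullback.of_hasPullback _ q) y).trans_le ?_)
    exact (((C ↘ Spec (CommRingCat.of k)).fiberι _).isEmbedding.isInducing.topologicalKrullDim_le).trans hdim
  have hconst := (PicDegLib.isLocallyConstant_deg π hdim' hM).apply_eq_of_isPreconnected isPreconnected_univ
    (Set.mem_univ (t (IsLocalRing.closedPoint k))) (Set.mem_univ (t₀ (IsLocalRing.closedPoint k)))
  haveI := PicDegLib.isQCoh_invertible hM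
  rw [← PicDegLib.deg_baseChange (slice_snd q t ht) M, ← PicDegLib.deg_baseChange (slice_snd q t₀ ht₀) M,
    ] at hconst
  have h1 := (PicDegLib.deg_congr (C ↘ Spec (CommRingCat.of k)) eL (IsLocalRing.closedPoint k)).symm.trans
    (hconst.trans (PicDegLib.deg_congr (C ↘ Spec (CommRingCat.of k)) eO (IsLocalRing.closedPoint k)))
  rwa [deg_eq hdim hL, deg_eq hdim ParaFLib.isInvertible_structureModule,
    show Curv2.deg k C (Coh.structureModule C) 1 = 0 by simp [Curv2.deg]] at h1

theorem deg_of_hasDiv [IsIntegral C] [VBLib.IsRegCurve C] (hdim : topologicalKrullDim C = 1)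
    (h0 : Module.finrank k (Coh.HH C (Coh.structureModule C) 0) = 1) {L : C.Modules} (hL : PicF.IsInvertible L)
    {D : FunFld.Divisor k C.functionField} (h : HasDiv k hdim (cls hL) D) : Curv2.deg k C L 1 = D.deg := by
  obtain ⟨M, hM, e, hcls, he, hD⟩ := h
  obtain ⟨φ⟩ := (cls_eq_cls _ _).1 hcls
  rw [← deg_cls_congr φ, (CurveFF.genus_and_deg hdim h0 hM he hD).2]

variable [IsAlgClosed k] [Smooth (C ↘ Spec (CommRingCat.of k))]
  [GeometricallyConnected (C ↘ Spec (CommRingCat.of k))]

/-- Modules of degree zero on a smooth curve are algebraically equivalent to zero. -/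
theorem algEquivZero_of_deg_eq_zero (hdim : topologicalKrullDim C = 1) {L : C.Modules} (hL : PicF.IsInvertible L)
    (hdeg : Curv2.deg k C L 1 = 0) : Pic13.IsAlgEquivZero k C L := by
  let f := C ↘ Spec (CommRingCat.of k)
  have hdim' : ∀ s, topologicalKrullDim ↥(f.fiber s) = 1 := fun s => by
    haveI : Subsingleton ↥(Spec (CommRingCat.of k)) := inferInstanceAs (Subsingleton (PrimeSpectrum k))
    have hu : Set.univ = f ⁻¹' {s} := by ext z; simp [Subsingleton.elim (f z) s]
    let e := (Homeomorph.Set.univ ↥C).symm.trans ((Homeomorph.setCongr hu).trans (f.fiberHomeo s).symm)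
    rw [← IsHomeomorph.topologicalKrullDim_eq e e.isHomeomorph, hdim]
  haveI : SmoothOfRelativeDimension 1 f := smoothOfRelativeDimension_one f hdim'
  let T₀ : Over (Spec (CommRingCat.of k)) := Over.mk (𝟙 _)
  letI : (PicF.XT f T₀).Over (Spec (CommRingCat.of k)) := ⟨PicF.XTproj f T₀⟩
  haveI : IsProper (PicF.XT f T₀ ↘ Spec (CommRingCat.of k)) := inferInstanceAs (IsProper (pullback.snd f (𝟙 _)))
  haveI : Smooth (PicF.XT f T₀ ↘ Spec (CommRingCat.of k)) := inferInstanceAs (Smooth (pullback.snd f (𝟙 _)))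
  haveI : GeometricallyConnected (PicF.XT f T₀ ↘ Spec (CommRingCat.of k)) :=
    inferInstanceAs (GeometricallyConnected (pullback.snd f (𝟙 _)))
  have hd : topologicalKrullDim (PicF.XT f T₀) = 1 := dim_XT f (𝟙 _) hdim'
  obtain ⟨hint, hreg, h0⟩ := setup_of_smooth_connected k (PicF.XT f T₀) hd
  haveI := hint; haveI := hreg
  haveI : ConnectedSpace C := GeometricallyConnected.connectedSpace_of_subsingleton f
  obtain ⟨zc, -, hzc⟩ : ((Set.univ : Set C) ∩ closedPoints C).Nonempty := by
    haveI : JacobsonSpace C := LocallyOfFiniteType.jacobsonSpace f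
    exact nonempty_inter_closedPoints (Set.univ_nonempty) isOpen_univ.isLocallyClosed
  let e : Spec (CommRingCat.of k) ⟶ C := pointOfClosedPoint f zc hzc
  have he : e ≫ f = 𝟙 _ := pointOfClosedPoint_comp f zc hzc
  let L' := (Scheme.Modules.pullback (pullback.fst f T₀.hom)).obj L
  have hL' : PicF.IsInvertible L' := AmpleLib.isInvertible_pullback _ hL
  have hdeg' : Curv2.deg k (PicF.XT f T₀) L' 1 = 0 := by
    haveI := PicDegLib.isQCoh_invertible hL
    have h := PicDegLib.deg_baseChange (IsPullback.of_hasPullback f T₀.hom) L (IsLocalRing.closedPoint k)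
    rw [deg_eq hdim.le hL, hdeg] at h
    exact (deg_eq hd.le hL' (IsLocalRing.closedPoint k)).symm.trans h
  let g := Curv2.genus k (PicF.XT f T₀)
  let b := basePt f e he T₀
  obtain ⟨D, hD⟩ := exists_hasDiv hd h0 (cls hL')
  have hDd : D.deg = 0 := (deg_of_hasDiv hd h0 hL' hD).symm.trans hdeg'
  have hb : HasDiv k hd (pt f b ^ g) (∑ _i : Fin g, Finsupp.single
      (CurveFF.placeOf k hd (pointClosed f (𝟙 _) b).1 (pointClosed f (𝟙 _) b).2) 1) := by
    have := hasDiv_prod hd (Finset.univ : Finset (Fin g)) _ _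
      fun _ => hasDiv_ptc hd h0 (pointClosed f (𝟙 _) b).1 (pointClosed f (𝟙 _) b).2
    rw [← pt_eq_ptc f (𝟙 _) hd b, Finset.prod_const, Finset.card_univ, Fintype.card_fin] at this
    exact this
  obtain ⟨N, hN, hNc⟩ := exists_cls (cls hL' * pt f b ^ g)
  have hNd : Curv2.deg k (PicF.XT f T₀) N 1 = g := by
    rw [deg_of_hasDiv hd h0 hN (hNc ▸ hasDiv_mul hd hD hb), FF.deg_add, hDd, deg_eq_card hd h0, zero_add]
  obtain ⟨x, hx⟩ := exists_eq_prod_pt f (𝟙 _) hd h0 hN g hNd le_rfl
  let W := pow f g
  let w : T₀ ⟶ W := tuple f g x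
  let w₀ : T₀ ⟶ W := tuple f g fun _ => b
  obtain ⟨M, hM, hMc⟩ := exists_cls (fam0 f e he g)
  haveI := geometricallyConnected_pow f g
  have hW : ConnectedSpace W.left := GeometricallyConnected.connectedSpace_of_subsingleton W.hom
  have hsl : ∀ v : T₀ ⟶ W, Pic13.sliceAt k C W.hom v.left (Over.w v) ≫ 𝟙 _ =
      pullback.lift (𝟙 C) (C ↘ Spec (CommRingCat.of k)) (by simp [T₀, f]) ≫ PicF.XTmap f v := fun v => by
    rw [Category.comp_id]
    apply pullback.hom_ext
    · simp only [Pic13.sliceAt, PicF.XTmap, pullback.map, pullback.lift_fst, Category.assoc, Category.comp_id]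
      erw [pullback.lift_fst, pullback.lift_fst]
    · simp only [Pic13.sliceAt, PicF.XTmap, pullback.map, pullback.lift_snd, Category.assoc]
      erw [pullback.lift_snd]
      erw [← Category.assoc, pullback.lift_snd]
  let j : C ⟶ PicF.XT f T₀ := pullback.lift (𝟙 C) (C ↘ Spec (CommRingCat.of k)) (by simp [T₀, f])
  have hj : j ≫ pullback.fst f T₀.hom = 𝟙 C := pullback.lift_fst _ _ _
  have key : ∀ (v : T₀ ⟶ W) (N' : C.Modules) (hN' : PicF.IsInvertible N'),
      pull j (pull (PicF.XTmap f v) (fam0 f e he g)) = cls hN' →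
      Nonempty (Pic13.fibreMod k C W.hom v.left (Over.w v) M ≅ N') := fun v N' hN' h => by
    rw [← hMc, ← pull_comp, pull_cls, cls_eq_cls] at h
    obtain ⟨e'⟩ := h
    exact ⟨(Scheme.Modules.pullbackCongr ((Category.comp_id _).symm.trans (hsl v))).app M ≪≫ e'⟩
  refine ⟨W.left, W.hom, hW, inferInstance, inferInstance, M, hM, w.left, w₀.left, Over.w w, Over.w w₀,
    key w L hL ?_, key w₀ _ ParaFLib.isInvertible_structureModule ?_⟩
  · rw [pull_tuple_fam0, ← hx, hNc, mul_div_cancel_right,
      show cls hL' = pull (pullback.fst f T₀.hom) (cls hL) from rfl, ← pull_comp, hj, pull_id]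
  · rw [pull_tuple_fam0, Finset.prod_const, Finset.card_univ, Fintype.card_fin, div_self', map_one]
    rfl

end Groth.Agent.JacLib
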