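import Groth.Agent.JacLib.EllSection
import Groth.Agent.GenBCLib.SteinUnit
import Groth.Agent.AVLib.Base

/-!
# Points of a family of curves of genus one and classes of degree one
-/

set_option autoImplicit false
set_option backward.isDefEq.respectTransparency false
set_option backward.isDefEq.respectTransparency.types false
set_option linter.style.haveILetI false
set_option maxHeartbeats 1600000

universe u

open CategoryTheory CategoryTheory.Limits AlgebraicGeometry TopologicalSpace Opposite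
open Groth.Agent.PicLib Groth.Agent.PullbackMod Groth.Agent.ParaFLib

noncomputable section

namespace Groth.Agent.JacLib

variable {C S : Scheme.{u}} (f : C ⟶ S) [IsProper f] [SmoothOfRelativeDimension 1 f] [GeometricallyConnected f]
  (hdim : ∀ s : S, topologicalKrullDim ↥(f.fiber s) = 1)
  (hg : ∀ s : S, CohIII.fiberRank f (Coh.structureModule C) 1 s = 1)

include hdim hg in
/-- Points with the same class are equal. -/
theorem eq_of_pt_eq {T : Over S} {x y : T ⟶ Over.mk f} (h : pt f x = pt f y) : x = y := by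
  haveI : Smooth f := SmoothOfRelativeDimension.smooth 1 f
  obtain ⟨L, hL, hLc⟩ := exists_cls (dClass f)
  let I : (PicF.XT f (Over.mk f)).Modules := ClSub.idealMod (pullback.diagonal f).ker
  have hI : PicF.IsInvertible I := isInvertible_diag f
  have e1 : cls hL * cls hI = 1 := by rw [hLc]; exact inv_mul_cancel (cls hI)
  rw [← cls_tensor hL hI, cls_eq_one] at e1
  obtain ⟨e⟩ := e1
  obtain ⟨s, hs⟩ := AbelMapLib.exists_canSect _ hL hI e
  rw [pt, pt, ← hLc, pull_cls, pull_cls, cls_eq_cls] at h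
  obtain ⟨θ⟩ := h
  exact AbelMapLib.eq_of_iso hdim (fun s => (hg s).ge) hL hs x y θ

include hdim hg in
/-- A class of degree one gives a point, up to classes from the base. -/
theorem exists_point {T : Over S} {L : (PicF.XT f T).Modules} (hL : PicF.IsInvertible L)
    (hdeg : ∀ t, PicDegLib.deg (PicF.XTproj f T) L t = 1) :
    ∃ x : T ⟶ Over.mk f, ∀ t : T.left, ∃ V : T.left.Opens, t ∈ V ∧
      pull (PicF.XTmap f (AbDual.ovrHom T V.ι)) (cls hL / pt f x) = 1 := by
  let π := PicF.XTproj f T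
  have hloc : ∀ t : T.left, ∃ V : T.left.Opens, t ∈ V ∧ ∃ x : AbDual.ovr T V.ι ⟶ Over.mk f,
      pull (PicF.XTmap f (AbDual.ovrHom T V.ι)) (cls hL) = pt f x := by
    intro t
    obtain ⟨V, e, htV, he⟩ := ParaFLib.exists_gen_nhd (isInvertible_push_deg_one f hdim hg hL hdeg) t
    let g := AbDual.ovrHom T V.ι
    let m := PicF.XTmap f g
    have hV : (⊤ : (AbDual.ovr T V.ι).left.Opens) ≤ g.left ⁻¹ᵁ V := fun z _ => z.2
    have hle : (⊤ : (PicF.XT f (AbDual.ovr T V.ι)).Opens) ≤ m ⁻¹ᵁ (π ⁻¹ᵁ V) := fun z _ => by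
      show π (m z) ∈ V
      rw [← Scheme.Hom.comp_apply, (InvDescLib.isPullback_map g).w, Scheme.Hom.comp_apply]
      exact hV trivial
    obtain ⟨x, hx⟩ := exists_pt_of_gen f hdim hg (AmpleLib.isInvertible_pullback m hL)
      (fun z => by rw [PicDegLib.deg_XTmap g hL]; exact hdeg _) (gen_bc f hdim hg hL hdeg g hV e he hle)
    exact ⟨V, htV, x, hx⟩
  choose V htV xl hxl using hloc
  let 𝒰 := T.left.openCoverOfIsOpenCover V (eq_top_iff.2 fun t _ => Opens.mem_iSup.2 ⟨t, htV t⟩)
  have hf : ∀ i j, pullback.fst (𝒰.f i) (𝒰.f j) ≫ (xl i).left = pullback.snd (𝒰.f i) (𝒰.f j) ≫ (xl j).left := by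
    intro i j
    let Q : Over S := Over.mk (pullback.fst (𝒰.f i) (𝒰.f j) ≫ (V i).ι ≫ T.hom)
    let k₁ : Q ⟶ AbDual.ovr T (V i).ι := Over.homMk (pullback.fst (𝒰.f i) (𝒰.f j)) rfl
    let k₂ : Q ⟶ AbDual.ovr T (V j).ι := Over.homMk (pullback.snd (𝒰.f i) (𝒰.f j)) (by
      show _ ≫ (V j).ι ≫ T.hom = _ ≫ (V i).ι ≫ T.hom
      rw [← Category.assoc, ← Category.assoc]
      exact congrArg (· ≫ T.hom) pullback.condition.symm)
    have hk : k₁ ≫ AbDual.ovrHom T (V i).ι = k₂ ≫ AbDual.ovrHom T (V j).ι :=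
      Over.OverMorphism.ext pullback.condition
    have h1 := congrArg (pull (PicF.XTmap f k₁)) (hxl i)
    have h2 := congrArg (pull (PicF.XTmap f k₂)) (hxl j)
    rw [InvDescLib.pull_XTmap_XTmap _ _ hk, pt_comp] at h1
    rw [InvDescLib.pull_XTmap_XTmap _ _ rfl, pt_comp] at h2
    exact congrArg CommaMorphism.left (eq_of_pt_eq f hdim hg (h1.symm.trans h2))
  let x₀ := 𝒰.glueMorphisms (fun i => (xl i).left) hf
  let x : T ⟶ Over.mk f := Over.homMk x₀ (by
    refine 𝒰.hom_ext _ _ fun i => ?_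
    rw [← Category.assoc, 𝒰.ι_glueMorphisms]
    exact Over.w (xl i))
  refine ⟨x, fun t => ⟨V t, htV t, ?_⟩⟩
  have hx : AbDual.ovrHom T (V t).ι ≫ x = xl t := Over.OverMorphism.ext (𝒰.ι_glueMorphisms _ hf t)
  rw [map_div, pt_comp, hx, hxl t, div_self']

include hdim hg in
/-- A class of degree one is the class of a point times a class from the base. -/
theorem exists_point_mul {T : Over S} {L : (PicF.XT f T).Modules} (hL : PicF.IsInvertible L)
    (hdeg : ∀ t, PicDegLib.deg (PicF.XTproj f T) L t = 1) :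
    ∃ (x : T ⟶ Over.mk f) (N : Pic T.left), cls hL = pt f x * pull (PicF.XTproj f T) N := by
  haveI : Smooth f := SmoothOfRelativeDimension.smooth 1 f
  haveI := geometricallyIntegral_curve f
  obtain ⟨x, hx⟩ := exists_point f hdim hg hL hdeg
  let π := PicF.XTproj f T
  haveI : GeometricallyIntegral π := MorphismProperty.pullback_snd f T.hom inferInstance
  obtain ⟨D, hD, hDc⟩ := exists_cls (cls hL / pt f x)
  obtain ⟨N, hN, ⟨e⟩⟩ := AVLib.exists_iso_pullback_of_locally π hD (fun t => by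
    obtain ⟨V, htV, hV⟩ := hx t
    rw [← hDc, pull_cls, cls_eq_one, ← CubeLib.triv_iff] at hV
    obtain ⟨τ, hτ⟩ := hV
    let m := PicF.XTmap f (AbDual.ovrHom T V.ι)
    haveI : IsOpenImmersion m := MorphismProperty.of_isPullback (P := @IsOpenImmersion)
      (InvDescLib.isPullback_map (AbDual.ovrHom T V.ι)).flip (inferInstanceAs (IsOpenImmersion V.ι))
    refine ⟨V, htV, ?_⟩
    have e : m ''ᵁ ⊤ = π ⁻¹ᵁ V := by
      ext z
      constructor
      · rintro ⟨w, -, rfl⟩
        show π (m w) ∈ V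
        rw [← Scheme.Hom.comp_apply, (InvDescLib.isPullback_map (AbDual.ovrHom T V.ι)).w, Scheme.Hom.comp_apply]
        exact (PicF.XTproj f (AbDual.ovr T V.ι) w).2
      · intro hz
        obtain ⟨w, hw, -⟩ := Scheme.Pullback.exists_preimage_pullback (f := π) (g := V.ι) z ⟨π z, hz⟩ rfl
        refine ⟨(InvDescLib.isPullback_map (AbDual.ovrHom T V.ι)).isoPullback.inv w, trivial, ?_⟩
        rw [← hw]
        refine (Scheme.Hom.comp_apply _ _ _).symm.trans ?_
        exact congrArg (fun q => q w) (InvDescLib.isPullback_map (AbDual.ovrHom T V.ι)).isoPullback_inv_fst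
    have hgen := InvDescLib.gen_pbSec_symm m D hτ
    revert hgen
    generalize (ProperFin.pbSec m D ⊤).symm τ = σ₀
    revert σ₀
    rw [e]
    exact fun σ₀ hσ₀ => ⟨σ₀, hσ₀⟩) (fun t => ⟨⊤, trivial, fun U _ =>
      GenBCLib.bijective_app (PicTrivLib.bijective_fiber π) U⟩)
  refine ⟨x, cls hN, ?_⟩
  rw [pull_cls, (cls_eq_cls _ hD).2 ⟨e⟩, hDc, mul_div_cancel]

end Groth.Agent.JacLib
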