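import Groth.Agent.JacLib.PicZero

/-!
# Base change of a representing scheme of `Pic⁰`
-/

set_option autoImplicit false
set_option backward.isDefEq.respectTransparency false
set_option backward.isDefEq.respectTransparency.types false
set_option linter.style.haveILetI false
set_option maxHeartbeats 1000000

universe u

open CategoryTheory CategoryTheory.Limits AlgebraicGeometry
open Groth.Agent.PicLib Groth.Agent.AbDualLib Groth.Agent.PicCurveSmoothLib

noncomputable section

namespace Groth.Agent.JacLib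

theorem topologicalKrullDim_fiber_snd {C S S' : Scheme.{u}} (f : C ⟶ S) [IsProper f] (a : S' ⟶ S)
    (hdim : ∀ s : S, topologicalKrullDim ↥(f.fiber s) = 1) (s : S') :
    topologicalKrullDim ↥((pullback.snd f a).fiber s) = 1 :=
  (Groth.Agent.S9777.result f a (pullback.snd f a) (pullback.fst f a) (IsPullback.of_hasPullback f a) s).trans (hdim _)

variable {C S S' : Scheme.{u}} (f : C ⟶ S) [IsProper f] [Smooth f] [GeometricallyConnected f]
  (hdim : ∀ s : S, topologicalKrullDim ↥(f.fiber s) = 1) (a : S' ⟶ S)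

theorem deg_bcIso_hom (T : Over S') {L : (PicF.XT f ((Over.map a).obj T)).Modules} (hL : PicF.IsInvertible L)
    (t : T.left) :
    PicDegLib.deg (PicF.XTproj (pullback.snd f a) T) ((Scheme.Modules.pullback (bcIso f a T).hom).obj L) t =
      PicDegLib.deg (PicF.XTproj f ((Over.map a).obj T)) L t := by
  haveI : IsProper (PicF.XTproj f ((Over.map a).obj T)) := MorphismProperty.pullback_snd _ _ inferInstance
  haveI := PicDegLib.isQCoh_invertible hL
  have hw : (bcIso f a T).hom ≫ PicF.XTproj f ((Over.map a).obj T) = PicF.XTproj (pullback.snd f a) T ≫ 𝟙 _ := by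
    rw [Category.comp_id]
    exact pullbackLeftPullbackSndIso_hom_snd f a T.hom
  exact PicDegLib.deg_baseChange (IsPullback.of_horiz_isIso ⟨hw⟩) L t

include hdim in
theorem isPicZeroCl_bcIso_inv (T : Over S') {c : PicF.Cl (PicF.XT (pullback.snd f a) T)}
    (h : AbDual.IsPicZeroCl (pullback.snd f a) T c) :
    AbDual.IsPicZeroCl f ((Over.map a).obj T) (PicF.pullCl (bcIso f a T).inv c) := by
  obtain ⟨L, rfl, hL, h0⟩ := h
  have h1 := (isPicZeroCl_iff (pullback.snd f a) (topologicalKrullDim_fiber_snd f a hdim) T hL).1 ⟨L, rfl, hL, h0⟩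
  have hL' := AmpleLib.isInvertible_pullback (bcIso f a T).inv hL
  refine (isPicZeroCl_iff f hdim _ hL').2 fun t => ?_
  rw [← deg_bcIso_hom f a T hL' t]
  refine (PicDegLib.deg_congr _ ?_ t).trans (h1 t)
  exact (Scheme.Modules.pullbackComp (bcIso f a T).hom (bcIso f a T).inv).app L ≪≫
    (Scheme.Modules.pullbackCongr (bcIso f a T).hom_inv_id).app L ≪≫ (Scheme.Modules.pullbackId _).app L

include hdim in
theorem isPicZeroCl_bcIso_hom (T : Over S') {c : PicF.Cl (PicF.XT f ((Over.map a).obj T))}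
    (h : AbDual.IsPicZeroCl f _ c) :
    AbDual.IsPicZeroCl (pullback.snd f a) T (PicF.pullCl (bcIso f a T).hom c) := by
  obtain ⟨L, rfl, hL, h0⟩ := h
  have h1 := (isPicZeroCl_iff f hdim _ hL).1 ⟨L, rfl, hL, h0⟩
  refine (isPicZeroCl_iff (pullback.snd f a) (topologicalKrullDim_fiber_snd f a hdim) T
    (AmpleLib.isInvertible_pullback _ hL)).2 fun t => ?_
  rw [deg_bcIso_hom f a T hL t]
  exact h1 t

include hdim in
theorem isPicZeroCl_XTmap {T T' : Over S} (g : T' ⟶ T) {c : PicF.Cl (PicF.XT f T)}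
    (h : AbDual.IsPicZeroCl f T c) : AbDual.IsPicZeroCl f T' (PicF.pullCl (PicF.XTmap f g) c) := by
  obtain ⟨L, rfl, hL, h0⟩ := h
  exact isPZc_pull f hdim g (a := cls hL) ⟨L, rfl, hL, h0⟩

variable (P₀ : Over S) (φ₀ : ∀ T : Over S, PicF.Cl (PicF.XT f T) → (T ⟶ P₀))

include hdim in
theorem isRelPicZeroK_baseChange (hP : AbDual.IsRelPicZeroK Scheme.fppfPrecoverage f P₀ φ₀) :
    AbDual.IsRelPicZeroK Scheme.fppfPrecoverage (pullback.snd f a) (bcP a P₀) (bcφ f a P₀ φ₀) := by
  refine ⟨fun T T' g c hc => hom_ext_bcP a P₀ ?_, fun T g => ?_, fun T c c' hc hc' h => ?_⟩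
  · rw [bcφ_left_fst, pullCl_pullCl, bcIso_inv_XTmap, ← pullCl_pullCl,
      hP.natural _ _ ((Over.map a).map g) _ (isPicZeroCl_bcIso_inv f hdim a T hc), Over.comp_left, Over.comp_left,
      Category.assoc, bcφ_left_fst]
    rfl
  · let g₀ : (Over.map a).obj T ⟶ P₀ := Over.homMk (g.left ≫ pullback.fst P₀.hom a) (by
      rw [Category.assoc, pullback.condition, ← Category.assoc]
      exact congrArg (· ≫ a) (Over.w g))
    obtain ⟨R, hR, hRs⟩ := hP.locallySurjective _ g₀
    refine ⟨R, hR, fun U u hu => ?_⟩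
    obtain ⟨c, hc, hφ⟩ := hRs u hu
    let k : (Over.map a).obj (AbDual.ovr T u) ⟶ AbDual.ovr ((Over.map a).obj T) u :=
      Over.homMk (𝟙 U) (by simp)
    refine ⟨PicF.pullCl ((bcIso f a _).hom ≫ PicF.XTmap f k) c, ?_, hom_ext_bcP a P₀ ?_⟩
    · rw [← pullCl_pullCl]
      exact isPicZeroCl_bcIso_hom f hdim a _ (isPicZeroCl_XTmap f hdim k hc)
    rw [bcφ_left_fst, pullCl_pullCl, Iso.inv_hom_id_assoc, hP.natural _ _ k c hc, hφ]
    simp [k, g₀]
  · have h' : φ₀ _ (PicF.pullCl (bcIso f a T).inv c) = φ₀ _ (PicF.pullCl (bcIso f a T).inv c') :=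
      Over.OverMorphism.ext (by
        rw [← bcφ_left_fst, ← bcφ_left_fst, h])
    obtain ⟨R, hR, hRi⟩ := hP.locallyInjective _ _ _ (isPicZeroCl_bcIso_inv f hdim a T hc)
      (isPicZeroCl_bcIso_inv f hdim a T hc') h'
    refine ⟨R, hR, fun U u hu => ?_⟩
    let k : (Over.map a).obj (AbDual.ovr T u) ⟶ AbDual.ovr ((Over.map a).obj T) u :=
      Over.homMk (𝟙 U) (by simp)
    have hk : k ≫ AbDual.ovrHom ((Over.map a).obj T) u = (Over.map a).map (AbDual.ovrHom T u) :=
      Over.OverMorphism.ext (by simp [k])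
    have e : (bcIso f a (AbDual.ovr T u)).hom ≫ PicF.XTmap f k ≫ PicF.XTmap f (AbDual.ovrHom ((Over.map a).obj T) u) ≫
        (bcIso f a T).inv = PicF.XTmap (pullback.snd f a) (AbDual.ovrHom T u) := by
      rw [← Category.assoc (PicF.XTmap f k), show PicF.XTmap f k ≫ PicF.XTmap f (AbDual.ovrHom ((Over.map a).obj T) u) =
          PicF.XTmap f ((Over.map a).map (AbDual.ovrHom T u)) by
        rw [← hk]; apply pullback.hom_ext <;> simp [PicF.XTmap, pullback.map],
        ← Category.assoc, bcIso_hom_XTmap, Category.assoc, Iso.hom_inv_id, Category.comp_id]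
    have h'' := congrArg (PicF.pullCl ((bcIso f a (AbDual.ovr T u)).hom ≫ PicF.XTmap f k)) (hRi u hu)
    simp only [pullCl_pullCl, Category.assoc] at h''
    rwa [e] at h''

end Groth.Agent.JacLib
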