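import Groth.Agent.JacLib.BaseZero
import Groth.Agent.JacLib.Dim
import Mathlib.AlgebraicGeometry.Morphisms.FlatDescent

/-!
# `Pic⁰` of a family of curves is universally closed with geometrically connected fibres
-/

set_option autoImplicit false
set_option backward.isDefEq.respectTransparency false
set_option backward.isDefEq.respectTransparency.types false
set_option linter.style.haveILetI false
set_option maxHeartbeats 1600000

universe u

open CategoryTheory CategoryTheory.Limits AlgebraicGeometry
open Groth.Agent.PicLib Groth.Agent.AbDualLib Groth.Agent.PicCurveSmoothLib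

noncomputable section

namespace Groth.Agent.JacLib

theorem geometricallyIntegral_curve {C S : Scheme.{u}} (f : C ⟶ S) [IsProper f] [Smooth f] [GeometricallyConnected f] :
    GeometricallyIntegral f := by
  refine ⟨fun K _ y Z fst snd H => ?_⟩
  letI : Z.Over (Spec (CommRingCat.of K)) := ⟨snd⟩
  haveI : IsProper (Z ↘ Spec (CommRingCat.of K)) := MorphismProperty.of_isPullback (P := @IsProper) H ‹_›
  haveI : Smooth (Z ↘ Spec (CommRingCat.of K)) := MorphismProperty.of_isPullback (P := @Smooth) H ‹_›
  haveI : ConnectedSpace Z :=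
    GeometricallyConnected.geometrically_connectedSpace (f := f) _ _ _ H
  exact CurveLib.isIntegral_of_smooth (X := Z) K

theorem fiberRank_structure_baseChange {C C' S S' : Scheme.{u}} {f : C ⟶ S} {f' : C' ⟶ S'} {b' : C' ⟶ C} {b : S' ⟶ S}
    (h : IsPullback b' f' f b) [IsProper f] (p : ℕ) (s : S') :
    CohIII.fiberRank f' (Coh.structureModule C') p s = CohIII.fiberRank f (Coh.structureModule C) p (b s) := by
  haveI : Coh.IsQCoh (Coh.structureModule C) :=
    PicDegLib.isQCoh_invertible ParaFLib.isInvertible_structureModule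
  rw [← BCLib.fiberRank_baseChange h (Coh.structureModule C) p s]
  exact BCLib.fiberRank_congr _ (DCohLib.pullStructureIso b').symm p _

variable {C S : Scheme.{u}} (f : C ⟶ S) [IsProper f] [Smooth f] [GeometricallyConnected f]
  (hdim : ∀ s : S, topologicalKrullDim ↥(f.fiber s) = 1)

theorem fiberRank_zero (s : S) : CohIII.fiberRank f (Coh.structureModule C) 0 s = 1 := by
  let K := S.residueField s
  let σ : Spec (CommRingCat.of K) ⟶ S := S.fromSpecResidueField s
  letI : (pullback f σ).Over (Spec (CommRingCat.of K)) := ⟨pullback.snd f σ⟩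
  haveI : IsProper (pullback f σ ↘ Spec (CommRingCat.of K)) := inferInstanceAs (IsProper (pullback.snd f σ))
  haveI : Smooth (pullback f σ ↘ Spec (CommRingCat.of K)) := inferInstanceAs (Smooth (pullback.snd f σ))
  haveI : GeometricallyConnected (pullback f σ ↘ Spec (CommRingCat.of K)) :=
    inferInstanceAs (GeometricallyConnected (pullback.snd f σ))
  haveI := AVLib.geometricallyReduced_of_smooth (pullback f σ ↘ Spec (CommRingCat.of K))
  haveI : Coh.IsQCoh (Coh.structureModule (pullback f σ)) :=
    PicDegLib.isQCoh_invertible ParaFLib.isInvertible_structureModule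
  let t : Spec (CommRingCat.of K) := IsLocalRing.closedPoint K
  have h := fiberRank_structure_baseChange (IsPullback.of_hasPullback f σ) 0 t
  rw [show σ t = s from Scheme.fromSpecResidueField_apply s t] at h
  rw [← h]
  exact (fiberRank_eq_finrank (X := pullback f σ) _ 0 t).trans (Groth.Agent.S1536.result K _)

include hdim in
theorem isLocallyConstant_genus : IsLocallyConstant fun s : S => CohIII.fiberRank f (Coh.structureModule C) 1 s := by
  have h := (PicDegLib.isLocallyConstant_chi f (fun s => (hdim s).le.trans_eq Nat.cast_one.symm)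
    ParaFLib.isInvertible_structureModule).comp (fun c : ℤ => (1 - c).toNat)
  convert h using 1
  funext s
  simp [PicDegLib.chi, fiberRank_zero f s]

variable {P₀ : Over S} {φ₀ : ∀ T : Over S, PicF.Cl (PicF.XT f T) → (T ⟶ P₀)}
  (hP₀ : AbDual.IsRelPicZeroK Scheme.fppfPrecoverage f P₀ φ₀)

include hdim hP₀ in
theorem universallyClosed_of_section (e : S ⟶ C) (he : e ≫ f = 𝟙 S) {n : ℕ}
    (hn : ∀ s, CohIII.fiberRank f (Coh.structureModule C) 1 s ≤ n) : UniversallyClosed P₀.hom := by
  haveI := smoothOfRelativeDimension_one f hdim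
  haveI := surjective_abel f hdim hP₀ e he hn
  haveI : UniversallyClosed ((abel f e he φ₀ n).left ≫ P₀.hom) := by
    rw [Over.w (abel f e he φ₀ n)]
    haveI := isProper_pow f n
    infer_instance
  exact UniversallyClosed.of_comp_surjective (abel f e he φ₀ n).left P₀.hom

include hdim hP₀ in
theorem universallyClosed_of_bound {n : ℕ}
    (hn : ∀ s, CohIII.fiberRank f (Coh.structureModule C) 1 s ≤ n) : UniversallyClosed P₀.hom := by
  have h : UniversallyClosed (bcP f P₀).hom :=
    universallyClosed_of_section (pullback.snd f f) (topologicalKrullDim_fiber_snd f f hdim)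
      (isRelPicZeroK_baseChange f hdim f P₀ φ₀ hP₀) (pullback.diagonal f) (pullback.diagonal_snd f)
      (n := n) (fun z => (fiberRank_structure_baseChange (IsPullback.of_hasPullback f f) 1 z).trans_le (hn _))
  exact MorphismProperty.of_pullback_snd_of_descendsAlong (P := @UniversallyClosed)
    (Q := @Surjective ⊓ @Flat ⊓ @QuasiCompact) (f := P₀.hom) (g := f)
    ⟨⟨inferInstance, inferInstance⟩, inferInstance⟩ h

include hdim hP₀ in
theorem universallyClosed_pic0 : UniversallyClosed P₀.hom := by
  let W : ℕ → S.Opens := fun n => ⟨_, (isLocallyConstant_genus f hdim).isOpen_fiber n⟩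
  refine IsZariskiLocalAtTarget.of_openCover
    (S.openCoverOfIsOpenCover W (eq_top_iff.2 fun s _ => TopologicalSpace.Opens.mem_iSup.2 ⟨_, rfl⟩)) fun n => ?_
  change UniversallyClosed (bcP (W n).ι P₀).hom
  exact universallyClosed_of_bound (pullback.snd f (W n).ι) (topologicalKrullDim_fiber_snd f _ hdim)
    (isRelPicZeroK_baseChange f hdim _ P₀ φ₀ hP₀) (n := n)
    (fun z => ((fiberRank_structure_baseChange (IsPullback.of_hasPullback f (W n).ι) 1 z).trans z.2).le)

include hdim hP₀ in
theorem connectedSpace_pullback {Ω : Type u} [Field Ω] [IsAlgClosed Ω] (σ : Spec (CommRingCat.of Ω) ⟶ S) :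
    ConnectedSpace ↥(pullback P₀.hom σ) := by
  let f' := pullback.snd f σ
  have hd' := topologicalKrullDim_fiber_snd f σ hdim
  have hP' := isRelPicZeroK_baseChange f hdim σ P₀ φ₀ hP₀
  haveI := smoothOfRelativeDimension_one f' hd'
  haveI : Subsingleton ↥(Spec (CommRingCat.of Ω)) := inferInstanceAs (Subsingleton (PrimeSpectrum Ω))
  haveI : ConnectedSpace ↥(pullback f σ) := GeometricallyConnected.connectedSpace_of_subsingleton f'
  haveI : JacobsonSpace ↥(pullback f σ) := LocallyOfFiniteType.jacobsonSpace f'
  obtain ⟨z, -, hz⟩ := nonempty_inter_closedPoints (Z := (Set.univ : Set ↥(pullback f σ))) Set.univ_nonempty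
    isOpen_univ.isLocallyClosed
  let e : Spec (CommRingCat.of Ω) ⟶ pullback f σ := pointOfClosedPoint f' z hz
  have he : e ≫ f' = 𝟙 _ := pointOfClosedPoint_comp f' z hz
  let n := CohIII.fiberRank f' (Coh.structureModule _) 1 (IsLocalRing.closedPoint Ω)
  haveI := surjective_abel f' hd' hP' e he (n := n) (fun s => by rw [Subsingleton.elim s (IsLocalRing.closedPoint Ω)])
  haveI := geometricallyConnected_pow f' n
  haveI : ConnectedSpace (pow f' n).left :=
    GeometricallyConnected.connectedSpace_of_subsingleton (pow f' n).hom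
  exact (abel f' e he (bcφ f σ P₀ φ₀) n).left.surjective.connectedSpace
    (abel f' e he (bcφ f σ P₀ φ₀) n).left.continuous

include hdim hP₀ in
theorem geometricallyConnected_pic0 : GeometricallyConnected P₀.hom := by
  refine ⟨fun K _ y Z fst snd H => ?_⟩
  let a : Spec (CommRingCat.of (AlgebraicClosure K)) ⟶ Spec (CommRingCat.of K) :=
    Spec.map (CommRingCat.ofHom (algebraMap K (AlgebraicClosure K)))
  haveI : Subsingleton ↥(Spec (CommRingCat.of K)) := inferInstanceAs (Subsingleton (PrimeSpectrum K))
  haveI : Surjective a := ⟨fun x => ⟨IsLocalRing.closedPoint _, Subsingleton.elim _ _⟩⟩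
  haveI := connectedSpace_pullback f hdim hP₀ (a ≫ y)
  haveI : ConnectedSpace ↥(pullback snd a) :=
    (((IsPullback.of_hasPullback snd a).paste_horiz H).isoPullback.hom.homeomorph).connectedSpace_iff.2 inferInstance
  haveI : Surjective (pullback.fst snd a) := MorphismProperty.pullback_fst _ _ ‹Surjective a›
  exact (pullback.fst snd a).surjective.connectedSpace (pullback.fst snd a).continuous

end Groth.Agent.JacLib
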