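import Groth.Agent.JacLib.Dim
import Groth.Agent.JacLib.BaseZero
import Groth.Agent.JacLib.JacProper
import Groth.Agent.PicRepLib.Rep

/-!
# A universal rigidified degree-zero class represents `Pic⁰`
-/

set_option autoImplicit false
set_option backward.isDefEq.respectTransparency false
set_option backward.isDefEq.respectTransparency.types false
set_option linter.style.haveILetI false
set_option maxHeartbeats 1000000

universe u

open CategoryTheory CategoryTheory.Limits AlgebraicGeometry TopologicalSpace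
open Groth.Agent.PicLib Groth.Agent.AbDualLib

noncomputable section

namespace Groth.Agent.JacLib

variable {C S : Scheme.{u}} (f : C ⟶ S) [IsProper f] [Smooth f] [GeometricallyConnected f]
  (hdim : ∀ s : S, topologicalKrullDim ↥(f.fiber s) = 1)

include hdim in
theorem isPZc_iff_hasFibreDegreeZero (T : Over S) (a : Pic (PicF.XT f T)) :
    IsPZc f T a ↔ FGA.HasFibreDegreeZeroCl f T (toCl a) := by
  obtain ⟨L, hL, rfl⟩ := exists_cls a
  rw [isPZc_iff f hdim T hL]
  refine ⟨fun h => ⟨L, rfl, fun t => ?_⟩, fun ⟨M, hM, h0⟩ t => ?_⟩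
  · rw [← sub_eq_zero, eulerCharLE_sub]
    exact h t
  · obtain ⟨e⟩ := AbDualLib.nonempty_iso_of_cl_eq (hM : PicF.cl M = PicF.cl L)
    rw [PicDegLib.deg_congr _ e.symm, ← eulerCharLE_sub, sub_eq_zero]
    exact h0 t

include hdim in
theorem isPZc_mul_base {T : Over S} {a : Pic (PicF.XT f T)} (h : IsPZc f T a) (N : Pic T.left) :
    IsPZc f T (a * pull (PicF.XTproj f T) N) := by
  refine isPZc_of_geometric f hdim fun Ω _ _ σ g => ?_
  haveI : IsLocalRing (CommRingCat.of Ω) := inferInstanceAs (IsLocalRing Ω)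
  rw [map_mul, PicRepLib.pull_base_XTmap,
    show pull g.left N = 1 from eq_one_of_local (R := CommRingCat.of Ω) _, map_one, mul_one]
  exact isPZc_pull f hdim g h

variable (σ : S ⟶ C) (hσ : σ ≫ f = 𝟙 S) (J : Over S) (ξ : PicF.Rig f σ hσ J)
  (hξ : FGA.HasFibreDegreeZeroCl f J ξ.1)
  (huniv : ∀ (T : Over S) (c : PicF.Rig f σ hσ T), FGA.HasFibreDegreeZeroCl f T c.1 →
    ∃! g : T ⟶ J, PicF.pullCl (PicF.XTmap f g) ξ.1 = c.1)

include hdim hξ huniv in
/-- A universal rigidified class of degree zero makes the base represent `Pic⁰`. -/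
theorem exists_phi0_of_universal :
    ∃ φ₀ : ∀ T : Over S, PicF.Cl (PicF.XT f T) → (T ⟶ J),
      AbDual.IsRelPicZeroK Scheme.fppfPrecoverage f J φ₀ ∧
      ∀ x : Pic (PicF.XT f J), toCl x = ξ.1 → ∀ (T : Over S) (a : Pic (PicF.XT f T)), IsPZc f T a →
        pull (PicF.XTmap f (φ₀ T (toCl a))) x = PicRepLib.rig σ hσ a := by
  classical
  obtain ⟨x, hx, hxr⟩ := InvDescLib.exists_rig σ hσ ξ
  have hxz : IsPZc f J x := (isPZc_iff_hasFibreDegreeZero f hdim J x).2 (by rw [hx]; exact hξ)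
  have hrig : ∀ (T : Over S) (a : Pic (PicF.XT f T)), IsPZc f T a →
      ∃! g : T ⟶ J, pull (PicF.XTmap f g) x = PicRepLib.rig σ hσ a := fun T a ha => by
    have h1 := PicRepLib.rig_rigid (σ := σ) (hσ := hσ) a
    have h2 : IsPZc f T (PicRepLib.rig σ hσ a) := isPZc_mul_base f hdim ha _
    obtain ⟨g, hg, hg'⟩ := huniv T ⟨toCl (PicRepLib.rig σ hσ a), InvDescLib.rig_mem (σ := σ) (hσ := hσ) h1⟩
      ((isPZc_iff_hasFibreDegreeZero f hdim T _).1 h2)
    refine ⟨g, toCl_injective (by rw [toCl_pull, hx]; exact hg), fun g' hg'' => hg' g' ?_⟩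
    show PicF.pullCl (PicF.XTmap f g') ξ.1 = _
    rw [← hx, ← toCl_pull, hg'']
  have hnull : ∀ T : Over S, IsPZc f T 1 := fun T => by
    obtain ⟨L, hL, hL1⟩ := exists_cls (1 : Pic (PicF.XT f T))
    obtain ⟨e⟩ := (cls_eq_one hL).1 hL1
    rw [← hL1, isPZc_iff f hdim T hL]
    intro t
    rw [PicDegLib.deg_congr _ e, PicDegLib.deg, sub_self]
  choose g₁ hg₁ hg₁' using fun T => hrig T 1 (hnull T)
  let φ₀ : ∀ T : Over S, PicF.Cl (PicF.XT f T) → (T ⟶ J) := fun T c =>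
    if h : ∃ a, IsPZc f T a ∧ toCl a = c then (hrig T h.choose h.choose_spec.1).exists.choose else g₁ T
  have hφ : ∀ (T : Over S) (a : Pic (PicF.XT f T)), IsPZc f T a →
      pull (PicF.XTmap f (φ₀ T (toCl a))) x = PicRepLib.rig σ hσ a := fun T a ha => by
    have h : ∃ a', IsPZc f T a' ∧ toCl a' = toCl a := ⟨a, ha, rfl⟩
    simp only [φ₀, dif_pos h]
    rw [(hrig T h.choose h.choose_spec.1).exists.choose_spec, toCl_injective h.choose_spec.2]
  refine ⟨φ₀, ⟨fun T T' g c hc => ?_, fun T g => ?_, fun T c c' hc hc' he => ?_⟩,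
    fun y hy T a ha => by rw [toCl_injective (hy.trans hx.symm)]; exact hφ T a ha⟩
  · obtain ⟨a, rfl⟩ := exists_toCl (c := c) (hc.imp fun L h => ⟨h.1, h.2.1⟩)
    have ha' : IsPZc f T' (pull (PicF.XTmap f g) a) := isPZc_pull f hdim g hc
    refine (hrig T' _ ha').unique (by rw [← toCl_pull]; exact hφ T' _ ha') ?_
    rw [← InvDescLib.pull_XTmap_XTmap (φ₀ T (toCl a)) g rfl, hφ T a hc, PicRepLib.pull_rig]
  · refine ⟨Presieve.singleton (𝟙 T.left), ?_, ?_⟩
    · rw [Scheme.fppfPrecoverage, Scheme.singleton_mem_precoverage_iff]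
      exact ⟨fun z => ⟨z, rfl⟩, inferInstance, inferInstance⟩
    rintro U u ⟨⟩
    have hz := isPZc_pull f hdim (AbDual.ovrHom T (𝟙 T.left) ≫ g) hxz
    refine ⟨toCl (pull (PicF.XTmap f (AbDual.ovrHom T (𝟙 T.left) ≫ g)) x), hz, ?_⟩
    refine (hrig _ _ hz).unique (hφ _ _ hz) ?_
    rw [PicRepLib.rig_eq_self]
    exact InvDescLib.pull_secT_XTmap (σ := σ) (hσ := hσ) _ x |>.trans (by rw [hxr, map_one])
  · obtain ⟨a, rfl⟩ := exists_toCl (c := c) (hc.imp fun L h => ⟨h.1, h.2.1⟩)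
    obtain ⟨a', rfl⟩ := exists_toCl (c := c') (hc'.imp fun L h => ⟨h.1, h.2.1⟩)
    obtain ⟨N, hN⟩ := PicRepLib.exists_base_of_rig_eq (σ := σ) (hσ := hσ)
      ((hφ T a hc).symm.trans ((congrArg (fun q => pull (PicF.XTmap f q) x) he).trans (hφ T a' hc')))
    choose W htW hW using fun t : T.left => PicRepLib.exists_nhd_pull_eq_one N t
    refine ⟨Presieve.ofArrows (fun t : T.left => (W t).toScheme) (fun t => (W t).ι), ?_, ?_⟩
    · rw [Scheme.fppfPrecoverage, Scheme.ofArrows_mem_precoverage_iff]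
      exact ⟨fun t => ⟨t, ⟨t, htW t⟩, rfl⟩, fun t => ⟨inferInstance, inferInstance⟩⟩
    rintro U u ⟨t⟩
    rw [← toCl_pull, ← toCl_pull, hN, map_mul, PicRepLib.pull_base_XTmap,
      show pull (AbDual.ovrHom T (W t).ι).left N = 1 from hW t, map_one, mul_one]

include hdim hξ huniv in
theorem exists_isRelPicZeroK_of_universal :
    ∃ φ₀ : ∀ T : Over S, PicF.Cl (PicF.XT f T) → (T ⟶ J),
      AbDual.IsRelPicZeroK Scheme.fppfPrecoverage f J φ₀ :=
  let ⟨φ₀, h, _⟩ := exists_phi0_of_universal f hdim σ hσ J ξ hξ huniv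
  ⟨φ₀, h⟩

end Groth.Agent.JacLib
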