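import Groth.Agent.JacLib.JacGroup
import Groth.Agent.S3239

/-!
# Points and dimension of the Jacobian, torsion classes
-/

set_option autoImplicit false
set_option backward.isDefEq.respectTransparency false
set_option backward.isDefEq.respectTransparency.types false
set_option linter.style.haveILetI false
set_option maxHeartbeats 1000000

universe u

open CategoryTheory CategoryTheory.Limits AlgebraicGeometry Opposite MonObj MonoidalCategory CartesianMonoidalCategory
open Groth.Agent.PicLib Groth.Agent.AbDualLib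

noncomputable section

namespace Groth.Agent.JacLib

attribute [local instance] Curv2.stalkAlgebra
attribute [local instance high] FunFld.Place.algRes

section

variable {C S : Scheme.{u}} (f : C ⟶ S) [IsProper f] [Smooth f] [GeometricallyConnected f]
  (hdim : ∀ s : S, topologicalKrullDim ↥(f.fiber s) = 1)

include hdim in
theorem isPZc_of_pow_point {Ω : Type u} [Field Ω] [IsAlgClosed Ω] (τ : Spec (CommRingCat.of Ω) ⟶ S)
    {a : Pic (PicF.XT f (Over.mk τ))} {n : ℕ} (hn : n ≠ 0) (h : IsPZc f (Over.mk τ) (a ^ n)) :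
    IsPZc f (Over.mk τ) a := by
  haveI : SmoothOfRelativeDimension 1 f := smoothOfRelativeDimension_one f hdim
  letI : (PicF.XT f (Over.mk τ)).Over (Spec (CommRingCat.of Ω)) := ⟨PicF.XTproj f (Over.mk τ)⟩
  haveI : IsProper (PicF.XT f (Over.mk τ) ↘ Spec (CommRingCat.of Ω)) := isProper_XT f τ
  haveI : Smooth (PicF.XT f (Over.mk τ) ↘ Spec (CommRingCat.of Ω)) := smooth_XT f τ
  haveI : GeometricallyConnected (PicF.XT f (Over.mk τ) ↘ Spec (CommRingCat.of Ω)) :=
    geometricallyConnected_XT f τ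
  have hd := dim_XT f τ hdim
  obtain ⟨hint, hreg, h0⟩ := setup_of_smooth_connected Ω (PicF.XT f (Over.mk τ)) hd
  haveI := hint
  haveI := hreg
  have key : ∀ (b : Pic (PicF.XT f (Over.mk τ))) E, HasDiv Ω hd b E → (IsPZc f _ b ↔ E.deg = 0) := by
    intro b E hE
    obtain ⟨M, hM, rfl⟩ := exists_cls b
    rw [isPZc_iff f hdim _ hM]
    constructor
    · intro h
      rw [← deg_of_hasDiv hd h0 hM hE, ← deg_eq hd.le hM (IsLocalRing.closedPoint Ω)]
      exact h _
    · intro h t
      rw [← deg_of_hasDiv hd h0 hM hE, ← deg_eq hd.le hM t] at h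
      exact h
  obtain ⟨D, hD⟩ := exists_hasDiv hd h0 a
  have hpow : ∀ m : ℕ, ∃ E, HasDiv Ω hd (a ^ m) E ∧ E.deg = (m : ℤ) * D.deg := by
    intro m
    induction m with
    | zero => exact ⟨0, by rw [pow_zero]; exact hasDiv_one hd, by rw [FF.deg_zero]; simp⟩
    | succ m ih =>
      obtain ⟨E, hE, hdE⟩ := ih
      exact ⟨E + D, by rw [pow_succ]; exact hasDiv_mul hd hE hD, by rw [FF.deg_add, hdE]; push_cast; ring⟩
  obtain ⟨E, hE, hdE⟩ := hpow n
  rw [key _ _ hE, hdE, mul_eq_zero] at h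
  rw [key _ _ hD]
  exact h.resolve_left (by exact_mod_cast hn)

include hdim in
/-- Torsion classes have degree zero. -/
theorem isPZc_of_pow {T : Over S} {a : Pic (PicF.XT f T)} {n : ℕ} (hn : n ≠ 0) (h : a ^ n = 1) :
    IsPZc f T a :=
  isPZc_of_geometric f hdim fun Ω _ _ τ g => by
    refine isPZc_of_pow_point f hdim τ hn ?_
    rw [← map_pow, h, map_one]
    exact isPZc_one f hdim _

end

variable {k : Type u} [Field k] [IsSepClosed k] (X : Scheme.{u}) [X.Over (Spec (CommRingCat.of k))]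
  [IsProper (X ↘ Spec (CommRingCat.of k))] [Smooth (X ↘ Spec (CommRingCat.of k))] [IsIntegral X]
  (hdim : topologicalKrullDim X = 1)
  (σ : Spec (CommRingCat.of k) ⟶ X) (hσ : σ ≫ (X ↘ Spec (CommRingCat.of k)) = 𝟙 _)

include hdim in
/-- The Jacobian of a curve over a separably closed field is an abelian variety. -/
theorem exists_jacobian_av : ∃ (J : Over (Spec (CommRingCat.of k)))
    (x : Pic (PicF.XT (X ↘ Spec (CommRingCat.of k)) J)) (_ : GrpObj J) (_ : IsCommMonObj J),
    IsJac X σ hσ J x ∧ IsProper J.hom ∧ Smooth J.hom ∧ GeometricallyConnected J.hom ∧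
      GeometricallyIntegral J.hom ∧ topologicalKrullDim J.left = (Curv2.genus k X : WithBot ℕ∞) ∧
      ∀ (T : Over (Spec (CommRingCat.of k))) (a b : T ⟶ J),
        pull (PicF.XTmap _ (a * b)) x = pull (PicF.XTmap _ a) x * pull (PicF.XTmap _ b) x := by
  let f := X ↘ Spec (CommRingCat.of k)
  haveI hgc : GeometricallyConnected f := geometricallyConnected_of_sepClosed (k := k) (X := X)
  haveI : GeometricallyIntegral f := geometricallyIntegral_curve f
  haveI : GeometricallyIrreducible f := GeomIrred.geometricallyIrreducible_of_irreducibleSpace f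
  have hd := fiber_dim (k := k) X hdim
  obtain ⟨J, x, ⟨hx, hxz, hu⟩, h1, h2, h3⟩ := exists_isJac X hdim σ hσ
  obtain ⟨G, hG, hmul⟩ := exists_grpObj hd hx hxz hu
  haveI := h1
  haveI := h2
  haveI := h3
  let ξ : PicF.Rig f σ hσ J := ⟨toCl x, InvDescLib.rig_mem (σ := σ) (hσ := hσ) hx⟩
  refine ⟨J, x, G, hG, ⟨hx, hxz, hu⟩, h1, h2, h3, geometricallyIntegral_curve J.hom, ?_, hmul⟩
  refine Groth.Agent.S3239.result k X f hdim σ hσ rfl J ξ ((isPZc_iff_hasFibreDegreeZero f hd J x).1 hxz)
    fun T c hc => ?_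
  obtain ⟨b, hbc, hb⟩ := InvDescLib.exists_rig σ hσ c
  rw [← hbc] at hc
  obtain ⟨g, hg, hg'⟩ := hu T b hb ((isPZc_iff_hasFibreDegreeZero f hd T b).2 hc)
  refine ⟨g, ?_, fun q hq => hg' q (toCl_injective ?_)⟩
  · show PicF.pullCl _ (toCl x) = _
    rw [← toCl_pull, hg, hbc]
  · rw [toCl_pull, hbc]
    exact hq

include hdim hσ in
/-- Torsion classes of the curve are the torsion rational points of the Jacobian. -/
theorem exists_torsion_equiv : ∃ (J : Over (Spec (CommRingCat.of k))) (_ : GrpObj J) (_ : IsCommMonObj J),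
    IsProper J.hom ∧ Smooth J.hom ∧ GeometricallyConnected J.hom ∧ GeometricallyIntegral J.hom ∧
      topologicalKrullDim J.left = (Curv2.genus k X : WithBot ℕ∞) ∧
      ∀ n : ℕ, n ≠ 0 →
        Nat.card {c : PicF.Cl X | ∃ M : Scheme.Modules X, PicF.cl M = c ∧ PicF.IsInvertible M ∧
            Nonempty (CohB1.tensorPow M n ≅ Coh.structureModule X)} =
          Nat.card (AbDual.torsPts J n (Over.mk (𝟙 (Spec (CommRingCat.of k))))) := by
  let f := X ↘ Spec (CommRingCat.of k)
  haveI hgc : GeometricallyConnected f := geometricallyConnected_of_sepClosed (k := k) (X := X)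
  have hd := fiber_dim (k := k) X hdim
  obtain ⟨J, x, G, hG, ⟨hx, hxz, hu⟩, h1, h2, h3, h4, h5, hmul⟩ := exists_jacobian_av X hdim σ hσ
  refine ⟨J, G, hG, h1, h2, h3, h4, h5, fun n hn => ?_⟩
  let T₀ : Over (Spec (CommRingCat.of k)) := Over.mk (𝟙 _)
  let p : PicF.XT f T₀ ⟶ X := pullback.fst f (𝟙 _)
  let Ψ : (T₀ ⟶ J) →* Pic (PicF.XT f T₀) := MonoidHom.mk' (fun g => pull (PicF.XTmap f g) x) (hmul T₀)
  have hrig : ∀ a : Pic (PicF.XT f T₀), pull (PicF.secT f σ hσ T₀) a = 1 :=
    fun a => eq_one_of_local (R := CommRingCat.of k) _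
  have hΨ : Function.Injective Ψ := fun a b h =>
    (hu T₀ _ (hrig _) (isPZc_pull f hd b hxz)).unique h rfl
  have hp : Function.Bijective (pull p) :=
    Function.bijective_iff_has_inverse.2 ⟨pull (inv p), fun a => by rw [← pull_comp, IsIso.inv_hom_id, pull_id],
      fun a => by rw [← pull_comp, IsIso.hom_inv_id, pull_id]⟩
  let F : {a : Pic X // a ^ n = 1} → {c : PicF.Cl X | ∃ M : Scheme.Modules X, PicF.cl M = c ∧ PicF.IsInvertible M ∧
            Nonempty (CohB1.tensorPow M n ≅ Coh.structureModule X)} := fun a => ⟨toCl a.1, by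
    obtain ⟨L, hL, h⟩ := exists_cls a.1
    refine ⟨L, by rw [← h]; rfl, hL, (cls_eq_one (AmpleLib.isInvertible_tensorPow hL n)).1 ?_⟩
    rw [PicLib.cls_tensorPow hL n, h]
    exact a.2⟩
  have hF : Function.Bijective F := by
    refine ⟨fun a b h => Subtype.ext (toCl_injective (congrArg Subtype.val h)), ?_⟩
    rintro ⟨c, M, rfl, hM, ⟨e⟩⟩
    refine ⟨⟨cls hM, ?_⟩, rfl⟩
    rw [← PicLib.cls_tensorPow hM n]
    exact (cls_eq_one _).2 ⟨e⟩
  let Q : AbDual.torsPts J n T₀ → {a : Pic X // a ^ n = 1} := fun g =>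
    ⟨(Equiv.ofBijective _ hp).symm (Ψ g.1), hp.1 (by
      rw [map_pow, map_one, Equiv.ofBijective_apply_symm_apply (pull p) hp, ← map_pow, (AbDual.mem_torsPts J g.1).1 g.2, map_one])⟩
  have hQ : Function.Bijective Q := by
    refine ⟨fun a b h => Subtype.ext (hΨ ((Equiv.ofBijective _ hp).symm.injective (congrArg Subtype.val h))), ?_⟩
    rintro ⟨a, ha⟩
    have hpa : pull p a ^ n = 1 := by rw [← map_pow, ha, map_one]
    obtain ⟨g, hg, -⟩ := hu T₀ (pull p a) (hrig _) (isPZc_of_pow f hd hn hpa)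
    refine ⟨⟨g, (AbDual.mem_torsPts J g).2 (hΨ ?_)⟩, Subtype.ext ?_⟩
    · rw [map_pow, map_one, show Ψ g = pull p a from hg, hpa]
    · show (Equiv.ofBijective _ hp).symm (Ψ g) = a
      rw [show Ψ g = pull p a from hg]
      exact Equiv.ofBijective_symm_apply_apply (pull p) hp a
  exact (Nat.card_eq_of_bijective F hF).symm.trans (Nat.card_eq_of_bijective Q hQ).symm

end Groth.Agent.JacLib
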