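import Groth.Agent.JacLib.EllFibre
import Groth.Agent.JacLib.JacProper
import Groth.Agent.AbelMapLib.Main
import Groth.Agent.RelDivLib.Fibrewise
import Groth.Agent.RelDivLib.Scheme
import Groth.Agent.FibIsoOpen.Basic

/-!
# A class of degree one on a family of curves of genus one comes from a point
-/

set_option autoImplicit false
set_option backward.isDefEq.respectTransparency false
set_option backward.isDefEq.respectTransparency.types false
set_option linter.style.haveILetI false
set_option maxHeartbeats 1600000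

universe u

open CategoryTheory CategoryTheory.Limits AlgebraicGeometry TopologicalSpace Opposite
open Groth.Agent.PicLib Groth.Agent.PullbackMod Groth.Agent.ParaFLib

noncomputable section

namespace Groth.Agent.JacLib

theorem nontrivial_gamma_spec (R : Type u) [CommRing R] [Nontrivial R] : Nontrivial Γ(Spec (CommRingCat.of R), ⊤) := by
  refine ⟨⟨1, 0, fun h => one_ne_zero (α := R) ?_⟩⟩
  have := congrArg (Scheme.ΓSpecIso (CommRingCat.of R)).hom h
  rwa [map_one, map_zero] at this

variable {C S : Scheme.{u}} (f : C ⟶ S) [IsProper f] [SmoothOfRelativeDimension 1 f] [GeometricallyConnected f]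
  (hdim : ∀ s : S, topologicalKrullDim ↥(f.fiber s) = 1)
  (hg : ∀ s : S, CohIII.fiberRank f (Coh.structureModule C) 1 s = 1)
variable {T : Over S} {L : (PicF.XT f T).Modules} (hL : PicF.IsInvertible L)
  (hdeg : ∀ t, PicDegLib.deg (PicF.XTproj f T) L t = 1)

instance isProper_XTproj : IsProper (PicF.XTproj f T) := inferInstanceAs (IsProper (pullback.snd f T.hom))

instance smooth_XTproj : Smooth (PicF.XTproj f T) :=
  haveI : Smooth f := SmoothOfRelativeDimension.smooth 1 f
  inferInstanceAs (Smooth (pullback.snd f T.hom))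

instance geometricallyConnected_XTproj : GeometricallyConnected (PicF.XTproj f T) :=
  inferInstanceAs (GeometricallyConnected (pullback.snd f T.hom))

include hdim hg hL hdeg in
theorem fiberRank_deg_one (t : T.left) :
    CohIII.fiberRank (PicF.XTproj f T) L 0 t = 1 ∧ CohIII.fiberRank (PicF.XTproj f T) L 1 t = 0 := by
  let Ω := AlgebraicClosure (T.left.residueField t)
  let p : Spec (CommRingCat.of Ω) ⟶ T.left :=
    Spec.map (CommRingCat.ofHom (algebraMap (T.left.residueField t) Ω)) ≫ T.left.fromSpecResidueField t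
  let g : Over.mk (p ≫ T.hom) ⟶ T := Over.homMk p rfl
  let t₀ := IsLocalRing.closedPoint Ω
  have hp : g.left t₀ = t := by
    show (Spec.map _ ≫ T.left.fromSpecResidueField t) _ = t
    rw [Scheme.Hom.comp_apply]
    exact Scheme.fromSpecResidueField_apply t _
  have hL' := AmpleLib.isInvertible_pullback (PicF.XTmap f g) hL
  have h := (fibre_data f hdim hg (p ≫ T.hom) hL' (by rw [PicDegLib.deg_XTmap g hL]; exact hdeg _)).1
  haveI := PicDegLib.isQCoh_invertible hL
  have h0 := BCLib.fiberRank_baseChange (InvDescLib.isPullback_map g) L 0 t₀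
  have h1 := BCLib.fiberRank_baseChange (InvDescLib.isPullback_map g) L 1 t₀
  rw [hp] at h0 h1
  exact ⟨h0.symm.trans h.1, h1.symm.trans h.2⟩

include hdim hg hL hdeg in
theorem ptGood_deg_one (t : T.left) :
    haveI := PicDegLib.isQCoh_invertible hL
    GenBCLib.PtGood (PicF.XTproj f T) L 1 t := by
  let π := PicF.XTproj f T
  have hlf := CurveLib.isFinLocFree_of_isInvertible hL
  obtain ⟨hq, hfp⟩ := isQCoh_and_isFP_of_isFinLocFree L hlf
  haveI := hq
  let κ := T.left.residueField t
  letI : (π.fiber t).Over (Spec (CommRingCat.of κ)) := ⟨π.fiberToSpecResidueField t⟩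
  haveI : IsProper (π.fiber t ↘ Spec (CommRingCat.of κ)) :=
    MorphismProperty.pullback_snd π (T.left.fromSpecResidueField t) inferInstance
  have h1 : Subsingleton (CohIII.fiberH π L t 1) := by
    haveI := EulerIneqLib.isNoetherian_proper (X := π.fiber t) κ
    haveI := EulerIneqLib.finite_HH (k := κ)
      (CurveLib.isCoh_of_isInvertible (AmpleLib.isInvertible_pullback (π.fiberι t) hL)) 1
    exact (Module.finrank_eq_zero_iff_of_free κ _).1 (fiberRank_deg_one f hdim hg hL hdeg t).2
  obtain ⟨V, D, htV⟩ := GenBCLib.exists_dat_at hfp (TildePerf.isFlatOver_of_isFinLocFree π hlf) t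
  obtain ⟨a, ha, -, hsp, -⟩ := D.exists_vanish htV h1
  refine ⟨⟨V, D, a, ha, hsp⟩, ?_⟩
  rw [← (fiberRank_deg_one f hdim hg hL hdeg t).1]
  exact D.freeAt_of_good ha hsp

include hdim hg hL hdeg in
theorem isIso_bc0_deg_one {T' : Over S} (g : T' ⟶ T) :
    IsIso (CohBC.bc0 (PicF.XTproj f T) g.left (PicF.XTproj f T') (PicF.XTmap f g)
      (InvDescLib.isPullback_map g).w L) := by
  haveI := PicDegLib.isQCoh_invertible hL
  exact GenBCLib.isIso_bc0 (InvDescLib.isPullback_map g) L fun z => (ptGood_deg_one f hdim hg hL hdeg (g.left z)).1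

include hdim hg hL hdeg in
theorem isInvertible_push_deg_one : PicF.IsInvertible ((Scheme.Modules.pushforward (PicF.XTproj f T)).obj L) := by
  haveI := PicDegLib.isQCoh_invertible hL
  exact VBLib.isInvertible_of_rank (GenBCLib.isFinLocFreeOfRank_of_ptGood 1 (ptGood_deg_one f hdim hg hL hdeg))

include hdim hg hL hdeg in
/-- Generating sections of the direct image base change to generating sections. -/
theorem gen_bc {T' : Over S} (g : T' ⟶ T) {V : T.left.Opens} (hV : (⊤ : T'.left.Opens) ≤ g.left ⁻¹ᵁ V)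
    (s : Γ(L, PicF.XTproj f T ⁻¹ᵁ V)) (hs : Gen (L := (Scheme.Modules.pushforward (PicF.XTproj f T)).obj L) V s)
    (hle : (⊤ : (PicF.XT f T').Opens) ≤ PicF.XTmap f g ⁻¹ᵁ (PicF.XTproj f T ⁻¹ᵁ V)) :
    Gen (L := (Scheme.Modules.pushforward (PicF.XTproj f T')).obj ((Scheme.Modules.pullback (PicF.XTmap f g)).obj L))
      (⊤ : T'.left.Opens) (pullMap (PicF.XTmap f g) L hle s) := by
  haveI := isIso_bc0_deg_one f hdim hg hL hdeg g
  let bc := CohBC.bc0 (PicF.XTproj f T) g.left (PicF.XTproj f T') (PicF.XTmap f g) (InvDescLib.isPullback_map g).w L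
  have h := gen_of_modIso (asIso bc) (CubeLib.gen_pullMap g.left (isInvertible_push_deg_one f hdim hg hL hdeg) hs hV)
  rw [asIso_hom, GenBCLib.bc0_pullMap (InvDescLib.isPullback_map g).w L hV hle s] at h
  exact h

variable {s : Γ(L, ⊤)}
  (hs : Gen (L := (Scheme.Modules.pushforward (PicF.XTproj f T)).obj L) (⊤ : T.left.Opens) s)

include hdim hg hL hdeg hs in
/-- A generating section gives a point. -/
theorem exists_pt_of_gen : ∃ x : T ⟶ Over.mk f, cls hL = pt f x := by
  haveI : Smooth f := SmoothOfRelativeDimension.smooth 1 f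
  haveI := geometricallyIntegral_curve f
  let X := PicF.XT f T
  let π := PicF.XTproj f T
  let K := PicF2.zeroScheme L (DCohLib.secHom L s)
  have hK := isCanSect_zeroScheme hL s
  let ρ : K.subscheme ⟶ T.left := K.subschemeι ≫ π
  -- geometric fibres of the zero scheme
  have hgeo : ∀ (Ω : Type u) [Field Ω] [IsAlgClosed Ω] (p : Spec (CommRingCat.of Ω) ⟶ T.left),
      IsIso (pullback.snd ρ p) := by
    intro Ω _ _ p
    let g : Over.mk (p ≫ T.hom) ⟶ T := Over.homMk p rfl
    let m := PicF.XTmap f g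
    have hsq : IsPullback m (PicF.XTproj f (Over.mk (p ≫ T.hom))) π p := InvDescLib.isPullback_map g
    have hL' := AmpleLib.isInvertible_pullback m hL
    let sσ := pullMap m L (fun _ _ => trivial : (⊤ : (PicF.XT f (Over.mk (p ≫ T.hom))).Opens) ≤ m ⁻¹ᵁ ⊤) s
    have hne : sσ ≠ 0 := by
      intro h
      have h1 := gen_bc f hdim hg hL hdeg g (V := ⊤) (fun _ _ => trivial) s hs (fun _ _ => trivial)
      haveI : Nontrivial Γ((Over.mk (p ≫ T.hom)).left, ⊤) := nontrivial_gamma_spec Ω
      refine one_ne_zero (α := Γ((Over.mk (p ≫ T.hom)).left, ⊤)) ((h1 ⊤ le_rfl).1 ?_)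
      simp only [ParaFLib.res_self, zero_smul, one_smul]
      exact h
    obtain ⟨x, hx⟩ := (fibre_data f hdim hg (p ≫ T.hom) hL'
      (by rw [PicDegLib.deg_XTmap g hL]; exact hdeg _)).2 sσ hne
    let q := graph f x
    have hq : q ≫ PicF.XTproj f (Over.mk (p ≫ T.hom)) = 𝟙 _ := pullback.lift_snd _ _ _
    haveI : IsSeparated (PicF.XTproj f (Over.mk (p ≫ T.hom))) :=
      inferInstanceAs (IsSeparated (pullback.snd f (p ≫ T.hom)))
    haveI := isClosedImmersion_of_section _ q hq
    haveI : IsIso q.toImage := inferInstance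
    have hqi : q.toImage ≫ q.ker.subschemeι = q := q.toImage_imageι
    have hzero := (hx q).2 ⟨q.toImage, hqi⟩
    obtain ⟨k₀, hk₀⟩ := (AbelMapLib.pullMap_eq_zero_iff K hL hK (q ≫ m)).1
      ((AbelMapLib.pullMap_comp_eq_zero_iff q m L s).1 hzero)
    have hk₁ : k₀ ≫ ρ = 𝟙 _ ≫ p := by
      show k₀ ≫ K.subschemeι ≫ π = _
      rw [reassoc_of% hk₀, hsq.w, ← Category.assoc, hq]
      rfl
    refine ⟨pullback.lift k₀ (𝟙 _) hk₁, ?_, pullback.lift_snd _ _ _⟩
    apply pullback.hom_ext
    · rw [Category.assoc, pullback.lift_fst, Category.id_comp, ← cancel_mono K.subschemeι, Category.assoc, hk₀]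
      let G := hsq.lift (pullback.fst ρ p ≫ K.subschemeι) (pullback.snd ρ p) (by
        rw [Category.assoc]; exact pullback.condition)
      have hGm : G ≫ m = pullback.fst ρ p ≫ K.subschemeι := hsq.lift_fst _ _ _
      have hG := (AbelMapLib.pullMap_comp_eq_zero_iff G m L s).2
        ((AbelMapLib.pullMap_eq_zero_iff K hL hK (G ≫ m)).2 ⟨pullback.fst ρ p, hGm.symm⟩)
      obtain ⟨k, hk⟩ := (hx G).1 hG
      have hk' : G = (k ≫ inv q.toImage) ≫ q := by
        rw [← hk, Category.assoc]
        congr 1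
        exact (IsIso.eq_inv_comp _).2 hqi
      have h2 : k ≫ inv q.toImage = pullback.snd ρ p := by
        have := congrArg (· ≫ PicF.XTproj f (Over.mk (p ≫ T.hom))) hk'
        simp only [Category.assoc, hq, Category.comp_id, G, hsq.lift_snd] at this
        exact this.symm
      rw [← hGm, hk', h2, Category.assoc]
    · rw [Category.assoc, pullback.lift_snd, Category.comp_id, Category.id_comp]
  -- the fibres
  have hfibre : ∀ t, IsIso (ρ.fiberToSpecResidueField t) := by
    intro t
    let κ := T.left.residueField t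
    let a : Spec (CommRingCat.of (AlgebraicClosure κ)) ⟶ Spec (CommRingCat.of κ) :=
      Spec.map (CommRingCat.ofHom (algebraMap κ (AlgebraicClosure κ)))
    haveI : Subsingleton ↥(Spec (CommRingCat.of κ)) := inferInstanceAs (Subsingleton (PrimeSpectrum κ))
    haveI : Surjective a := ⟨fun x => ⟨IsLocalRing.closedPoint _, Subsingleton.elim _ _⟩⟩
    haveI : Flat a := (HasRingHomProperty.Spec_iff (P := @Flat)).2
      (show (algebraMap κ (AlgebraicClosure κ)).Flat from RingHom.flat_algebraMap_iff.2 inferInstance)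
    haveI := hgeo _ (a ≫ T.left.fromSpecResidueField t)
    refine MorphismProperty.of_pullback_snd_of_descendsAlong (P := MorphismProperty.isomorphisms Scheme.{u})
      (Q := @Surjective ⊓ @Flat ⊓ @QuasiCompact) (f := ρ.fiberToSpecResidueField t) (g := a)
      ⟨⟨inferInstance, inferInstance⟩, inferInstance⟩ ?_
    show IsIso (pullback.snd (pullback.snd ρ (T.left.fromSpecResidueField t)) a)
    rw [← pullbackLeftPullbackSndIso_hom_snd ρ (T.left.fromSpecResidueField t) a]
    infer_instance
  have hsub : ∀ d d' : K.subscheme, ρ d = ρ d' → d = d' := by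
    intro d d' h
    haveI := hfibre (ρ d)
    haveI : Subsingleton ↥(Spec (CommRingCat.of (T.left.residueField (ρ d)))) :=
      inferInstanceAs (Subsingleton (PrimeSpectrum (T.left.residueField (ρ d))))
    haveI : Subsingleton ↥(ρ.fiber (ρ d)) := (ρ.fiberToSpecResidueField (ρ d)).homeomorph.injective.subsingleton
    obtain ⟨z, hz⟩ : d ∈ Set.range (ρ.fiberι (ρ d)) := by rw [ρ.range_fiberι]; rfl
    obtain ⟨z', hz'⟩ : d' ∈ Set.range (ρ.fiberι (ρ d)) := by rw [ρ.range_fiberι]; exact h.symm
    rw [← hz, ← hz', Subsingleton.elim z z']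
  -- effective Cartier on the fibres
  have hfib : ∀ y : T.left, BlowUp.IsEffCartierIdeal (K.comap (π.fiberι y)) := by
    intro y z
    let F := π.fiber y
    obtain ⟨W, hzW, l, b, hl, hI, hsb⟩ := hK (π.fiberι y z)
    obtain ⟨W', hW', hzW', hle⟩ := exists_isAffineOpen_mem_and_subset
      (U := π.fiberι y ⁻¹ᵁ W.1) (show π.fiberι y z ∈ W.1 from hzW)
    let c := (π.fiberι y).appLE W.1 W' hle b
    refine ⟨⟨W', hW'⟩, hzW', c, ?_, ?_⟩
    · haveI : IsIntegral F := inferInstanceAs (IsIntegral (π.fiber y))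
      haveI : Nonempty W' := ⟨⟨z, hzW'⟩⟩
      refine mem_nonZeroDivisors_of_ne_zero fun hc => ?_
      have hW'top : (⊤ : W'.toScheme.Opens) ≤ (W'.ι ≫ π.fiberι y) ⁻¹ᵁ W.1 := fun w _ => hle w.2
      obtain ⟨k, hk⟩ := (AbelMapLib.pullMap_eq_zero_iff K hL hK (W'.ι ≫ π.fiberι y)).1
        (AbelMapLib.pullMap_res_zero _ L l b hsb hW'top (by
          rw [← Scheme.Hom.appLE_comp_appLE W'.ι (π.fiberι y) W.1 W' ⊤ hle (fun w _ => w.2), CommRingCat.comp_apply,
            show (π.fiberι y).appLE W.1 W' hle b = 0 from hc, map_zero]))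
      have hρ : ∀ w, ρ (k w) = y := fun w => by
        show (K.subschemeι ≫ π) (k w) = y
        rw [← Scheme.Hom.comp_apply, ← Category.assoc, hk, Scheme.Hom.comp_apply]
        show π (π.fiberι y (W'.ι w)) = y
        exact (π.range_fiberι y).le ⟨_, rfl⟩
      haveI : Subsingleton (W' : Set F) := ⟨fun w w' => by
        have e := hsub (k w) (k w') ((hρ w).trans (hρ w').symm)
        refine Subtype.ext ((π.fiberι y).isEmbedding.injective ?_)
        have e1 := congrArg (fun v => v w) hk
        have e2 := congrArg (fun v => v w') hk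
        simp only [Scheme.Hom.comp_apply] at e1 e2
        show π.fiberι y (W'.ι w) = π.fiberι y (W'.ι w')
        rw [← e1, ← e2, e]⟩
      haveI : LocallyOfFiniteType (π.fiberToSpecResidueField y) :=
        MorphismProperty.pullback_snd π (T.left.fromSpecResidueField y) inferInstance
      haveI : JacobsonSpace F := LocallyOfFiniteType.jacobsonSpace (π.fiberToSpecResidueField y)
      have hd1 : topologicalKrullDim F = 1 :=
        (Groth.Agent.S9777.result f _ π (pullback.fst f T.hom) (IsPullback.of_hasPullback f T.hom) y).trans (hdim _)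
      have h1 := one_le_dim_of_open hd1 W' ⟨z, hzW'⟩
      haveI : Subsingleton (IrreducibleCloseds (W' : Set F)) := ⟨fun A B => by
        obtain ⟨a₁, ha⟩ := A.isIrreducible.nonempty
        obtain ⟨b₁, hb⟩ := B.isIrreducible.nonempty
        ext w
        exact ⟨fun _ => by rw [Subsingleton.elim w b₁]; exact hb, fun _ => by rw [Subsingleton.elim w a₁]; exact ha⟩⟩
      have h2 : topologicalKrullDim (W' : Set F) ≤ 0 := Order.krullDim_nonpos_of_subsingleton
      exact absurd (h1.trans h2) (by norm_num)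
    · rw [IdealStalkLib.comap_ideal K (π.fiberι y) W.2 hW' hle, hI, Ideal.map_span, Set.image_singleton]
  -- charts
  have hchart : ∀ x : X, x ∈ K.support → _ := fun x hx => RelDivLib.exists_chart_of_fibre π K hx (by
    obtain ⟨W, hxW, l, b, hl, hI, hsb⟩ := hK x
    exact ⟨W, hxW, b, hI⟩) (hfib (π x))
  have hC : BlowUp.IsEffCartierIdeal K := by
    intro x
    by_cases hx : x ∈ K.support
    · obtain ⟨W, V, e, hxV, ⟨c, hc, hI⟩, -⟩ := hchart x hx
      exact ⟨V, hxV, c, hc, hI⟩
    · obtain ⟨U, hxU, hU⟩ := IdealStalkLib.exists_unit_nhd K hx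
      exact ⟨U, hxU, 1, one_mem _, by rw [hU, Ideal.span_singleton_one]⟩
  haveI : Flat ρ := RelDivLib.flat_of_charts π K fun x hx => by
    obtain ⟨W, V, e, hxV, -, hfl⟩ := hchart x hx
    exact ⟨W, V, hxV, e, hfl⟩
  haveI := HilbCurveLib.lfp_subschemeι K hC
  haveI : IsProper ρ := inferInstanceAs (IsProper (K.subschemeι ≫ π))
  haveI : LocallyOfFinitePresentation ρ := inferInstanceAs (LocallyOfFinitePresentation (K.subschemeι ≫ π))
  haveI : IsProper (ρ ≫ 𝟙 T.left) := by rw [Category.comp_id]; infer_instance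
  haveI : LocallyOfFinitePresentation (ρ ≫ 𝟙 T.left) := by rw [Category.comp_id]; infer_instance
  haveI : Flat (ρ ≫ 𝟙 T.left) := by rw [Category.comp_id]; infer_instance
  have hiso : IsIso ρ := by
    refine IsZariskiLocalAtTarget.of_forall_exists_morphismRestrict (P := MorphismProperty.isomorphisms Scheme.{u})
      fun t => ?_
    haveI : IsIso ((ρ ≫ 𝟙 T.left).fiberToSpecResidueField t) :=
      (Category.comp_id ρ).symm ▸ hfibre t
    haveI : IsIso (Scheme.Hom.fiberToSpecResidueField (𝟙 T.left : T.left ⟶ T.left) t) :=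
      inferInstanceAs (IsIso (pullback.snd (𝟙 T.left) _))
    haveI : IsIso (MoreMor.fiberMap ρ (𝟙 T.left) t ≫ Scheme.Hom.fiberToSpecResidueField (𝟙 T.left : T.left ⟶ T.left) t) := by
      rw [show MoreMor.fiberMap ρ (𝟙 T.left) t ≫ Scheme.Hom.fiberToSpecResidueField (𝟙 T.left : T.left ⟶ T.left) t =
        (ρ ≫ 𝟙 T.left).fiberToSpecResidueField t from pullback.lift_snd _ _ _]
      infer_instance
    haveI : IsIso (MoreMor.fiberMap ρ (𝟙 T.left) t) :=
      IsIso.of_isIso_comp_right _ (Scheme.Hom.fiberToSpecResidueField (𝟙 T.left : T.left ⟶ T.left) t)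
    obtain ⟨U, htU, hU⟩ := FibIsoOpen.exists_nhd ρ (𝟙 T.left) t
    exact ⟨U, htU, hU⟩
  let i : T.left ⟶ X := inv ρ ≫ K.subschemeι
  have hi : i ≫ π = 𝟙 _ := by
    show (inv ρ ≫ K.subschemeι) ≫ π = 𝟙 _
    rw [Category.assoc]; exact IsIso.inv_hom_id ρ
  let x : T ⟶ Over.mk f := Over.homMk (i ≫ pullback.fst f T.hom) (by
    show (i ≫ pullback.fst f T.hom) ≫ f = T.hom
    rw [Category.assoc, pullback.condition, ← Category.assoc]
    exact (congrArg (· ≫ T.hom) hi).trans (Category.id_comp _))
  have hgr : graph f x = i := by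
    apply pullback.hom_ext
    · exact pullback.lift_fst _ _ _
    · exact (pullback.lift_snd _ _ _).trans hi.symm
  have hker : (graph f x).ker = K := by
    rw [hgr, Scheme.Hom.ker_comp_of_isIso, Scheme.IdealSheafData.ker_subschemeι]
  have hI : PicF.IsInvertible (ClSub.idealMod (graph f x).ker) := by
    rw [hker]; exact (Groth.Agent.S8914.result K).2 hC
  refine ⟨x, ?_⟩
  rw [pt_eq f x hI]
  refine eq_inv_of_mul_eq_one_left ?_
  rw [← cls_tensor hL hI, cls_eq_one, hker]
  exact nonempty_tensor_idealMod_iso hC hK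

end Groth.Agent.JacLib
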