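import Groth.Agent.JacLib.AbelMap
import Groth.Agent.JacLib.DegFine
import Groth.Agent.ProperFin.Chow
import Groth.Agent.PicRepLib.Good
import Groth.Agent.S4799

/-!
# The Abel map of degree at most the genus is generically an immersion
-/

set_option autoImplicit false
set_option backward.isDefEq.respectTransparency false
set_option backward.isDefEq.respectTransparency.types false
set_option linter.style.haveILetI false
set_option linter.unusedSectionVars false
set_option maxHeartbeats 1000000

universe u

open CategoryTheory CategoryTheory.Limits AlgebraicGeometry TopologicalSpace Opposite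
open Groth.Agent.PicLib Groth.Agent.PicRepLib

noncomputable section

namespace Groth.Agent.JacLib

section

variable {C S : Scheme.{u}} (f : C ⟶ S)

/-- Forgetting the last `m` points. -/
def powProj (n : ℕ) : ∀ m : ℕ, pow f (n + m) ⟶ pow f n
  | 0 => 𝟙 _
  | m + 1 => proj f (n + m) ≫ powProj n m

instance smooth_powProj [Smooth f] (n : ℕ) : ∀ m, Smooth (powProj f n m).left
  | 0 => inferInstanceAs (Smooth (𝟙 _))
  | m + 1 => by
    haveI := smooth_powProj n m
    exact inferInstanceAs (Smooth (pullback.fst (pow f (n + m)).hom f ≫ (powProj f n m).left))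

theorem comps_powProj {T : Over S} (n : ℕ) : ∀ (m : ℕ) (w : T ⟶ pow f (n + m)) (i : Fin n),
    comps f n (w ≫ powProj f n m) i = comps f (n + m) w (i.castAdd m)
  | 0, w, i => by
    rw [powProj, Category.comp_id]
    rfl
  | m + 1, w, i => by
    rw [powProj, ← Category.assoc, comps_powProj n m (w ≫ proj f (n + m)) i,
      show comps f (n + (m + 1)) w (i.castAdd (m + 1)) =
        Fin.snoc (α := fun _ => T ⟶ Over.mk f) (comps f (n + m) (w ≫ proj f (n + m))) (w ≫ lastPt f (n + m))
          (i.castAdd m).castSucc from rfl, Fin.snoc_castSucc]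

variable {f}

/-- Each point of a tuple meets some point of a tuple with the same divisor. -/
theorem exists_graph_eq [IsProper f] [Smooth f] [SmoothOfRelativeDimension 1 f] {T : Over S} {n : ℕ}
    (x y : Fin n → (T ⟶ Over.mk f)) (hZ : tupIdeal x = tupIdeal y) (j : Fin n) (t : T.left) :
    ∃ i, graph f (y j) t = graph f (x i) t := by
  classical
  haveI : ∀ z : T ⟶ Over.mk f, IsClosedImmersion (graph f z) := fun z =>
    (HilbCurveLib.deg_section (pullback.snd f T.hom) (graph f z) (pullback.lift_snd _ _ _)).1
  have hsup : ∀ s : Finset (Fin n), ∀ (z : Fin n → (T ⟶ Over.mk f)) (p : PicF.XT f T),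
      p ∈ (∏ i ∈ s, (graph f (z i)).ker).support → ∃ i ∈ s, p ∈ Set.range (graph f (z i)) := fun s z p => by
    induction s using Finset.induction with
    | empty =>
      rw [Finset.prod_empty, show (1 : (PicF.XT f T).IdealSheafData) = ⊤ from rfl, Scheme.IdealSheafData.support_top]
      exact fun h => h.elim
    | insert b s hb ih =>
      rw [Finset.prod_insert hb, Scheme.IdealSheafData.support_mul]
      rintro (h1 | h1)
      · refine ⟨b, Finset.mem_insert_self _ _, ?_⟩
        rw [Scheme.Hom.support_ker] at h1
        replace h1 := (graph f (z b)).isClosedEmbedding.isClosed_range.closure_eq ▸ h1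
        exact h1
      · obtain ⟨i, hi, h2⟩ := ih h1
        exact ⟨i, Finset.mem_insert_of_mem hi, h2⟩
  have hin : graph f (y j) t ∈ (tupIdeal y).support := by
    rw [tupIdeal, ← Finset.mul_prod_erase _ _ (Finset.mem_univ j), Scheme.IdealSheafData.support_mul]
    refine Or.inl ?_
    rw [Scheme.Hom.support_ker]
    exact subset_closure ⟨t, rfl⟩
  rw [← hZ] at hin
  obtain ⟨i, -, s, hs⟩ := hsup Finset.univ x _ hin
  refine ⟨i, ?_⟩
  have h1 := congrArg (PicF.XTproj f T) hs
  simp only [← Scheme.Hom.comp_apply, graph, pullback.lift_snd, PicF.XTproj] at h1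
  rw [← hs]
  congr 1

/-- Tuples extended by the same points and with the same good class differ locally by a permutation of the
first points. -/
theorem exists_perm_castAdd [IsProper f] [Smooth f] [GeometricallyConnected f] [SmoothOfRelativeDimension 1 f]
    {T : Over S} (n m : ℕ) (x y : Fin (n + m) → (T ⟶ Over.mk f))
    (hxy : ∀ j : Fin m, y (j.natAdd n) = x (j.natAdd n))
    (hx : ∀ i j, i ≠ j → ∀ t, graph f (x i) t ≠ graph f (x j) t)
    (hgood : Good (∏ i, pt f (x i)) = Set.univ) (h : ∏ i, pt f (y i) = ∏ i, pt f (x i)) (t : T.left) :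
    ∃ (W : T.left.Opens) (σ : Equiv.Perm (Fin n)), t ∈ W ∧
      ∀ j : Fin n, W.ι ≫ (y (j.castAdd m)).left = W.ι ≫ (x ((σ j).castAdd m)).left := by
  classical
  have hZ : tupIdeal x = tupIdeal y := eq_of_divCls (tupObj x) (tupObj y) (by rwa [divCls_tupObj]) 1
    (by rw [divCls_tupObj, divCls_tupObj, h, map_one, _root_.mul_one])
  have hy : ∀ i j, i ≠ j → ∀ s, graph f (y i) s ≠ graph f (y j) s := by
    intro i j hij s hs
    choose a ha using fun l => exists_graph_eq y x hZ.symm l s
    have hinj : Function.Injective a := fun l l' e => by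
      by_contra hne
      exact hx l l' hne s ((ha l).trans (e ▸ (ha l').symm))
    obtain ⟨l, rfl⟩ := (Finite.injective_iff_surjective.1 hinj) i
    obtain ⟨l', rfl⟩ := (Finite.injective_iff_surjective.1 hinj) j
    exact hx l l' (fun e => hij (e ▸ rfl)) s ((ha l).trans (hs.trans (ha l').symm))
  obtain ⟨W, π, htW, hW⟩ := exists_perm_local x y hx hy hgood 1 (by rw [h, map_one, _root_.mul_one]) t
  have hg : ∀ z : T ⟶ Over.mk f, graph f z ≫ pullback.fst f T.hom = z.left := fun z => pullback.lift_fst _ _ _
  have hgs : ∀ z : T ⟶ Over.mk f, graph f z ≫ pullback.snd f T.hom = 𝟙 _ := fun z => pullback.lift_snd _ _ _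
  have hfix : ∀ j : Fin m, π (j.natAdd n) = j.natAdd n := fun j => by
    by_contra hne
    refine hx _ _ hne t ?_
    have e : W.ι ≫ graph f (x (π (j.natAdd n))) = W.ι ≫ graph f (x (j.natAdd n)) := pullback.hom_ext
      (by rw [Category.assoc, Category.assoc, hg, hg, ← hW, hxy])
      (by rw [Category.assoc, Category.assoc, hgs, hgs])
    exact congrArg (fun φ => φ ⟨t, htW⟩) e
  have hmap : ∀ j : Fin n, ∃ i : Fin n, π (j.castAdd m) = i.castAdd m := fun j => by
    generalize hb : π (j.castAdd m) = b
    induction b using Fin.addCases with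
    | left i => exact ⟨i, rfl⟩
    | right i =>
      exfalso
      have := π.injective (hb.trans (hfix i).symm)
      have := congrArg Fin.val this
      simp only [Fin.val_castAdd, Fin.val_natAdd] at this
      omega
  choose σ hσ using hmap
  have hσi : Function.Injective σ := fun a b e => Fin.castAdd_injective n m
    (π.injective (by rw [hσ, hσ, e]))
  exact ⟨W, Equiv.ofBijective σ (Finite.injective_iff_bijective.1 hσi), htW, fun j => by
    rw [hW, hσ]; rfl⟩

end

/-- A monomorphism of finite type from an integral scheme is an immersion on a nonempty open. -/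
theorem exists_immersion_of_mono {X P : Scheme.{u}} [IsIntegral X] [IsLocallyNoetherian P] (f : X ⟶ P)
    [LocallyOfFiniteType f] [QuasiCompact f] [Mono f] :
    ∃ U : X.Opens, (U : Set X).Nonempty ∧ IsImmersion (U.ι ≫ f) := by
  haveI : IsIntegral f.image := ProperFin.isIntegral_image f
  haveI : IsLocallyNoetherian f.image := LocallyOfFiniteType.isLocallyNoetherian f.imageι
  haveI : LocallyOfFiniteType f.toImage :=
    haveI : LocallyOfFiniteType (f.toImage ≫ f.imageι) := by rw [f.toImage_imageι]; infer_instance
    locallyOfFiniteType_of_comp f.toImage f.imageι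
  haveI : LocallyOfFinitePresentation f.toImage := LocallyOfFinitePresentation.iff_locallyOfFiniteType.2 inferInstance
  haveI : QuasiCompact f.toImage :=
    haveI : QuasiCompact (f.toImage ≫ f.imageι) := by rw [f.toImage_imageι]; infer_instance
    QuasiCompact.of_comp f.toImage f.imageι
  haveI : Mono f.toImage :=
    haveI : Mono (f.toImage ≫ f.imageι) := by rw [f.toImage_imageι]; infer_instance
    mono_of_mono f.toImage f.imageι
  obtain ⟨J₁, hJ₁, hflat⟩ := Groth.Agent.S4799.result f.toImage (Coh.structureModule _) (FlatStage.isFP_structureModule _)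
  let U : X.Opens := f.toImage ⁻¹ᵁ J₁
  obtain ⟨_, ha, a, rfl⟩ := (f.toImage.denseRange.inter_open_nonempty (J₁ : Set f.image) J₁.2 hJ₁)
  haveI : Flat (U.ι ≫ f.toImage) := (Flat.iff_flat_stalkMap _).2 fun t => by
    rw [Scheme.Hom.stalkMap_comp, CommRingCat.hom_comp]
    exact RingHom.Flat.comp ((FlatStage.isFlatOverAt_structureModule f.toImage _).1 (hflat _ t.2))
      (RingHom.Flat.of_bijective (ConcreteCategory.bijective_of_isIso (U.ι.stalkMap t)))
  haveI : IsOpenImmersion (U.ι ≫ f.toImage) := IsOpenImmersion.of_flat_of_mono _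
  refine ⟨U, ⟨a, ha⟩, ?_⟩
  rw [← f.toImage_imageι, ← Category.assoc]
  infer_instance

end Groth.Agent.JacLib
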