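import Groth.Agent.JacLib.PicZero
import Groth.Agent.InvDescLib.RelPic

/-!
# `Pic⁰` of a family of curves is open and closed in `Pic`
-/

set_option autoImplicit false
set_option backward.isDefEq.respectTransparency false
set_option backward.isDefEq.respectTransparency.types false
set_option linter.style.haveILetI false
set_option maxHeartbeats 1600000

universe u

open CategoryTheory CategoryTheory.Limits AlgebraicGeometry
open Groth.Agent.PicLib Groth.Agent.AbDualLib Groth.Agent.InvDescLib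

noncomputable section

namespace Groth.Agent.JacLib

variable {C S : Scheme.{u}} (f : C ⟶ S) [IsProper f] [Smooth f] [GeometricallyConnected f]
  (hdim : ∀ s : S, topologicalKrullDim ↥(f.fiber s) = 1)
variable {P P₀ : Over S} {φ : ∀ T : Over S, PicF.Cl (PicF.XT f T) → (T ⟶ P)}
  {φ₀ : ∀ T : Over S, PicF.Cl (PicF.XT f T) → (T ⟶ P₀)}
  (hP : AbDual.IsRelPicK Scheme.fppfPrecoverage f P φ)
  (hP₀ : AbDual.IsRelPicZeroK Scheme.fppfPrecoverage f P₀ φ₀)

include hP hP₀ in
/-- Classes of degree zero with the same point of `Pic` have the same point of `Pic⁰`. -/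
theorem phi0_eq {T : Over S} {a b : Pic (PicF.XT f T)} (ha : IsPZc f T a) (hb : IsPZc f T b)
    (e : φ T (toCl a) = φ T (toCl b)) : φ₀ T (toCl a) = φ₀ T (toCl b) := by
  obtain ⟨R, hR, hRe⟩ := hP.locallyInjective T _ _ (isInvertibleCl_toCl a) (isInvertibleCl_toCl b) e
  refine hom_ext_cover hR _ _ fun U u hu => ?_
  rw [← phi_pull f hP₀ _ ha, ← phi_pull f hP₀ _ hb,
    toCl_injective ((toCl_pull _ _).trans ((hRe u hu).trans (toCl_pull _ _).symm))]

variable {d : ↥P.left → ℤ}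
  (hd : ∀ (T : Over S) (L : (PicF.XT f T).Modules), PicF.IsInvertible L →
    ∀ t : T.left, d ((φ T (PicF.cl L)).left t) = PicDegLib.deg (PicF.XTproj f T) L t)

include hdim hd in
theorem isPZc_iff_d {T : Over S} (a : Pic (PicF.XT f T)) :
    IsPZc f T a ↔ ∀ t : T.left, d ((φ T (toCl a)).left t) = 0 := by
  obtain ⟨L, hL, rfl⟩ := exists_cls a
  rw [isPZc_iff f hdim T hL]
  exact forall_congr' fun t => by rw [← hd T L hL t]; rfl

include hdim hP hP₀ hd in
/-- `Pic⁰` is open and closed in `Pic`. -/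
theorem openClosed_of_deg (hlc : IsLocallyConstant d) (j : P₀ ⟶ P)
    (hj : ∀ (T : Over S) (c : PicF.Cl (PicF.XT f T)), AbDual.IsPicZeroCl f T c → φ₀ T c ≫ j = φ T c) :
    IsOpenImmersion j.left ∧ IsClosedImmersion j.left := by
  let V : P.left.Opens := ⟨d ⁻¹' {0}, hlc.isOpen_fiber 0⟩
  haveI : IsClosedImmersion V.ι := .of_isPreimmersion _ (by
    rw [Scheme.Opens.range_ι]; exact hlc.isClosed_fiber 0)
  let Vo : Over S := Over.mk (V.ι ≫ P.hom)
  let i : Vo ⟶ P := Over.homMk V.ι rfl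
  -- the inverse
  obtain ⟨R, hR, hRs⟩ := hP.locallySurjective Vo i
  obtain ⟨ι, W, v, hv, h₁, h₂, h₃⟩ := exists_small_cover hR
  have hex : ∀ x, ∃ a : Pic (PicF.XT f (AbDual.ovr Vo (v x))), φ _ (toCl a) = AbDual.ovrHom Vo (v x) ≫ i := fun x => by
    obtain ⟨c, hc, hφc⟩ := hRs (v x) (hv x)
    obtain ⟨a, rfl⟩ := exists_toCl_eq hc
    exact ⟨a, hφc⟩
  choose a ha using hex
  haveI := fun x => isOpenImmersion_piece (f := f) (T := Vo) v x
  obtain ⟨A, hA⟩ := (isDisjointUnion_pieces (f := f) (T := Vo) v).exists_pic a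
  let U := AbDual.ovr Vo (Sigma.desc v)
  let π : U ⟶ Vo := AbDual.ovrHom Vo (Sigma.desc v)
  have hA' : φ U (toCl A) = π ≫ i := by
    apply Over.OverMorphism.ext
    refine Sigma.hom_ext _ _ fun x => ?_
    have h := phi_natural hP (pieceHom v x) A
    rw [hA x, ha x, ← pieceHom_comp v x, Category.assoc] at h
    exact (congrArg Over.Hom.left h).symm
  have hAz : IsPZc f U A := (isPZc_iff_d f hdim hd A).2 fun t => by
    rw [hA']
    exact (π.left t).2
  haveI : Flat π.left := h₁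
  haveI : LocallyOfFinitePresentation π.left := h₂
  haveI : Surjective π.left := h₃
  have hk : ∀ {Z : Scheme.{u}} (g₁ g₂ : Z ⟶ U.left), g₁ ≫ π.left = g₂ ≫ π.left →
      g₁ ≫ (φ₀ U (toCl A)).left = g₂ ≫ (φ₀ U (toCl A)).left := fun {Z} g₁ g₂ hg => by
    let Q : Over S := Over.mk (g₁ ≫ U.hom)
    let k₁ : Q ⟶ U := Over.homMk g₁ rfl
    let k₂ : Q ⟶ U := Over.homMk g₂ (by
      show g₂ ≫ _ ≫ _ = g₁ ≫ _ ≫ _
      exact ((reassoc_of% hg) Vo.hom).symm)
    have hkk : k₁ ≫ π = k₂ ≫ π := Over.OverMorphism.ext hg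
    have h := phi0_eq f hP hP₀ (isPZc_pull f hdim k₁ hAz) (isPZc_pull f hdim k₂ hAz) (by
      rw [phi_natural hP, phi_natural hP, hA', reassoc_of% hkk])
    rw [phi_pull f hP₀ _ hAz, phi_pull f hP₀ _ hAz] at h
    exact congrArg CommaMorphism.left h
  let k₀ := EffectiveEpi.desc π.left _ hk
  have hk₀ : π.left ≫ k₀ = (φ₀ U (toCl A)).left := EffectiveEpi.fac _ _ _
  let k : Vo ⟶ P₀ := Over.homMk k₀ (by
    rw [← cancel_epi π.left, ← Category.assoc, hk₀]
    exact Over.w (φ₀ U (toCl A)))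
  have hπk : π ≫ k = φ₀ U (toCl A) := Over.OverMorphism.ext hk₀
  have hkj : k ≫ j = i := by
    apply Over.OverMorphism.ext
    rw [← cancel_epi π.left]
    refine congrArg CommaMorphism.left (show π ≫ k ≫ j = π ≫ i from ?_)
    rw [← Category.assoc, hπk, hj U _ hAz, hA']
  -- the factorisation
  obtain ⟨R₀, hR₀, hR₀s⟩ := hP₀.locallySurjective P₀ (𝟙 P₀)
  have hmem : Set.range j.left ⊆ Set.range V.ι := by
    rintro _ ⟨p, rfl⟩
    rw [Scheme.Opens.range_ι]
    obtain ⟨_, u, ⟨hu⟩, q, hq⟩ := hR₀.1 p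
    obtain ⟨c, hc, hφc⟩ := hR₀s _ hu
    obtain ⟨b, rfl⟩ := exists_toCl (show PicF.IsInvertibleCl c from
      let ⟨L, h1, h2, _⟩ := hc; ⟨L, h1, h2⟩)
    have h := (isPZc_iff_d f hdim hd b).1 hc q
    rw [← hj _ _ hc, hφc, Category.comp_id] at h
    show d (j.left p) = 0
    rwa [← hq]
  let l : P₀ ⟶ Vo := Over.homMk (IsOpenImmersion.lift V.ι j.left hmem) (by
    show _ ≫ V.ι ≫ P.hom = _
    rw [IsOpenImmersion.lift_fac_assoc]
    exact Over.w j)
  have hli : l ≫ i = j := Over.OverMorphism.ext (IsOpenImmersion.lift_fac _ _ _)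
  have hkl : k ≫ l = 𝟙 Vo := by
    apply Over.OverMorphism.ext
    rw [← cancel_mono V.ι]
    refine congrArg CommaMorphism.left (show (k ≫ l) ≫ i = 𝟙 Vo ≫ i from ?_)
    rw [Category.assoc, hli, hkj, Category.id_comp]
  have hlk : l ≫ k = 𝟙 P₀ := by
    refine hom_ext_cover hR₀ _ _ fun Z u hu => ?_
    obtain ⟨c, hc, hφc⟩ := hR₀s _ hu
    rw [Category.comp_id] at hφc ⊢
    obtain ⟨b, rfl⟩ := exists_toCl (show PicF.IsInvertibleCl c from
      let ⟨L, h1, h2, _⟩ := hc; ⟨L, h1, h2⟩)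
    let m : AbDual.ovr P₀ u ⟶ Vo := AbDual.ovrHom P₀ u ≫ l
    have hm : m ≫ i = φ _ (toCl b) := by
      rw [← hj _ _ hc, hφc, Category.assoc, hli]
    rw [← Category.assoc]
    show m ≫ k = _
    rw [← hφc]
    -- compare after pulling back along the cover
    let Q : Over S := Over.mk (pullback.fst m.left π.left ≫ (AbDual.ovr P₀ u).hom)
    let q : Q ⟶ AbDual.ovr P₀ u := Over.homMk (pullback.fst m.left π.left) rfl
    let p : Q ⟶ U := Over.homMk (pullback.snd m.left π.left) (by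
      show _ = pullback.fst m.left π.left ≫ _
      rw [← Over.w m, pullback.condition_assoc]
      rfl)
    have hpq : q ≫ m = p ≫ π := Over.OverMorphism.ext pullback.condition
    haveI : Flat q.left := MorphismProperty.pullback_fst _ _ h₁
    haveI : LocallyOfFinitePresentation q.left := MorphismProperty.pullback_fst _ _ h₂
    haveI : Surjective q.left := MorphismProperty.pullback_fst _ _ h₃
    apply Over.OverMorphism.ext
    rw [← cancel_epi q.left]
    refine congrArg CommaMorphism.left (show q ≫ m ≫ k = q ≫ φ₀ _ (toCl b) from ?_)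
    rw [reassoc_of% hpq, hπk, ← phi_pull f hP₀ p hAz, ← phi_pull f hP₀ q hc]
    refine (phi0_eq f hP hP₀ (isPZc_pull f hdim q hc) (isPZc_pull f hdim p hAz) ?_).symm
    rw [phi_natural hP, phi_natural hP, hA', ← hm, reassoc_of% hpq]
  haveI : IsIso l.left := ⟨k.left, congrArg CommaMorphism.left hlk, congrArg CommaMorphism.left hkl⟩
  rw [← hli, Over.comp_left]
  exact ⟨inferInstanceAs (IsOpenImmersion (l.left ≫ V.ι)), inferInstanceAs (IsClosedImmersion (l.left ≫ V.ι))⟩

end Groth.Agent.JacLib
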