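import Groth.Agent.JacLib.Universal
import Groth.Agent.PicRepLib.Curve
import Groth.Agent.S12415

/-!
# The degree zero part of the rigidified Picard scheme of a curve
-/

set_option autoImplicit false
set_option backward.isDefEq.respectTransparency false
set_option backward.isDefEq.respectTransparency.types false
set_option linter.style.haveILetI false
set_option maxHeartbeats 1000000

universe u

open CategoryTheory CategoryTheory.Limits AlgebraicGeometry TopologicalSpace Opposite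
open Groth.Agent.PicLib Groth.Agent.AbDualLib

noncomputable section

namespace Groth.Agent.JacLib

section

variable {C S : Scheme.{u}} (f : C ⟶ S) (σ : S ⟶ C) (hσ : σ ≫ f = 𝟙 S) (Y : Over S)
  (x : Pic (PicF.XT f Y)) (hx : pull (PicF.secT f σ hσ Y) x = 1)
  (huniv : ∀ (T : Over S) (a : Pic (PicF.XT f T)), pull (PicF.secT f σ hσ T) a = 1 →
    ∃! g : T ⟶ Y, pull (PicF.XTmap f g) x = a)

include hx huniv in
/-- A universal rigidified class makes the base represent `Pic`. -/
theorem exists_phi_of_universal :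
    ∃ φ : ∀ T : Over S, PicF.Cl (PicF.XT f T) → (T ⟶ Y),
      AbDual.IsRelPicK Scheme.fppfPrecoverage f Y φ ∧
      ∀ (T : Over S) (a : Pic (PicF.XT f T)), pull (PicF.XTmap f (φ T (toCl a))) x = PicRepLib.rig σ hσ a := by
  classical
  have hrig : ∀ (T : Over S) (a : Pic (PicF.XT f T)),
      ∃! g : T ⟶ Y, pull (PicF.XTmap f g) x = PicRepLib.rig σ hσ a :=
    fun T a => huniv T _ (PicRepLib.rig_rigid a)
  let φ : ∀ T : Over S, PicF.Cl (PicF.XT f T) → (T ⟶ Y) := fun T c =>
    if h : ∃ a, toCl a = c then (hrig T h.choose).exists.choose else (hrig T 1).exists.choose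
  have hφ : ∀ (T : Over S) (a : Pic (PicF.XT f T)),
      pull (PicF.XTmap f (φ T (toCl a))) x = PicRepLib.rig σ hσ a := fun T a => by
    have h : ∃ a', toCl a' = toCl a := ⟨a, rfl⟩
    simp only [φ, dif_pos h]
    rw [(hrig T h.choose).exists.choose_spec, toCl_injective h.choose_spec]
  refine ⟨φ, ⟨fun T T' g c hc => ?_, fun T g => ?_, fun T c c' hc hc' he => ?_⟩, hφ⟩
  · obtain ⟨a, rfl⟩ := exists_toCl (c := c) hc
    refine (hrig T' (pull (PicF.XTmap f g) a)).unique (by rw [← toCl_pull]; exact hφ T' _) ?_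
    rw [← InvDescLib.pull_XTmap_XTmap (φ T (toCl a)) g rfl, hφ T a, PicRepLib.pull_rig]
  · refine ⟨Presieve.singleton (𝟙 T.left), ?_, ?_⟩
    · rw [Scheme.fppfPrecoverage, Scheme.singleton_mem_precoverage_iff]
      exact ⟨fun z => ⟨z, rfl⟩, inferInstance, inferInstance⟩
    rintro U u ⟨⟩
    refine ⟨toCl (pull (PicF.XTmap f (AbDual.ovrHom T (𝟙 T.left) ≫ g)) x),
      InvDescLib.isInvertibleCl_toCl _, ?_⟩
    refine (hrig _ _).unique (hφ _ _) ?_
    rw [PicRepLib.rig_eq_self]
    exact InvDescLib.pull_secT_XTmap (σ := σ) (hσ := hσ) _ x |>.trans (by rw [hx, map_one])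
  · obtain ⟨a, rfl⟩ := exists_toCl (c := c) hc
    obtain ⟨a', rfl⟩ := exists_toCl (c := c') hc'
    obtain ⟨N, hN⟩ := PicRepLib.exists_base_of_rig_eq (σ := σ) (hσ := hσ)
      ((hφ T a).symm.trans ((congrArg (fun q => pull (PicF.XTmap f q) x) he).trans (hφ T a')))
    choose W htW hW using fun t : T.left => PicRepLib.exists_nhd_pull_eq_one N t
    refine ⟨Presieve.ofArrows (fun t : T.left => (W t).toScheme) (fun t => (W t).ι), ?_, ?_⟩
    · rw [Scheme.fppfPrecoverage, Scheme.ofArrows_mem_precoverage_iff]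
      exact ⟨fun t => ⟨t, ⟨t, htW t⟩, rfl⟩, fun t => ⟨inferInstance, inferInstance⟩⟩
    rintro U u ⟨t⟩
    rw [← toCl_pull, ← toCl_pull, hN, map_mul, PicRepLib.pull_base_XTmap,
      show pull (AbDual.ovrHom T (W t).ι).left N = 1 from hW t, map_one, mul_one]

end

variable {k : Type u} [Field k] [IsSepClosed k] (X : Scheme.{u}) [X.Over (Spec (CommRingCat.of k))]
  [IsProper (X ↘ Spec (CommRingCat.of k))] [Smooth (X ↘ Spec (CommRingCat.of k))] [IsIntegral X]
  (hdim : topologicalKrullDim X = 1)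

omit [IsSepClosed k] [IsProper (X ↘ Spec (CommRingCat.of k))] [Smooth (X ↘ Spec (CommRingCat.of k))] [IsIntegral X] in
include hdim in
theorem fiber_dim (s : Spec (CommRingCat.of k)) :
    topologicalKrullDim ↥((X ↘ Spec (CommRingCat.of k)).fiber s) = 1 :=
  (CurveFF.topologicalKrullDim_fiber_eq (X ↘ Spec (CommRingCat.of k)) s).trans hdim

variable (σ : Spec (CommRingCat.of k) ⟶ X) (hσ : σ ≫ (X ↘ Spec (CommRingCat.of k)) = 𝟙 _)

include hdim in
theorem exists_rep_lfp : ∃ Y : Over (Spec (CommRingCat.of k)),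
    Nonempty ((PicRepLib.rigFun (X ↘ Spec (CommRingCat.of k)) σ hσ).RepresentableBy Y) ∧
      LocallyOfFinitePresentation Y.hom := by
  let f := X ↘ Spec (CommRingCat.of k)
  haveI hgc : GeometricallyConnected f := geometricallyConnected_of_sepClosed (k := k) (X := X)
  haveI : GeometricallyIntegral f := geometricallyIntegral_curve f
  haveI : GeometricallyIrreducible f := GeomIrred.geometricallyIrreducible_of_irreducibleSpace f
  haveI : SmoothOfRelativeDimension 1 f := Groth.Agent.S1170.smoothOfRelDim_one f hdim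
  haveI : IsProper (Over.mk f).hom := inferInstanceAs (IsProper f)
  haveI : Flat (Over.mk f).hom := inferInstanceAs (Flat f)
  haveI : GeometricallyIntegral (Over.mk f).hom := inferInstanceAs (GeometricallyIntegral f)
  have hH := fun d => Groth.Agent.S1170.result k X f ⟨inferInstance, inferInstance, inferInstance, hdim⟩ d
  choose H Z hZ using hH
  obtain ⟨Y, hr, hl⟩ := PicRepLib.exists_representableBy (σ := σ) (hσ := hσ)
    (A := fun i : Shrink.{u} (Pic X) => (equivShrink _).symm i) H Z (fiber_dim X hdim)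
    (AbDualLib.univConst (Over.mk f)) (fun d => (hZ d).1) fun T x t => by
      obtain ⟨A, hA⟩ := PicRepLib.exists_twist_good hdim T x t
      exact ⟨equivShrink _ A, by rw [Equiv.symm_apply_apply]; exact hA⟩
  exact ⟨Y, hr, hl fun d => haveI := (hZ d).2.2; inferInstance⟩

/-- A rigidified Jacobian. -/
def IsJac (J : Over (Spec (CommRingCat.of k))) (x : Pic (PicF.XT (X ↘ Spec (CommRingCat.of k)) J)) : Prop :=
  pull (PicF.secT _ σ hσ J) x = 1 ∧ AbDual.IsPicZeroCl (X ↘ Spec (CommRingCat.of k)) J (toCl x) ∧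
    ∀ (T : Over (Spec (CommRingCat.of k))) (a : Pic (PicF.XT (X ↘ Spec (CommRingCat.of k)) T)),
      pull (PicF.secT _ σ hσ T) a = 1 → AbDual.IsPicZeroCl (X ↘ Spec (CommRingCat.of k)) T (toCl a) → ∃! g : T ⟶ J, pull (PicF.XTmap _ g) x = a

include hdim in
/-- The Jacobian of a curve over a separably closed field. -/
theorem exists_isJac : ∃ (J : Over (Spec (CommRingCat.of k)))
    (x : Pic (PicF.XT (X ↘ Spec (CommRingCat.of k)) J)), IsJac X σ hσ J x ∧
      IsProper J.hom ∧ Smooth J.hom ∧ GeometricallyConnected J.hom := by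
  let f := X ↘ Spec (CommRingCat.of k)
  haveI hgc : GeometricallyConnected f := geometricallyConnected_of_sepClosed (k := k) (X := X)
  have hd := fiber_dim (k := k) X hdim
  obtain ⟨Y, ⟨r⟩, hl⟩ := exists_rep_lfp X hdim σ hσ
  haveI := hl
  let u := r.homEquiv (𝟙 Y)
  let x := PicRepLib.toPic u
  have hx : pull (PicF.secT f σ hσ Y) x = 1 := PicRepLib.toPic_rig u
  have huniv : ∀ (T : Over (Spec (CommRingCat.of k))) (a : Pic (PicF.XT f T)),
      pull (PicF.secT f σ hσ T) a = 1 → ∃! g : T ⟶ Y, pull (PicF.XTmap f g) x = a := by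
    intro T a ha
    have key : ∀ g : T ⟶ Y, pull (PicF.XTmap f g) x = a ↔ g = r.homEquiv.symm (PicRepLib.ofPic a ha) := fun g => by
      rw [Equiv.eq_symm_apply, r.homEquiv_eq g, ← PicRepLib.toPic_map]
      exact ⟨fun h => PicRepLib.toPic_injective (h.trans (PicRepLib.toPic_ofPic a ha).symm),
        fun h => by rw [h, PicRepLib.toPic_ofPic]⟩
    exact ⟨_, (key _).2 rfl, fun g hg => (key g).1 hg⟩
  obtain ⟨φ, hφ, hφx⟩ := exists_phi_of_universal f σ hσ Y x hx huniv
  obtain ⟨L, hL, hLx⟩ := exists_cls x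
  haveI : IsProper (PicF.XTproj f Y) := MorphismProperty.pullback_snd _ _ inferInstance
  haveI : Flat (PicF.XTproj f Y) := MorphismProperty.pullback_snd _ _ inferInstance
  haveI : LocallyOfFinitePresentation (PicF.XTproj f Y) := MorphismProperty.pullback_snd _ _ inferInstance
  let D : Y.left.Opens := ⟨PicDegLib.deg (PicF.XTproj f Y) L ⁻¹' {0},
    (PicDegLib.isLocallyConstant_deg (PicF.XTproj f Y) (fun y => ((Groth.Agent.S9777.result f Y.hom
      (PicF.XTproj f Y) (pullback.fst f Y.hom) (IsPullback.of_hasPullback f Y.hom) y).trans (hd _)).le.trans_eq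
        Nat.cast_one.symm) hL).isOpen_fiber 0⟩
  let J := AbDual.ovr Y D.ι
  let j : J ⟶ Y := AbDual.ovrHom Y D.ι
  haveI : Mono j.left := inferInstanceAs (Mono D.ι)
  haveI : Mono j := Over.mono_of_mono_left j
  let x₀ := pull (PicF.XTmap f j) x
  have hx₀ : pull (PicF.secT f σ hσ J) x₀ = 1 := InvDescLib.rigid_XTmap j hx
  have hdeg : ∀ (T : Over (Spec (CommRingCat.of k))) (g : T ⟶ Y),
      IsPZc f T (pull (PicF.XTmap f g) x) ↔ ∀ t, g.left t ∈ D := fun T g => by
    rw [← hLx, pull_cls, isPZc_iff f hd]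
    exact forall_congr' fun t => by rw [PicDegLib.deg_XTmap g hL]; rfl
  have hz : IsPZc f J x₀ := (hdeg J j).2 fun t => t.2
  have huniv₀ : ∀ (T : Over (Spec (CommRingCat.of k))) (a : Pic (PicF.XT f T)),
      pull (PicF.secT f σ hσ T) a = 1 → IsPZc f T a → ∃! g : T ⟶ J, pull (PicF.XTmap f g) x₀ = a := by
    intro T a ha hza
    obtain ⟨g, hg, hg'⟩ := huniv T a ha
    rw [← hg] at hza
    have hr : Set.range g.left ⊆ Set.range D.ι := by
      rw [Scheme.Opens.range_ι]
      rintro _ ⟨t, rfl⟩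
      exact (hdeg T g).1 hza t
    let g₀ : T ⟶ J := Over.homMk (IsOpenImmersion.lift D.ι g.left hr) (by
      show IsOpenImmersion.lift _ _ _ ≫ D.ι ≫ Y.hom = _
      rw [IsOpenImmersion.lift_fac_assoc]
      exact Over.w g)
    have hg₀ : g₀ ≫ j = g := Over.OverMorphism.ext (IsOpenImmersion.lift_fac _ _ _)
    refine ⟨g₀, ?_, fun q hq => (cancel_mono j).1 ?_⟩
    · show pull _ (pull _ x) = a
      rw [InvDescLib.pull_XTmap_XTmap j g₀ hg₀, hg]
    · rw [hg₀]
      refine hg' _ ?_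
      rw [← hq]
      exact (InvDescLib.pull_XTmap_XTmap j q rfl x).symm
  let ξ : PicF.Rig f σ hσ J := ⟨toCl x₀, InvDescLib.rig_mem (σ := σ) (hσ := hσ) hx₀⟩
  obtain ⟨φ₀, hφ₀, hφ₀x⟩ := exists_phi0_of_universal f hd σ hσ J ξ
    ((isPZc_iff_hasFibreDegreeZero f hd J x₀).1 hz) fun T c hc => by
      obtain ⟨b, hbc, hb⟩ := InvDescLib.exists_rig σ hσ c
      rw [← hbc] at hc
      obtain ⟨g, hg, hg'⟩ := huniv₀ T b hb ((isPZc_iff_hasFibreDegreeZero f hd T b).2 hc)
      refine ⟨g, ?_, fun q hq => hg' q (toCl_injective ?_)⟩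
      · show PicF.pullCl _ (toCl x₀) = _
        rw [← toCl_pull, hg, hbc]
      · rw [toCl_pull, hbc]
        exact hq
  have hj : ∀ (T : Over (Spec (CommRingCat.of k))) (c : PicF.Cl (PicF.XT f T)), AbDual.IsPicZeroCl f T c →
      φ₀ T c ≫ j = φ T c := by
    intro T c hc
    obtain ⟨a, rfl⟩ := exists_toCl (c := c) (hc.imp fun L h => ⟨h.1, h.2.1⟩)
    refine (huniv T _ (PicRepLib.rig_rigid a)).unique ?_ (hφx T a)
    rw [← InvDescLib.pull_XTmap_XTmap j (φ₀ T (toCl a)) rfl]
    exact hφ₀x x₀ rfl T a hc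
  obtain ⟨-, -, h1, h2, h3⟩ := Groth.Agent.S12415.result f hd Y φ hφ J φ₀ hφ₀ j hj
  exact ⟨J, x₀, ⟨hx₀, hz, huniv₀⟩, h1, h2, h3⟩

end Groth.Agent.JacLib
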