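import Groth.Agent.JacLib.EllAbel
import Groth.Agent.JacLib.JacScheme
import Mathlib.Algebra.Group.Shrink

/-!
# Degree zero rigidified classes form a group and the Jacobian is a group scheme
-/

set_option autoImplicit false
set_option backward.isDefEq.respectTransparency false
set_option backward.isDefEq.respectTransparency.types false
set_option linter.style.haveILetI false
set_option maxHeartbeats 1000000

universe u

open CategoryTheory CategoryTheory.Limits AlgebraicGeometry Opposite MonObj MonoidalCategory CartesianMonoidalCategory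
open Groth.Agent.PicLib Groth.Agent.AbDualLib

noncomputable section

namespace Groth.Agent.JacLib

attribute [local instance] Curv2.stalkAlgebra
attribute [local instance high] FunFld.Place.algRes

variable {C S : Scheme.{u}} (f : C ⟶ S) [IsProper f] [Smooth f] [GeometricallyConnected f]
  (hdim : ∀ s : S, topologicalKrullDim ↥(f.fiber s) = 1)

include hdim in
/-- On a geometric fibre degree zero means that every divisor of the class has degree zero. -/
theorem exists_point_setup {Ω : Type u} [Field Ω] [IsAlgClosed Ω] (τ : Spec (CommRingCat.of Ω) ⟶ S) :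
    IsPZc f (Over.mk τ) (1 : Pic (PicF.XT f (Over.mk τ))) ∧
      (∀ a b : Pic (PicF.XT f (Over.mk τ)), IsPZc f _ a → IsPZc f _ b → IsPZc f _ (a * b)) ∧
      ∀ a : Pic (PicF.XT f (Over.mk τ)), IsPZc f _ a → IsPZc f _ a⁻¹ := by
  haveI : SmoothOfRelativeDimension 1 f := smoothOfRelativeDimension_one f hdim
  letI : (PicF.XT f (Over.mk τ)).Over (Spec (CommRingCat.of Ω)) := ⟨PicF.XTproj f (Over.mk τ)⟩
  haveI : IsProper (PicF.XT f (Over.mk τ) ↘ Spec (CommRingCat.of Ω)) := isProper_XT f τ
  haveI : Smooth (PicF.XT f (Over.mk τ) ↘ Spec (CommRingCat.of Ω)) := smooth_XT f τ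
  haveI : GeometricallyConnected (PicF.XT f (Over.mk τ) ↘ Spec (CommRingCat.of Ω)) :=
    geometricallyConnected_XT f τ
  have hd := dim_XT f τ hdim
  obtain ⟨hint, hreg, h0⟩ := setup_of_smooth_connected Ω (PicF.XT f (Over.mk τ)) hd
  haveI := hint
  haveI := hreg
  have key : ∀ (a : Pic (PicF.XT f (Over.mk τ))) D, HasDiv Ω hd a D → (IsPZc f _ a ↔ D.deg = 0) := by
    intro a D hD
    obtain ⟨M, hM, rfl⟩ := exists_cls a
    rw [isPZc_iff f hdim _ hM]
    constructor
    · intro h
      rw [← deg_of_hasDiv hd h0 hM hD, ← deg_eq hd.le hM (IsLocalRing.closedPoint Ω)]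
      exact h _
    · intro h t
      rw [← deg_of_hasDiv hd h0 hM hD, ← deg_eq hd.le hM t] at h
      exact h
  refine ⟨(key _ _ (hasDiv_one hd)).2 FF.deg_zero, fun a b ha hb => ?_, fun a ha => ?_⟩
  · obtain ⟨D, hD⟩ := exists_hasDiv hd h0 a
    obtain ⟨E, hE⟩ := exists_hasDiv hd h0 b
    rw [key _ _ (hasDiv_mul hd hD hE), FF.deg_add, (key _ _ hD).1 ha, (key _ _ hE).1 hb, add_zero]
  · obtain ⟨D, hD⟩ := exists_hasDiv hd h0 a
    rw [key _ _ (hasDiv_inv hd h0 hD), ← zero_sub, FF.deg_sub, FF.deg_zero, (key _ _ hD).1 ha, sub_zero]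

include hdim in
theorem isPZc_one (T : Over S) : IsPZc f T 1 :=
  isPZc_of_geometric f hdim fun Ω _ _ τ g => by rw [map_one]; exact (exists_point_setup f hdim τ).1

include hdim in
theorem isPZc_mul {T : Over S} {a b : Pic (PicF.XT f T)} (ha : IsPZc f T a) (hb : IsPZc f T b) :
    IsPZc f T (a * b) :=
  isPZc_of_geometric f hdim fun Ω _ _ τ g => by
    rw [map_mul]
    exact (exists_point_setup f hdim τ).2.1 _ _ (isPZc_pull f hdim g ha) (isPZc_pull f hdim g hb)

include hdim in
theorem isPZc_inv {T : Over S} {a : Pic (PicF.XT f T)} (ha : IsPZc f T a) : IsPZc f T a⁻¹ :=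
  isPZc_of_geometric f hdim fun Ω _ _ τ g => by
    rw [map_inv]
    exact (exists_point_setup f hdim τ).2.2 _ (isPZc_pull f hdim g ha)

variable (σ : S ⟶ C) (hσ : σ ≫ f = 𝟙 S)

/-- Rigidified classes of degree zero. -/
def rigZero (T : Over S) : Subgroup (Pic (PicF.XT f T)) where
  carrier := {a | pull (PicF.secT f σ hσ T) a = 1 ∧ IsPZc f T a}
  mul_mem' {a b} ha hb := ⟨by rw [map_mul, ha.1, hb.1, _root_.mul_one], isPZc_mul f hdim ha.2 hb.2⟩
  one_mem' := ⟨map_one _, isPZc_one f hdim T⟩
  inv_mem' {a} ha := ⟨by rw [map_inv, ha.1, inv_one], isPZc_inv f hdim ha.2⟩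

instance small_rigZero (T : Over S) : Small.{u} (rigZero f hdim σ hσ T) :=
  small_of_injective (f := fun a => (⟨a.1, a.2.1⟩ : PicRepLib.RigPic f σ hσ T))
    fun _ _ h => Subtype.ext (congrArg (fun q => q.1) h)

/-- Inverse image of rigidified classes of degree zero. -/
def pullZero {T T' : Over S} (g : T' ⟶ T) : rigZero f hdim σ hσ T →* rigZero f hdim σ hσ T' :=
  ((pull (PicF.XTmap f g)).comp (rigZero f hdim σ hσ T).subtype).codRestrict _ fun a =>
    ⟨InvDescLib.rigid_XTmap g a.2.1, isPZc_pull f hdim g a.2.2⟩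

/-- The group valued functor of rigidified classes of degree zero. -/
def jacFun : (Over S)ᵒᵖ ⥤ GrpCat.{u} where
  obj T := GrpCat.of (Shrink.{u} (rigZero f hdim σ hσ T.unop))
  map {T T'} g := GrpCat.ofHom <| (Shrink.mulEquiv.symm.toMonoidHom.comp
    (pullZero f hdim σ hσ g.unop)).comp Shrink.mulEquiv.toMonoidHom
  map_id T := GrpCat.hom_ext <| MonoidHom.ext fun x => by
    refine (equivShrink _).symm.injective (Subtype.ext ?_)
    refine (congrArg Subtype.val ((equivShrink _).symm_apply_apply _)).trans ?_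
    show pull (PicF.XTmap f (𝟙 T.unop)) _ = _
    rw [XTmap_id, pull_id]
    rfl
  map_comp {T T' T''} g g' := GrpCat.hom_ext <| MonoidHom.ext fun x => by
    refine (equivShrink _).symm.injective (Subtype.ext ?_)
    refine (congrArg Subtype.val ((equivShrink _).symm_apply_apply _)).trans ?_
    refine Eq.trans ?_ (congrArg Subtype.val ((equivShrink _).symm_apply_apply _)).symm
    refine Eq.trans ?_ (congrArg (pull (PicF.XTmap f g'.unop))
      (congrArg Subtype.val ((equivShrink _).symm_apply_apply _))).symm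
    exact (InvDescLib.pull_XTmap_XTmap g.unop g'.unop rfl _).symm

variable {f hdim σ hσ} {J : Over S} {x : Pic (PicF.XT f J)}
  (hx : pull (PicF.secT f σ hσ J) x = 1) (hxz : IsPZc f J x)
  (huniv : ∀ (T : Over S) (a : Pic (PicF.XT f T)), pull (PicF.secT f σ hσ T) a = 1 → IsPZc f T a →
    ∃! g : T ⟶ J, pull (PicF.XTmap f g) x = a)

variable (hdim) in
/-- A universal class represents the functor. -/
def jacRep : (jacFun f hdim σ hσ ⋙ forget GrpCat).RepresentableBy J where
  homEquiv {T} := (Equiv.ofBijective (fun g : T ⟶ J =>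
      (⟨pull (PicF.XTmap f g) x, InvDescLib.rigid_XTmap g hx, isPZc_pull f hdim g hxz⟩ : rigZero f hdim σ hσ T))
      ⟨fun _ b h => (huniv T _ (InvDescLib.rigid_XTmap b hx) (isPZc_pull f hdim b hxz)).unique
          (congrArg Subtype.val h) rfl,
        fun a => (huniv T a.1 a.2.1 a.2.2).exists.imp fun _ h => Subtype.ext h⟩).trans (equivShrink _)
  homEquiv_comp {T T'} h g := by
    refine (equivShrink _).symm.injective (Subtype.ext ?_)
    refine (congrArg Subtype.val ((equivShrink _).symm_apply_apply _)).trans ?_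
    refine Eq.trans ?_ (congrArg Subtype.val ((equivShrink _).symm_apply_apply _)).symm
    refine Eq.trans ?_ (congrArg (pull (PicF.XTmap f h))
      (congrArg Subtype.val ((equivShrink _).symm_apply_apply _))).symm
    exact (InvDescLib.pull_XTmap_XTmap g h rfl x).symm

variable (hdim) in
include hdim hx hxz huniv in
/-- The group structure of a Jacobian. -/
theorem exists_grpObj : ∃ (_ : GrpObj J) (_ : IsCommMonObj J),
    ∀ (T : Over S) (a b : T ⟶ J), pull (PicF.XTmap f (a * b)) x = pull (PicF.XTmap f a) x * pull (PicF.XTmap f b) x := by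
  let α := jacRep hdim hx hxz huniv
  letI : GrpObj J := GrpObj.ofRepresentableBy J _ α
  have hμ : pull (PicF.XTmap f μ[J]) x = pull (PicF.XTmap f (fst J J)) x * pull (PicF.XTmap f (snd J J)) x := by
    have h : α.homEquiv μ[J] =
        ((α.homEquiv (fst J J) : Shrink.{u} (rigZero f hdim σ hσ (J ⊗ J))) * α.homEquiv (snd J J) :) :=
      Equiv.apply_symm_apply _ _
    have e : ∀ g : J ⊗ J ⟶ J, ((equivShrink (rigZero f hdim σ hσ (J ⊗ J))).symm (α.homEquiv g)).1 =
        pull (PicF.XTmap f g) x := fun g => congrArg Subtype.val ((equivShrink _).symm_apply_apply _)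
    rw [← e μ[J], h, equivShrink_symm_mul, Subgroup.coe_mul, e, e]
  have hmul : ∀ (T : Over S) (a b : T ⟶ J),
      pull (PicF.XTmap f (a * b)) x = pull (PicF.XTmap f a) x * pull (PicF.XTmap f b) x := fun T a b => by
    rw [Hom.mul_def, ← InvDescLib.pull_XTmap_XTmap μ[J] (lift a b) rfl, hμ, map_mul,
      InvDescLib.pull_XTmap_XTmap _ _ (lift_fst a b), InvDescLib.pull_XTmap_XTmap _ _ (lift_snd a b)]
  have hcomm : (fst J J : J ⊗ J ⟶ J) * snd J J = snd J J * fst J J :=
    (huniv (J ⊗ J) _ (InvDescLib.rigid_XTmap (fst J J * snd J J) hx)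
      (isPZc_pull f hdim (fst J J * snd J J) hxz)).unique rfl
      (by rw [hmul (J ⊗ J) (fst J J) (snd J J), hmul (J ⊗ J) (snd J J) (fst J J)]; exact _root_.mul_comm _ _)
  have hc : (β_ J J).hom ≫ μ[J] = μ[J] := by
    rw [MonObj.mul_eq_mul, MonObj.comp_mul, braiding_hom_fst,
      braiding_hom_snd]
    exact hcomm.symm
  exact ⟨inferInstance, ⟨hc⟩, hmul⟩

end Groth.Agent.JacLib
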