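import Groth.Agent.JacLib.Tuples
import Groth.Agent.JacLib.JacGroup
import Groth.Agent.JacLib.Universal

/-!
# The Abel maps of the powers of a curve into a fine moduli scheme of degree zero classes
-/

set_option autoImplicit false
set_option backward.isDefEq.respectTransparency false
set_option backward.isDefEq.respectTransparency.types false
set_option linter.style.haveILetI false
set_option linter.unusedSectionVars false
set_option maxHeartbeats 1000000

universe u

open CategoryTheory CategoryTheory.Limits AlgebraicGeometry TopologicalSpace MonObj MonoidalCategory CartesianMonoidalCategory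
open Groth.Agent.PicLib Groth.Agent.AbDualLib Groth.Agent.PicRepLib

noncomputable section

namespace Groth.Agent.JacLib

attribute [local instance] Curv2.stalkAlgebra
attribute [local instance high] FunFld.Place.algRes

variable {C S : Scheme.{u}} {f : C ⟶ S}

/-- A fine moduli scheme of rigidified classes of degree zero. -/
structure FineJac (σ : S ⟶ C) (hσ : σ ≫ f = 𝟙 S) (J : Over S) (x : Pic (PicF.XT f J)) : Prop where
  rigid : pull (PicF.secT f σ hσ J) x = 1
  pzc : IsPZc f J x
  univ : ∀ (T : Over S) (a : Pic (PicF.XT f T)),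
    pull (PicF.secT f σ hσ T) a = 1 → IsPZc f T a → ∃! g : T ⟶ J, pull (PicF.XTmap f g) x = a

theorem comps_comp {T T' : Over S} (g : T' ⟶ T) : ∀ (n : ℕ) (w : T ⟶ pow f n) (i : Fin n),
    comps f n (g ≫ w) i = g ≫ comps f n w i
  | 0, _, i => i.elim0
  | n + 1, w, i => by
    induction i using Fin.lastCases with
    | last => simp only [comps, Fin.snoc_last, Category.assoc]
    | cast j => simp only [comps, Fin.snoc_castSucc, Category.assoc, comps_comp g n (w ≫ proj f n) j]

theorem comps_tuple {T : Over S} : ∀ (n : ℕ) (x : Fin n → (T ⟶ Over.mk f)), comps f n (tuple f n x) = x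
  | 0, _ => funext fun i => i.elim0
  | n + 1, x => funext fun i => by
    induction i using Fin.lastCases with
    | last => simp only [comps, tuple, Fin.snoc_last, snoc_lastPt]
    | cast j => simp only [comps, tuple, Fin.snoc_castSucc, snoc_proj, comps_tuple n]

theorem comps_eq {T : Over S} {n : ℕ} (w : T ⟶ pow f n) (i : Fin n) :
    comps f n w i = w ≫ comps f n (𝟙 _) i := by rw [← comps_comp, Category.comp_id]

theorem graph_comp {T T' : Over S} (g : T' ⟶ T) (x : T ⟶ Over.mk f) (t : T'.left) :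
    PicF.XTmap f g (graph f (g ≫ x) t) = graph f x (g.left t) := by
  rw [← Scheme.Hom.comp_apply, ← Scheme.Hom.comp_apply]
  refine congrArg (fun m : T'.left ⟶ PicF.XT f T => m t) ?_
  apply pullback.hom_ext
  · simp [graph, PicF.XTmap, pullback.map]
  · simp [graph, PicF.XTmap, pullback.map]
    exact Category.id_comp _

theorem isClosed_graph_eq [IsSeparated f] {T : Over S} (x y : T ⟶ Over.mk f) :
    IsClosed {t : T.left | graph f x t = graph f y t} := by
  haveI : IsClosedImmersion (graph f y) :=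
    isClosedImmersion_of_section (pullback.snd f T.hom) (graph f y) (pullback.lift_snd _ _ _)
  have e : {t : T.left | graph f x t = graph f y t} = graph f x ⁻¹' Set.range (graph f y) := by
    ext t
    refine ⟨fun h => ⟨t, h.symm⟩, fun ⟨s, hs⟩ => ?_⟩
    have hx : graph f x ≫ pullback.snd f T.hom = 𝟙 T.left := pullback.lift_snd _ _ _
    have hy : graph f y ≫ pullback.snd f T.hom = 𝟙 T.left := pullback.lift_snd _ _ _
    have h1 := congrArg (pullback.snd f T.hom) hs
    rw [← Scheme.Hom.comp_apply, ← Scheme.Hom.comp_apply, hx, hy] at h1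
    have h2 : s = t := h1
    subst h2
    exact hs.symm
  rw [e]
  exact (graph f y).isClosedEmbedding.isClosed_range.preimage (graph f x).continuous

/-- The locus of pairwise distinct points. -/
def distinct (f : C ⟶ S) [IsSeparated f] (n : ℕ) : (pow f n).left.Opens :=
  ⟨⋂ (i : Fin n) (j : Fin n) (_ : i ≠ j), {t | graph f (comps f n (𝟙 _) i) t = graph f (comps f n (𝟙 _) j) t}ᶜ,
    isOpen_iInter_of_finite fun i => isOpen_iInter_of_finite fun j => isOpen_iInter_of_finite fun _ =>
      (isClosed_graph_eq _ _).isOpen_compl⟩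

theorem ne_of_mem_distinct [IsSeparated f] {T : Over S} {n : ℕ} (w : T ⟶ pow f n)
    (hw : ∀ t, w.left t ∈ distinct f n) (i j : Fin n) (hij : i ≠ j) (t : T.left) :
    graph f (comps f n w i) t ≠ graph f (comps f n w j) t := by
  intro h
  have h1 := congrArg (PicF.XTmap f w) h
  rw [comps_eq w i, comps_eq w j, graph_comp, graph_comp] at h1
  exact (Set.mem_iInter.1 (Set.mem_iInter.1 (Set.mem_iInter.1 (hw t) i) j) hij) h1

section Fine

variable [IsProper f] [Smooth f] [GeometricallyConnected f]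
  (hdim : ∀ s : S, topologicalKrullDim ↥(f.fiber s) = 1) {σ : S ⟶ C} {hσ : σ ≫ f = 𝟙 S}
  {J : Over S} {x : Pic (PicF.XT f J)} (hF : FineJac σ hσ J x)

include hdim hF in
theorem exists_clf {T : Over S} {a : Pic (PicF.XT f T)} (ha : IsPZc f T a) :
    ∃! g : T ⟶ J, pull (PicF.XTmap f g) x = rig σ hσ a :=
  hF.univ T _ (rig_rigid a) (isPZc_mul_base f hdim ha _)

include hdim hF in
theorem hom_ext_fine {T : Over S} {g g' : T ⟶ J} (h : pull (PicF.XTmap f g) x = pull (PicF.XTmap f g') x) :
    g = g' :=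
  (hF.univ T _ (InvDescLib.rigid_XTmap g' hF.rigid) (isPZc_pull f
    hdim g' hF.pzc)).unique h rfl

/-- The Abel map of the power. -/
def abelN [SmoothOfRelativeDimension 1 f] (n : ℕ) : pow f n ⟶ J :=
  (exists_clf hdim hF (isPZc_fam0 f hdim σ hσ n)).choose

theorem abelN_spec [SmoothOfRelativeDimension 1 f] (n : ℕ) :
    pull (PicF.XTmap f (abelN hdim hF n)) x = rig σ hσ (fam0 f σ hσ n) :=
  (exists_clf hdim hF (isPZc_fam0 f hdim σ hσ n)).choose_spec.1

theorem pull_abelN [SmoothOfRelativeDimension 1 f] {T : Over S} {n : ℕ} (w : T ⟶ pow f n) :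
    pull (PicF.XTmap f (w ≫ abelN hdim hF n)) x =
      rig σ hσ ((∏ i, pt f (comps f n w i)) / pt f (basePt f σ hσ T) ^ n) := by
  rw [← InvDescLib.pull_XTmap_XTmap (abelN hdim hF n) w rfl,
    abelN_spec]
  exact (pull_rig (σ := σ) (hσ := hσ) w _).trans (congrArg _ (pull_fam0 f σ hσ w))

theorem exists_base_of_abelN_eq [SmoothOfRelativeDimension 1 f] {T : Over S} {n : ℕ} {w w' : T ⟶ pow f n}
    (h : w ≫ abelN hdim hF n = w' ≫ abelN hdim hF n) :
    ∃ N : Pic T.left, ∏ i, pt f (comps f n w' i) = (∏ i, pt f (comps f n w i)) * pull (PicF.XTproj f T) N := by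
  have e := (pull_abelN hdim hF w).symm.trans (h ▸ pull_abelN hdim hF w')
  obtain ⟨N, hN⟩ := exists_base_of_rig_eq e
  refine ⟨N, ?_⟩
  rw [div_mul_eq_mul_div] at hN
  exact div_left_injective hN

/-- Two tuples of distinct points in the good locus with the same image differ locally by a permutation. -/
theorem exists_perm_of_abelN_eq [SmoothOfRelativeDimension 1 f] {T : Over S} {n : ℕ} {w w' : T ⟶ pow f n}
    (hw : ∀ t, w.left t ∈ distinct f n ∧ w.left t ∈ Good (fam f n))
    (hw' : ∀ t, w'.left t ∈ distinct f n) (h : w ≫ abelN hdim hF n = w' ≫ abelN hdim hF n) (t : T.left) :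
    ∃ (W : T.left.Opens) (π : Equiv.Perm (Fin n)), t ∈ W ∧
      ∀ j, W.ι ≫ (comps f n w' j).left = W.ι ≫ (comps f n w (π j)).left := by
  obtain ⟨N, hN⟩ := exists_base_of_abelN_eq hdim hF h
  refine exists_perm_local (comps f n w) (comps f n w') (ne_of_mem_distinct w fun t => (hw t).1)
    (ne_of_mem_distinct w' hw') ?_ N hN t
  rw [← pull_tuple_fam, tuple_comps]
  exact good_pull_univ w (by rintro _ ⟨s, rfl⟩; exact (hw s).2)

theorem exists_lift_abelN [SmoothOfRelativeDimension 1 f] {Ω : Type u} [Field Ω] [IsAlgClosed Ω]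
    (τ : Spec (CommRingCat.of Ω) ⟶ S) {n : ℕ}
    (hn : CohIII.fiberRank f (Coh.structureModule C) 1 (τ (IsLocalRing.closedPoint Ω)) ≤ n) (g : Over.mk τ ⟶ J) :
    ∃ w : Over.mk τ ⟶ pow f n, w ≫ abelN hdim hF n = g := by
  classical
  letI : (PicF.XT f (Over.mk τ)).Over (Spec (CommRingCat.of Ω)) := ⟨PicF.XTproj f (Over.mk τ)⟩
  haveI : IsProper (PicF.XT f (Over.mk τ) ↘ Spec (CommRingCat.of Ω)) := isProper_XT f τ
  haveI : Smooth (PicF.XT f (Over.mk τ) ↘ Spec (CommRingCat.of Ω)) := smooth_XT f τ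
  haveI : GeometricallyConnected (PicF.XT f (Over.mk τ) ↘ Spec (CommRingCat.of Ω)) := geometricallyConnected_XT f τ
  have hd := dim_XT f τ hdim
  obtain ⟨hint, hreg, h0⟩ := setup_of_smooth_connected Ω (PicF.XT f (Over.mk τ)) hd
  haveI := hint; haveI := hreg
  obtain ⟨L, hL, hLc⟩ := exists_cls (pull (PicF.XTmap f g) x)
  have hz : IsPZc f (Over.mk τ) (cls hL) := hLc ▸ isPZc_pull f hdim g hF.pzc
  have hdegL : Curv2.deg Ω (PicF.XT f (Over.mk τ)) L 1 = 0 :=
    (deg_eq hd.le hL (IsLocalRing.closedPoint Ω)).symm.trans ((isPZc_iff f hdim _ hL).1 hz _)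
  let b := basePt f σ hσ (Over.mk τ)
  obtain ⟨D, hD⟩ := exists_hasDiv hd h0 (cls hL)
  have hDd : D.deg = 0 := (deg_of_hasDiv hd h0 hL hD).symm.trans hdegL
  have hb := hasDiv_prod hd (Finset.univ : Finset (Fin n)) _ _ fun _ =>
    hasDiv_ptc hd h0 (pointClosed f τ b).1 (pointClosed f τ b).2
  simp only [← pt_eq_ptc, Finset.prod_const, Finset.card_univ, Fintype.card_fin] at hb
  obtain ⟨N, hN, hNc⟩ := exists_cls (cls hL * pt f b ^ n)
  have hNd : Curv2.deg Ω (PicF.XT f (Over.mk τ)) N 1 = n := by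
    rw [deg_of_hasDiv hd h0 hN (hNc ▸ hasDiv_mul hd hD hb), FF.deg_add, hDd, deg_eq_card hd h0, zero_add]
  obtain ⟨y, hy⟩ := exists_eq_prod_pt f τ hd h0 hN n hNd ((genus_XT f τ).le.trans hn)
  refine ⟨tuple f n y, hom_ext_fine hdim hF ?_⟩
  rw [pull_abelN, comps_tuple, ← hy, hNc, mul_div_cancel_right, hLc]
  exact rig_eq_self (InvDescLib.rigid_XTmap g hF.rigid)

theorem surjective_abelN [SmoothOfRelativeDimension 1 f] {n : ℕ}
    (hn : ∀ s, CohIII.fiberRank f (Coh.structureModule C) 1 s ≤ n) : Surjective (abelN hdim hF n).left := by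
  refine ⟨fun p => ?_⟩
  let Ω := AlgebraicClosure (J.left.residueField p)
  let q : Spec (CommRingCat.of Ω) ⟶ J.left :=
    Spec.map (CommRingCat.ofHom (algebraMap (J.left.residueField p) Ω)) ≫ J.left.fromSpecResidueField p
  let g : Over.mk (q ≫ J.hom) ⟶ J := Over.homMk q rfl
  obtain ⟨w, hw⟩ := exists_lift_abelN hdim hF (q ≫ J.hom) (hn _) g
  refine ⟨w.left (IsLocalRing.closedPoint Ω), ?_⟩
  have h := congrArg (fun m : _ ⟶ J => m.left (IsLocalRing.closedPoint Ω)) hw
  simp only [Over.comp_left, Scheme.Hom.comp_apply] at h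
  rw [h]
  show (Spec.map _ ≫ J.left.fromSpecResidueField p) _ = p
  rw [Scheme.Hom.comp_apply]
  exact Scheme.fromSpecResidueField_apply p _

theorem exists_good_point [SmoothOfRelativeDimension 1 f] {Ω : Type u} [Field Ω] [IsAlgClosed Ω]
    (τ : Spec (CommRingCat.of Ω) ⟶ S) {n : ℕ}
    (hn : CohIII.fiberRank f (Coh.structureModule C) 1 (τ (IsLocalRing.closedPoint Ω)) = n)
    (hdim : ∀ s : S, topologicalKrullDim ↥(f.fiber s) = 1) :
    ((Good (fam f n) : Set (pow f n).left)).Nonempty := by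
  classical
  letI : (PicF.XT f (Over.mk τ)).Over (Spec (CommRingCat.of Ω)) := ⟨PicF.XTproj f (Over.mk τ)⟩
  haveI : IsProper (PicF.XT f (Over.mk τ) ↘ Spec (CommRingCat.of Ω)) := isProper_XT f τ
  haveI : Smooth (PicF.XT f (Over.mk τ) ↘ Spec (CommRingCat.of Ω)) := smooth_XT f τ
  haveI : GeometricallyConnected (PicF.XT f (Over.mk τ) ↘ Spec (CommRingCat.of Ω)) := geometricallyConnected_XT f τ
  have hd := dim_XT f τ hdim
  obtain ⟨hint, hreg, h0⟩ := setup_of_smooth_connected Ω (PicF.XT f (Over.mk τ)) hd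
  haveI := hint; haveI := hreg
  have hgen : Curv2.genus Ω (PicF.XT f (Over.mk τ)) = n := (genus_XT f τ).trans hn
  obtain ⟨z, hz⟩ := exists_ell_one (k := Ω) hd h0 n hgen.ge
  let y : Fin n → (Over.mk τ ⟶ Over.mk f) := fun i => pointHom f τ (z i).1 (z i).2
  let w := tuple f n y
  let t : (Over.mk τ).left := IsLocalRing.closedPoint Ω
  refine ⟨w.left t, ?_⟩
  have h1 : t ∈ Good (pull (PicF.XTmap f w) (fam f n)) := by
    rw [pull_tuple_fam]
    have hdiv : HasDiv Ω hd (∏ i, pt f (y i))
        (∑ i, Finsupp.single (CurveFF.placeOf Ω hd (z i).1 (z i).2) (1 : ℤ)) := by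
      have := hasDiv_prod hd Finset.univ _ _ fun i => hasDiv_ptc (k := Ω) hd h0 (z i).1 (z i).2
      simp only [ptc_eq_pt f τ hd] at this
      exact this
    obtain ⟨L, hL, e, hLc, he, hD⟩ := id hdiv
    haveI := PicDegLib.isQCoh_invertible hL
    have hr : ∀ p, rk (f := f) (T := Over.mk τ) (cls hL) p t = Module.finrank Ω (Coh.HH (PicF.XT f (Over.mk τ)) L p) :=
      fun p => (rk_cls hL p t).trans (fiberRank_eq_finrank (X := PicF.XT f (Over.mk τ)) L p t)
    rw [← hLc]
    have hK := CurveFF.isFunctionField Ω hd h0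
    obtain ⟨K, hC⟩ := FF.exists_canonical hK
    have hrr := FF.riemann_roch hK hC (∑ i, Finsupp.single (CurveFF.placeOf Ω hd (z i).1 (z i).2) (1 : ℤ))
    rw [deg_eq_card hd h0, hz] at hrr
    have hg := (CurveFF.genus_and_deg hd h0 hL he hD).1
    refine ⟨?_, ?_⟩
    · rw [hr, CurveFF.finrank_H1_eq hd h0 hL he hD hC]
      omega
    · rw [hr, CurveFF.finrank_H0_eq_ell hd hL he hD, hz]
  rwa [good_pull] at h1

end Fine

end Groth.Agent.JacLib
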