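import Groth.Agent.JacLib.AbelMap
import Groth.Agent.AVExtLib.Extend
import Groth.Agent.SmoothWeil.Dom
import Groth.Agent.FlatStage.Smooth
import Groth.Agent.RigidLib.Group
import Groth.Agent.S4799

/-!
# The Albanese property of a fine Jacobian over a field
-/

set_option autoImplicit false
set_option backward.isDefEq.respectTransparency false
set_option backward.isDefEq.respectTransparency.types false
set_option linter.style.haveILetI false
set_option linter.unusedSectionVars false
set_option maxHeartbeats 1000000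

universe u

open CategoryTheory CategoryTheory.Limits AlgebraicGeometry TopologicalSpace MonObj MonoidalCategory CartesianMonoidalCategory
open Groth.Agent.PicLib Groth.Agent.AbDualLib Groth.Agent.PicRepLib

noncomputable section

namespace Groth.Agent.JacLib

section Sum

variable {C S : Scheme.{u}} {f : C ⟶ S} {A : Over S} [GrpObj A] [IsCommMonObj A]

theorem comp_prod {T T' : Over S} (g : T' ⟶ T) {n : ℕ} (a : Fin n → (T ⟶ A)) : g ≫ ∏ i, a i = ∏ i, g ≫ a i :=
  map_prod (MonoidHom.mk' (fun b : T ⟶ A => g ≫ b) fun b c => MonObj.comp_mul g b c) a Finset.univ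

/-- The sum of a map over a tuple. -/
def sumMap (φ : Over.mk f ⟶ A) (n : ℕ) : pow f n ⟶ A := ∏ i, comps f n (𝟙 _) i ≫ φ

theorem comp_sumMap (φ : Over.mk f ⟶ A) {T : Over S} {n : ℕ} (w : T ⟶ pow f n) :
    w ≫ sumMap φ n = ∏ i, comps f n w i ≫ φ := by
  rw [sumMap, comp_prod]
  exact Finset.prod_congr rfl fun i _ => by rw [← Category.assoc, ← comps_eq]

theorem sum_eq_of_perm (φ : Over.mk f ⟶ A) {T : Over S} {n : ℕ} (w w' : T ⟶ pow f n) (W : T.left.Opens)
    (π : Equiv.Perm (Fin n)) (h : ∀ j, W.ι ≫ (comps f n w' j).left = W.ι ≫ (comps f n w (π j)).left) :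
    W.ι ≫ (w ≫ sumMap φ n).left = W.ι ≫ (w' ≫ sumMap φ n).left := by
  suffices e : AVExtLib.opnι W ≫ (w ≫ sumMap φ n) = AVExtLib.opnι W ≫ (w' ≫ sumMap φ n) from
    congrArg CommaMorphism.left e
  rw [comp_sumMap, comp_sumMap, comp_prod, comp_prod, ← Equiv.prod_comp π]
  refine Finset.prod_congr rfl fun j _ => ?_
  have e : AVExtLib.opnι W ≫ comps f n w' j = AVExtLib.opnι W ≫ comps f n w (π j) :=
    Over.OverMorphism.ext (h j)
  rw [← Category.assoc, ← Category.assoc, e]

end Sum

variable {k : Type u} [Field k] {C : Scheme.{u}} {f : C ⟶ Spec (CommRingCat.of k)}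

section Fine

variable [IsProper f] [Smooth f] [GeometricallyConnected f] [SmoothOfRelativeDimension 1 f]
  (hdim : ∀ s, topologicalKrullDim ↥(f.fiber s) = 1) {σ : Spec (CommRingCat.of k) ⟶ C} {hσ : σ ≫ f = 𝟙 _}
  {J : Over (Spec (CommRingCat.of k))} {x : Pic (PicF.XT f J)} (hF : FineJac σ hσ J x)

omit [SmoothOfRelativeDimension 1 f] in
theorem connectedSpace_pow (n : ℕ) : ConnectedSpace ↥(pow f n).left := by
  haveI := geometricallyConnected_pow f n
  exact GeometricallyConnected.connectedSpace_of_subsingleton (pow f n).hom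

theorem isIntegral_pow (n : ℕ) : IsIntegral (pow f n).left := by
  haveI := connectedSpace_pow (f := f) n
  exact SmoothWeil.isIntegral_of_smooth_connected (pow f n).hom

include hdim in
theorem nonempty_distinct_good (σ : Spec (CommRingCat.of k) ⟶ C) (hσ : σ ≫ f = 𝟙 _) {n : ℕ}
    (hn : CohIII.fiberRank f (Coh.structureModule C) 1 (IsLocalRing.closedPoint k) = n) :
    (((distinct f n) ⊓ ⟨Good (fam f n), isOpen_good hdim _⟩ : (pow f n).left.Opens) : Set (pow f n).left).Nonempty := by
  haveI := isIntegral_pow (f := f) n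
  haveI : Subsingleton ↥(Spec (CommRingCat.of k)) := inferInstanceAs (Subsingleton (PrimeSpectrum k))
  have hgood : (Good (fam f n) : Set (pow f n).left).Nonempty :=
    exists_good_point (Spec.map (CommRingCat.ofHom (algebraMap k (AlgebraicClosure k))))
      (by rw [← hn]; exact congrArg _ (Subsingleton.elim _ _)) hdim
  have hij : ∀ i j : Fin n, i ≠ j →
      ({t | graph f (comps f n (𝟙 _) i) t = graph f (comps f n (𝟙 _) j) t}ᶜ : Set (pow f n).left).Nonempty := by
    intro i j hij
    classical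
    let y : Fin n → (Over.mk f ⟶ Over.mk f) := fun l => if l = i then 𝟙 _ else basePt f σ hσ _
    let w := tuple f n y
    obtain ⟨c, hc⟩ : ∃ c : C, c ≠ σ (IsLocalRing.closedPoint k) := by
      by_contra! hcon
      haveI : Subsingleton C := ⟨fun a b => (hcon a).trans (hcon b).symm⟩
      have h0 : topologicalKrullDim ↥(f.fiber (IsLocalRing.closedPoint k)) ≤ 0 := by
        haveI : Subsingleton ↥(f.fiber (IsLocalRing.closedPoint k)) :=
          (f.fiberι _).isEmbedding.injective.subsingleton
        exact topologicalKrullDim_zero_of_discreteTopology _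
      rw [hdim] at h0
      exact not_lt_of_ge h0 (by decide)
    refine ⟨w.left c, fun h => hc ?_⟩
    have hg : ∀ (z : pow f n ⟶ Over.mk f) (t : (pow f n).left),
        pullback.fst f (pow f n).hom (graph f z t) = z.left t := fun z t => by
      rw [← Scheme.Hom.comp_apply, show graph f z ≫ pullback.fst f (pow f n).hom = z.left from
        pullback.lift_fst _ _ _]
      rfl
    have h2 := congrArg (pullback.fst f (pow f n).hom) h
    rw [hg, hg, ← Scheme.Hom.comp_apply, ← Scheme.Hom.comp_apply, ← Over.comp_left, ← Over.comp_left, ← comps_eq,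
      ← comps_eq, comps_tuple] at h2
    simp only [y, if_pos rfl, if_neg (Ne.symm hij), Over.id_left] at h2
    refine (show c = (f ≫ σ) c from h2).trans ?_
    rw [Scheme.Hom.comp_apply]
    exact congrArg σ (Subsingleton.elim _ _)
  have key : ∀ O : (pow f n).left.Opens, (O : Set (pow f n).left).Nonempty → genericPoint (pow f n).left ∈ O :=
    fun O ⟨t, ht⟩ => (genericPoint_specializes t).mem_open O.2 ht
  refine ⟨genericPoint _, ?_, key ⟨_, isOpen_good hdim _⟩ hgood⟩
  refine Set.mem_iInter.2 fun i => Set.mem_iInter.2 fun j => Set.mem_iInter.2 fun h => ?_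
  exact key ⟨_, (isClosed_graph_eq _ _).isOpen_compl⟩ (hij i j h)

variable {A : Over (Spec (CommRingCat.of k))} [GrpObj A] [IsCommMonObj A] [IsProper A.hom]

/-- The sum of a map over a tuple factors through the Abel map of the genus. -/
theorem exists_sum_descent [IsProper J.hom] [Smooth J.hom] [GeometricallyConnected J.hom] [IsIntegral (J ⊗ J).left]
    {n : ℕ} (hn : CohIII.fiberRank f (Coh.structureModule C) 1 (IsLocalRing.closedPoint k) = n)
    (φ : Over.mk f ⟶ A) : ∃ χ : J ⟶ A, abelN hdim hF n ≫ χ = sumMap φ n := by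
  haveI : Subsingleton ↥(Spec (CommRingCat.of k)) := inferInstanceAs (Subsingleton (PrimeSpectrum k))
  haveI := isIntegral_pow (f := f) n
  haveI : ConnectedSpace J.left := GeometricallyConnected.connectedSpace_of_subsingleton J.hom
  haveI : IsIntegral J.left := SmoothWeil.isIntegral_of_smooth_connected J.hom
  haveI : IsLocallyNoetherian J.left := LocallyOfFiniteType.isLocallyNoetherian J.hom
  let π := (abelN hdim hF n).left
  have hπ : π ≫ J.hom = (pow f n).hom := Over.w _
  haveI : IsProper (π ≫ J.hom) := hπ ▸ inferInstance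
  haveI : IsProper π := IsProper.of_comp π J.hom
  haveI : LocallyOfFinitePresentation π := LocallyOfFinitePresentation.iff_locallyOfFiniteType.2 inferInstance
  haveI hsurj : Surjective π := surjective_abelN hdim hF fun s => by
    rw [Subsingleton.elim s (IsLocalRing.closedPoint k), hn]
  obtain ⟨J₁, hJ₁, hflat⟩ := Groth.Agent.S4799.result π (Coh.structureModule _) (FlatStage.isFP_structureModule _)
  let U₀ : (pow f n).left.Opens := distinct f n ⊓ ⟨Good (fam f n), isOpen_good hdim _⟩
  let U : (pow f n).left.Opens := U₀ ⊓ π ⁻¹ᵁ J₁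
  have hU : (U : Set (pow f n).left).Nonempty := by
    obtain ⟨a, ha⟩ : (U₀ : Set (pow f n).left).Nonempty := nonempty_distinct_good hdim σ hσ hn
    obtain ⟨b, hb⟩ := hJ₁
    obtain ⟨b', rfl⟩ := hsurj.surj b
    exact ⟨genericPoint _, (genericPoint_specializes a).mem_open U₀.2 ha,
      (genericPoint_specializes b').mem_open (π ⁻¹ᵁ J₁).2 hb⟩
  let m := U.ι ≫ π
  haveI : Flat m := (Flat.iff_flat_stalkMap _).2 fun t => by
    rw [Scheme.Hom.stalkMap_comp, CommRingCat.hom_comp]
    exact RingHom.Flat.comp ((FlatStage.isFlatOverAt_structureModule π _).1 (hflat _ t.2.2))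
      (RingHom.Flat.of_bijective (ConcreteCategory.bijective_of_isIso (U.ι.stalkMap t)))
  haveI : UniversallyOpen m := UniversallyOpen.of_flat m
  let W : J.left.Opens := ⟨Set.range m, m.isOpenMap.isOpen_range⟩
  let q : U.toScheme ⟶ W.toScheme := IsOpenImmersion.lift W.ι m (by rw [Scheme.Opens.range_ι]; rfl)
  have hq : q ≫ W.ι = m := IsOpenImmersion.lift_fac _ _ _
  haveI : Flat (q ≫ W.ι) := hq ▸ inferInstance
  haveI : Flat q := MorphismProperty.of_postcomp (W := @Flat) (W' := @IsOpenImmersion) q W.ι inferInstance inferInstance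
  haveI : LocallyOfFinitePresentation (q ≫ W.ι) := hq ▸ inferInstance
  haveI : LocallyOfFinitePresentation q := MorphismProperty.of_postcomp (W := @LocallyOfFinitePresentation)
    (W' := @IsOpenImmersion) q W.ι inferInstance inferInstance
  haveI : Surjective q := ⟨fun z => by
    obtain ⟨t, ht⟩ := z.2
    refine ⟨t, W.ι.isOpenEmbedding.injective ?_⟩
    rw [← Scheme.Hom.comp_apply, hq]
    exact ht⟩
  let h : U.toScheme ⟶ A.left := U.ι ≫ (sumMap φ n).left
  have hcond : ∀ {Z : Scheme.{u}} (g₁ g₂ : Z ⟶ U.toScheme), g₁ ≫ q = g₂ ≫ q → g₁ ≫ h = g₂ ≫ h := by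
    intro Z g₁ g₂ e
    have em : g₁ ≫ U.ι ≫ π = g₂ ≫ U.ι ≫ π := by
      show g₁ ≫ m = g₂ ≫ m
      rw [← hq, reassoc_of% e]
    have eb : (g₂ ≫ U.ι) ≫ (pow f n).hom = g₁ ≫ U.ι ≫ (pow f n).hom := by
      rw [← hπ, Category.assoc, reassoc_of% em]
    let T : Over (Spec (CommRingCat.of k)) := Over.mk (g₁ ≫ U.ι ≫ (pow f n).hom)
    let w : T ⟶ pow f n := Over.homMk (g₁ ≫ U.ι) (Category.assoc _ _ _)
    let w' : T ⟶ pow f n := Over.homMk (g₂ ≫ U.ι) eb
    have hww : w ≫ abelN hdim hF n = w' ≫ abelN hdim hF n := Over.OverMorphism.ext (by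
      show (g₁ ≫ U.ι) ≫ π = (g₂ ≫ U.ι) ≫ π
      rw [Category.assoc, em, Category.assoc])
    have hw : ∀ t, w.left t ∈ U₀ := fun t => (g₁ t).2.1
    have hw' : ∀ t, w'.left t ∈ U₀ := fun t => (g₂ t).2.1
    refine Scheme.hom_ext_of_forall _ _ fun t => ?_
    obtain ⟨V, p, htV, hp⟩ := exists_perm_of_abelN_eq hdim hF hw (fun t => (hw' t).1) hww t
    refine ⟨V, htV, ?_⟩
    exact (congrArg (V.ι ≫ ·) (Category.assoc g₁ U.ι _)).symm.trans ((sum_eq_of_perm φ w w' V p hp).trans
      (congrArg (V.ι ≫ ·) (Category.assoc g₂ U.ι _)))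
  let d : W.toScheme ⟶ A.left := EffectiveEpi.desc q h hcond
  have hd : q ≫ d = h := EffectiveEpi.fac q h hcond
  let χW : AVExtLib.opn J W ⟶ A := Over.homMk d (by
    show d ≫ A.hom = W.ι ≫ J.hom
    rw [← cancel_epi q, reassoc_of% hd, reassoc_of% hq, Category.assoc]
    exact (congrArg (U.ι ≫ ·) (Over.w (sumMap φ n))).trans (congrArg (U.ι ≫ ·) hπ.symm))
  obtain ⟨χ, hχ⟩ := AVExtLib.exists_extension (U := W)
    (let ⟨a, ha⟩ := hU; ⟨m ⟨a, ha⟩, ⟨⟨a, ha⟩, rfl⟩⟩) χW
  refine ⟨χ, Over.OverMorphism.ext ?_⟩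
  haveI : IsDominant U.ι := ⟨by rw [DenseRange, Scheme.Opens.range_ι]; exact U.2.dense hU⟩
  refine ext_of_isDominant_of_isSeparated A.hom ((Over.w _).trans (Over.w _).symm) U.ι ?_
  have e := congrArg CommaMorphism.left hχ
  change U.ι ≫ π ≫ χ.left = h
  rw [← Category.assoc, show U.ι ≫ π = q ≫ W.ι from hq.symm, Category.assoc, show W.ι ≫ χ.left = d from e, hd]

theorem rig_mul' {T : Over (Spec (CommRingCat.of k))} (a b : Pic (PicF.XT f T)) :
    rig σ hσ (a * b) = rig σ hσ a * rig σ hσ b := by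
  rw [rig, rig, rig, map_mul, mul_inv, map_mul]
  ac_rfl

/-- The rigidifications of a class as a homomorphism. -/
def rigHom (T : Over (Spec (CommRingCat.of k))) : Pic (PicF.XT f T) →* Pic (PicF.XT f T) :=
  MonoidHom.mk' (rig σ hσ) rig_mul'

/-- The Abel map of the curve. -/
def abel1 : Over.mk f ⟶ J := tuple f 1 (fun _ => 𝟙 _) ≫ abelN hdim hF 1

theorem pull_comp_abel1 {T : Over (Spec (CommRingCat.of k))} (y : T ⟶ Over.mk f) :
    pull (PicF.XTmap f (y ≫ abel1 hdim hF)) x = rig σ hσ (pt f y / pt f (basePt f σ hσ T)) := by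
  rw [abel1, ← Category.assoc, pull_abelN]
  simp only [comps_comp, comps_tuple, Fin.prod_univ_one, Category.comp_id, pow_one]

variable [GrpObj J] [IsCommMonObj J]
  (hmul : ∀ (T : Over (Spec (CommRingCat.of k))) (a b : T ⟶ J),
    pull (PicF.XTmap f (a * b)) x = pull (PicF.XTmap f a) x * pull (PicF.XTmap f b) x)

/-- The class of a point of the Jacobian as a homomorphism. -/
def clsHom (T : Over (Spec (CommRingCat.of k))) : (T ⟶ J) →* Pic (PicF.XT f T) :=
  MonoidHom.mk' (fun a => pull (PicF.XTmap f a) x) (hmul T)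

include hmul in
theorem comp_abelN {T : Over (Spec (CommRingCat.of k))} {n : ℕ} (w : T ⟶ pow f n) :
    w ≫ abelN hdim hF n = ∏ i, comps f n w i ≫ abel1 hdim hF := by
  refine hom_ext_fine hdim hF ?_
  rw [pull_abelN]
  refine Eq.trans ?_ (map_prod (clsHom hmul T) _ _).symm
  show rigHom (σ := σ) (hσ := hσ) T _ = ∏ i, pull (PicF.XTmap f (comps f n w i ≫ abel1 hdim hF)) x
  rw [map_div, map_prod, map_pow]
  simp only [pull_comp_abel1]
  show _ = ∏ i, rigHom (σ := σ) (hσ := hσ) T (_ / _)
  simp only [map_div]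
  rw [Finset.prod_div_distrib, Finset.prod_const, Finset.card_univ, Fintype.card_fin]

include hmul in
theorem basePt_abel1 (T : Over (Spec (CommRingCat.of k))) : basePt f σ hσ T ≫ abel1 hdim hF = 1 := by
  refine hom_ext_fine hdim hF ?_
  rw [pull_comp_abel1, div_self', show pull (PicF.XTmap f (1 : T ⟶ J)) x = 1 from map_one (clsHom hmul T)]
  exact rig_eq_self (map_one _)

theorem basePt_comp {φ : Over.mk f ⟶ A} (hφ : σ ≫ φ.left = η[A].left) (T : Over (Spec (CommRingCat.of k))) :
    basePt f σ hσ T ≫ φ = 1 := Over.OverMorphism.ext (by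
  rw [Hom.one_def]
  show (T.hom ≫ σ) ≫ φ.left = T.hom ≫ η[A].left
  rw [Category.assoc, hφ])

variable [IsProper J.hom] [Smooth J.hom] [GeometricallyConnected J.hom]

theorem isIntegral_sq : IsIntegral (J ⊗ J).left := by
  haveI : Smooth (pullback.fst J.hom J.hom) := MorphismProperty.pullback_fst _ _ inferInstance
  haveI : GeometricallyConnected (pullback.fst J.hom J.hom) := inferInstance
  haveI : Smooth (J ⊗ J).hom := inferInstanceAs (Smooth (pullback.fst J.hom J.hom ≫ J.hom))
  haveI : GeometricallyConnected (J ⊗ J).hom :=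
    GeometricallyConnected.comp (pullback.fst J.hom J.hom) J.hom
  haveI : ConnectedSpace ↥(J ⊗ J).left := GeometricallyConnected.connectedSpace_of_subsingleton (J ⊗ J).hom
  exact SmoothWeil.isIntegral_of_smooth_connected (J ⊗ J).hom

include hmul in
/-- The Albanese property of a fine Jacobian. -/
theorem albanese {n : ℕ} (hn : CohIII.fiberRank f (Coh.structureModule C) 1 (IsLocalRing.closedPoint k) = n)
    (hpos : 0 < n) (φ : Over.mk f ⟶ A) (hφ : σ ≫ φ.left = η[A].left) :
    ∃! χ : J ⟶ A, IsMonHom χ ∧ abel1 hdim hF ≫ χ = φ := by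
  haveI := isIntegral_sq (J := J)
  obtain ⟨χ, hχ⟩ := exists_sum_descent hdim hF hn φ
  have key : ∀ (T : Over (Spec (CommRingCat.of k))) (y : Fin n → (T ⟶ Over.mk f)),
      (∏ i, y i ≫ abel1 hdim hF) ≫ χ = ∏ i, y i ≫ φ := fun T y => by
    have h := comp_abelN hdim hF hmul (tuple f n y)
    rw [comps_tuple] at h
    rw [← h, Category.assoc, hχ, comp_sumMap, comps_tuple]
  have h1 : η[J] ≫ χ = η[A] := by
    have h := key (𝟙_ _) fun _ => basePt f σ hσ _
    simp only [basePt_abel1 hdim hF hmul, basePt_comp hφ, Finset.prod_const_one] at h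
    rw [Hom.one_def, Hom.one_def, show toUnit (𝟙_ (Over (Spec (CommRingCat.of k)))) = 𝟙 _ from
      Subsingleton.elim _ _, Category.id_comp, Category.id_comp] at h
    exact h
  haveI hG : GeometricallyIntegral J.hom := AbDualLib.geometricallyIntegral_of_smooth J
  have hχm : IsMonHom χ := RigidLib.isMonHom_of_one χ h1
  have hj : abel1 hdim hF ≫ χ = φ := by
    classical
    let i₀ : Fin n := ⟨0, hpos⟩
    have h := key (Over.mk f) fun i => if i = i₀ then 𝟙 _ else basePt f σ hσ _
    rw [Finset.prod_eq_single i₀ (fun i _ hi => by rw [if_neg hi, basePt_abel1 hdim hF hmul])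
        (fun hi => absurd (Finset.mem_univ _) hi),
      Finset.prod_eq_single i₀ (fun i _ hi => by rw [if_neg hi, basePt_comp hφ])
        (fun hi => absurd (Finset.mem_univ _) hi), if_pos rfl] at h
    simpa using h
  refine ⟨χ, ⟨hχm, hj⟩, fun χ' ⟨hm, hj'⟩ => ?_⟩
  haveI := hm
  have hsum : abelN hdim hF n ≫ χ' = sumMap φ n := by
    rw [← Category.id_comp (abelN hdim hF n), comp_abelN hdim hF hmul]
    refine (map_prod (MonoidHom.mk' (fun a : pow f n ⟶ J => a ≫ χ') fun a b => MonObj.mul_comp a b χ') _ _).trans ?_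
    exact Finset.prod_congr rfl fun i _ => (Category.assoc _ _ _).trans (by rw [hj'])
  haveI : ConnectedSpace J.left := GeometricallyConnected.connectedSpace_of_subsingleton J.hom
  haveI : IsIntegral J.left := SmoothWeil.isIntegral_of_smooth_connected J.hom
  haveI : Surjective (abelN hdim hF n).left := surjective_abelN hdim hF fun s => by
    haveI : Subsingleton ↥(Spec (CommRingCat.of k)) := inferInstanceAs (Subsingleton (PrimeSpectrum k))
    rw [Subsingleton.elim s (IsLocalRing.closedPoint k), hn]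
  exact Over.OverMorphism.ext (ext_of_isDominant_of_isSeparated A.hom ((Over.w _).trans (Over.w _).symm)
    (abelN hdim hF n).left (congrArg CommaMorphism.left (hsum.trans hχ.symm)))

end Fine

end Groth.Agent.JacLib
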