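import Groth.Agent.JacLib.DescOrbit
import Groth.Agent.FpqcDesc.Basic

/-!
# The Jacobian of a curve with a rational point over any field
-/

set_option autoImplicit false
set_option backward.isDefEq.respectTransparency false
set_option backward.isDefEq.respectTransparency.types false
set_option linter.style.haveILetI false
set_option linter.unusedSectionVars false
set_option maxHeartbeats 1000000

universe u

open CategoryTheory CategoryTheory.Limits AlgebraicGeometry TopologicalSpace MonObj MonoidalCategory CartesianMonoidalCategory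
open Groth.Agent.PicLib Groth.Agent.AbDualLib Groth.Agent.SchDesc

noncomputable section

namespace Groth.Agent.JacLib

/-- Finitely many closed points of an irreducible group over an algebraically closed field lie in an affine open. -/
theorem exists_affine_finite {Ω : Type u} [Field Ω] [IsAlgClosed Ω] (J : Over (Spec (CommRingCat.of Ω))) [GrpObj J]
    [IsCommMonObj J] [LocallyOfFiniteType J.hom] [IsSeparated J.hom] [IrreducibleSpace J.left]
    (F : Set J.left) (hF : F.Finite) (hcl : ∀ z ∈ F, IsClosed ({z} : Set J.left)) :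
    ∃ U : J.left.Opens, IsAffineOpen U ∧ F ⊆ U := by
  classical
  haveI : JacobsonSpace J.left := LocallyOfFiniteType.jacobsonSpace J.hom
  let pt : ∀ z : J.left, IsClosed ({z} : Set J.left) → (𝟙_ (Over (Spec (CommRingCat.of Ω))) ⟶ J) := fun z hz =>
    Over.homMk (pointOfClosedPoint J.hom z hz) (pointOfClosedPoint_comp J.hom z hz)
  have hpt : ∀ z hz (y : Spec (CommRingCat.of Ω)), (pt z hz).left y = z := fun z hz y =>
    pointOfClosedPoint_apply J.hom z hz y
  have hcomp : ∀ ξ ζ : 𝟙_ (Over (Spec (CommRingCat.of Ω))) ⟶ J, ζ ≫ Jac.transl J ξ = ζ * ξ := fun ξ ζ => by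
    rw [Jac.transl, MonObj.comp_mul, Category.comp_id, ← Category.assoc, toUnit_unique (ζ ≫ toUnit J) (𝟙 _),
      Category.id_comp]
  have hinv : ∀ ξ, Jac.transl J ξ ≫ Jac.transl J ξ⁻¹ = 𝟙 J := fun ξ => by
    have h : Jac.transl J ξ ≫ toUnit J = toUnit J := toUnit_unique _ _
    show _ ≫ (𝟙 J * (toUnit J ≫ ξ⁻¹)) = _
    rw [MonObj.comp_mul, Category.comp_id, ← Category.assoc, h, Jac.transl, _root_.mul_assoc,
      ← MonObj.comp_mul, mul_inv_cancel, MonObj.comp_one, _root_.mul_one]
  have hiso : ∀ ξ, IsIso (Jac.transl J ξ).left := fun ξ => by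
    haveI : IsIso (Jac.transl J ξ) := ⟨Jac.transl J ξ⁻¹, hinv ξ, by simpa using hinv ξ⁻¹⟩
    exact inferInstanceAs (IsIso ((Over.forget _).map (Jac.transl J ξ)))
  obtain ⟨z₀⟩ := (inferInstance : Nonempty J.left)
  obtain ⟨_, ⟨U, hU, rfl⟩, hz₀, -⟩ :=
    J.left.isBasis_affineOpens.exists_subset_of_mem_open (Set.mem_univ z₀) isOpen_univ
  replace hU : IsAffineOpen U := hU
  haveI := hF.fintype
  let W : F → J.left.Opens := fun z => (Jac.transl J (pt z.1 (hcl z.1 z.2))).left ⁻¹ᵁ U
  have hW : ∀ z, (W z : Set J.left).Nonempty := fun z => by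
    haveI := hiso (pt z.1 (hcl z.1 z.2))
    obtain ⟨y, hy⟩ := (inferInstance : Surjective (Jac.transl J (pt z.1 (hcl z.1 z.2))).left).surj z₀
    exact ⟨y, show _ ∈ U by rw [hy]; exact hz₀⟩
  have hne : ∀ s : Finset F, ((s.inf W : J.left.Opens) : Set J.left).Nonempty := fun s => by
    induction s using Finset.induction with
    | empty => exact ⟨z₀, trivial⟩
    | insert a s _ ih =>
      rw [Finset.inf_insert, Opens.coe_inf]
      exact nonempty_preirreducible_inter (W a).2 (s.inf W).2 (hW a) ih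
  obtain ⟨g, hgW, hg⟩ := nonempty_inter_closedPoints (hne Finset.univ) (Finset.univ.inf W).2.isLocallyClosed
  let τ := Jac.transl J (pt g hg)
  haveI := hiso (pt g hg)
  refine ⟨τ.left ⁻¹ᵁ U, hU.preimage_of_isIso _, fun z hz => ?_⟩
  show τ.left z ∈ U
  have h1 : (Finset.univ.inf W) ≤ W ⟨z, hz⟩ := Finset.inf_le (Finset.mem_univ _)
  have h2 : (Jac.transl J (pt z (hcl z hz))).left g ∈ U := h1 hgW
  have e : pt z (hcl z hz) ≫ τ = pt g hg ≫ Jac.transl J (pt z (hcl z hz)) := by
    rw [hcomp, hcomp, _root_.mul_comm]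
  have := congrArg (fun m : 𝟙_ (Over (Spec (CommRingCat.of Ω))) ⟶ J => m.left (IsLocalRing.closedPoint Ω)) e
  simp only [Over.comp_left, Scheme.Hom.comp_apply] at this
  rw [hpt, hpt] at this
  rwa [this]

/-- The open of points whose orbit lies in a given open, for a universally closed covering. -/
theorem exists_stable_core_uc {X S : Scheme.{u}} {p : X ⟶ S} (D : _root_.Desc.SchDD p) [UniversallyClosed p]
    (U : D.obj.left.Opens) : ∃ W : D.obj.left.Opens, W ≤ U ∧ Stable D W ∧
      ∀ v, (∀ t, pullback.fst (D.obj.hom ≫ p) p t = v → act D t ∈ U) → v ∈ W := by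
  let f := pullback.fst (D.obj.hom ≫ p) p
  haveI : UniversallyClosed f := MorphismProperty.pullback_fst (P := @UniversallyClosed) _ _ ‹_›
  let W : D.obj.left.Opens := ⟨(f '' (act D ⁻¹' (U : Set D.obj.left)ᶜ))ᶜ,
    (f.isClosedMap _ (U.isOpen.isClosed_compl.preimage (act D).continuous)).isOpen_compl⟩
  have hW : ∀ v, v ∈ W ↔ ∀ t, f t = v → act D t ∈ U := fun v => by
    show v ∉ f '' (act D ⁻¹' (U : Set D.obj.left)ᶜ) ↔ _
    simp only [Set.mem_image, Set.mem_preimage, Set.mem_compl_iff, not_exists, not_and]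
    exact ⟨fun h t e => not_not.mp fun hn => h t hn e, fun h t hn e => hn (h t e)⟩
  refine ⟨W, fun v hv => ?_, fun t ht => ?_, fun v hv => (hW v).mpr hv⟩
  · let d := pullback.lift (f := D.obj.hom ≫ p) (g := p) (𝟙 D.obj.left) D.obj.hom (Category.id_comp _)
    have h1 := (hW v).mp hv (d v) (by rw [← Scheme.Hom.comp_apply, pullback.lift_fst]; rfl)
    rw [← Scheme.Hom.comp_apply] at h1
    have e : d ≫ act D = 𝟙 _ := move_self D (𝟙 _) D.obj.hom (Category.id_comp _) (Category.id_comp _)
    rw [e] at h1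
    exact h1
  · refine (hW _).mpr fun t' e => ?_
    obtain ⟨t'', h₁, h₂⟩ := exists_act_act D t t' e.symm
    rw [← h₂]
    exact (hW _).mp ht t'' h₁

variable {k : Type u} [Field k] {X : Scheme.{u}} (f : X ⟶ Spec (CommRingCat.of k))
  [IsProper f] [Smooth f] [GeometricallyConnected f]
  (hdim : ∀ s : Spec (CommRingCat.of k), topologicalKrullDim ↥(f.fiber s) = 1)
  (σ : Spec (CommRingCat.of k) ⟶ X) (hσ : σ ≫ f = 𝟙 _)

include hdim in
/-- The Jacobian of a curve with a rational point over any field. -/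
theorem exists_jac_field : ∃ (J : Over (Spec (CommRingCat.of k))) (x : Pic (PicF.XT f J)),
    pull (PicF.secT f σ hσ J) x = 1 ∧ IsPZc f J x ∧
      (∀ (T : Over (Spec (CommRingCat.of k))) (a : Pic (PicF.XT f T)),
        pull (PicF.secT f σ hσ T) a = 1 → IsPZc f T a → ∃! g : T ⟶ J, pull (PicF.XTmap f g) x = a) ∧
      IsProper J.hom ∧ Smooth J.hom ∧ GeometricallyIrreducible J.hom := by
  classical
  let Ω := AlgebraicClosure k
  let p : Spec (CommRingCat.of Ω) ⟶ Spec (CommRingCat.of k) := Spec.map (CommRingCat.ofHom (algebraMap k Ω))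
  haveI : GeometricallyIntegral f := geometricallyIntegral_curve f
  haveI : IsProper (Over.mk f).hom := inferInstanceAs (IsProper f)
  haveI : Flat (Over.mk f).hom := inferInstanceAs (Flat f)
  haveI : GeometricallyIntegral (Over.mk f).hom := inferInstanceAs (GeometricallyIntegral f)
  have ha : InvDescLib.UnivConst f := AbDualLib.univConst (Over.mk f)
  let f' := pullback.snd f p
  let X' := pullback f p
  letI : X'.Over (Spec (CommRingCat.of Ω)) := ⟨f'⟩
  haveI : IsProper (X' ↘ Spec (CommRingCat.of Ω)) := MorphismProperty.pullback_snd (P := @IsProper) f p ‹_›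
  haveI : Smooth (X' ↘ Spec (CommRingCat.of Ω)) := MorphismProperty.pullback_snd (P := @Smooth) f p ‹_›
  haveI hgc : GeometricallyConnected f' := inferInstance
  haveI : ConnectedSpace X' := GeometricallyConnected.connectedSpace_of_subsingleton f'
  haveI : IsIntegral X' := CurveLib.isIntegral_of_smooth (X := X') Ω
  have hd' := fun s => topologicalKrullDim_fiber_snd f p hdim s
  have hdim' : topologicalKrullDim X' = 1 :=
    (CurveFF.topologicalKrullDim_fiber_eq f' (IsLocalRing.closedPoint Ω)).symm.trans (hd' _)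
  let σ' : Spec (CommRingCat.of Ω) ⟶ X' := pullback.lift (p ≫ σ) (𝟙 _) (by
    rw [Category.assoc, hσ, Category.comp_id, Category.id_comp])
  have hσ' : σ' ≫ f' = 𝟙 _ := pullback.lift_snd _ _ _
  obtain ⟨J', x', hG, hGc, ⟨hx', hxz', hu'⟩, hprop, hsm, hgcJ, hgi, -, -⟩ :=
    exists_jacobian_av X' hdim' σ' hσ'
  haveI := hprop
  haveI := hsm
  haveI := hgcJ
  haveI := hgi
  letI := hG
  haveI := hGc
  haveI : IsProper (PicF.XTproj f' J') := MorphismProperty.pullback_snd _ _ inferInstance
  let xU : Pic (PicF.XT f ((Over.map p).obj J')) := pull (PicCurveSmoothLib.bcIso f p J').inv x'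
  have hsec : ∀ T : Over (Spec (CommRingCat.of Ω)), PicF.secT f' σ' hσ' T ≫ (PicCurveSmoothLib.bcIso f p T).hom =
      PicF.secT f σ hσ ((Over.map p).obj T) := fun T => by
    apply pullback.hom_ext <;> simp [PicF.secT, PicCurveSmoothLib.bcIso, σ']
    · erw [pullback.lift_fst_assoc, Category.assoc, pullback.lift_fst]
    · erw [pullback.lift_snd]
  have hsec' : ∀ T : Over (Spec (CommRingCat.of Ω)), PicF.secT f σ hσ ((Over.map p).obj T) ≫
      (PicCurveSmoothLib.bcIso f p T).inv = PicF.secT f' σ' hσ' T := fun T => by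
    rw [Iso.comp_inv_eq, hsec]
  have hU : Desc.IsUniv σ hσ xU := by
    refine ⟨hdim, ?_, ?_, fun T a hr hz => ?_⟩
    · show pull _ (pull _ x') = 1
      rw [← pull_comp, hsec']
      exact hx'
    · show AbDual.IsPicZeroCl f _ (toCl _)
      rw [toCl_pull]
      exact isPicZeroCl_bcIso_inv f hdim p J' hxz'
    · have hr' : pull (PicF.secT f' σ' hσ' T) (pull (PicCurveSmoothLib.bcIso f p T).hom a) = 1 := by
        refine (pull_comp _ _ a).symm.trans ?_
        exact (congrArg (fun φ => pull φ a) (hsec T)).trans hr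
      have hz' : AbDual.IsPicZeroCl f' T (toCl (pull (PicCurveSmoothLib.bcIso f p T).hom a)) := by
        rw [toCl_pull]
        exact isPicZeroCl_bcIso_hom f hdim p T hz
      have key : ∀ g : T ⟶ J', pull (PicF.XTmap f ((Over.map p).map g)) xU =
          pull (PicCurveSmoothLib.bcIso f p T).inv (pull (PicF.XTmap f' g) x') := fun g => by
        show pull _ (pull _ x') = _
        rw [← pull_comp, ← pull_comp, PicCurveSmoothLib.bcIso_inv_XTmap]
        rfl
      obtain ⟨g, hg, hg'⟩ := hu' T _ hr' hz'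
      replace hg : pull (PicF.XTmap f' g) x' = pull (PicCurveSmoothLib.bcIso f p T).hom a := hg
      refine ⟨g, ?_, fun g₁ hg₁ => hg' g₁ ?_⟩
      · show pull _ xU = a
        rw [key, hg, ← pull_comp, Iso.inv_hom_id, pull_id]
      · have h := congrArg (pull (PicCurveSmoothLib.bcIso f p T).hom) ((key g₁).symm.trans hg₁)
        rwa [← pull_comp, Iso.hom_inv_id, pull_id] at h
  haveI : IrreducibleSpace J'.left := by
    haveI : ConnectedSpace J'.left := GeometricallyConnected.connectedSpace_of_subsingleton J'.hom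
    letI : J'.left.Over (Spec (CommRingCat.of Ω)) := ⟨J'.hom⟩
    haveI : IsProper (J'.left ↘ Spec (CommRingCat.of Ω)) := hprop
    haveI : Smooth (J'.left ↘ Spec (CommRingCat.of Ω)) := hsm
    haveI := CurveLib.isIntegral_of_smooth (X := J'.left) Ω
    infer_instance
  haveI : IsIntegralHom p := IsIntegralHom.SpecMap_iff.2
    (algebraMap_isIntegral_iff.2 (inferInstance : Algebra.IsIntegral k Ω))
  haveI : Flat p := inferInstance
  haveI : Surjective p := GeomIrred.surjective_specMap_field k Ω
  haveI : IsFpqc p := IsFpqc.of_quasiCompact p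
  haveI : JacobsonSpace J'.left := LocallyOfFiniteType.jacobsonSpace J'.hom
  haveI : JacobsonSpace ↥(Desc.datum hU).obj.left := inferInstanceAs (JacobsonSpace J'.left)
  obtain ⟨Q⟩ : Nonempty (Quot (Desc.datum hU) ⊤) := by
    refine quot_top fun v => ?_
    obtain ⟨c, hcm, hc⟩ := nonempty_inter_closedPoints (Z := closure {v}) ⟨v, subset_closure rfl⟩
      isClosed_closure.isLocallyClosed
    obtain ⟨F, hF, hFc, hFt⟩ := Desc.exists_finite_orbit hU c hc
    obtain ⟨U, hUaff, hFU⟩ := exists_affine_finite J' F hF hFc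
    obtain ⟨W, hWU, hW, hmem⟩ := exists_stable_core_uc (Desc.datum hU) U
    refine ⟨W, (specializes_iff_mem_closure.2 hcm).mem_open W.2 (hmem c fun t ht => hFU (hFt t ht)),
      quot_of_restrict _ W hW ?_⟩
    refine quot_of_indQuasiAffine_fpqc (restrictDD (Desc.datum hU) W hW) (indQA_of_le hWU ?_)
    intro K hK
    haveI : IsAffine (U : Scheme.{u}) := hUaff
    haveI : (U : Scheme.{u}).IsQuasiAffine := inferInstance
    haveI : ((U.ι ''ᵁ K : J'.left.Opens) : Scheme.{u}).IsQuasiAffine := Groth.Agent.QAffLib.open_of_le _ U (by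
      rintro _ ⟨y, -, rfl⟩
      exact y.2) (hK.image U.ι.continuous)
    exact Groth.Agent.QAffLib.of_iso (U.ι.isoImage K).hom
  obtain ⟨J, x, hx, hxz, hu, π₀, hpb⟩ := Desc.exists_of_quot hU ha Q
  have hbc : ∀ (P : MorphismProperty Scheme.{u}) [P.IsStableUnderBaseChange], P J'.hom → P (pullback.snd J.hom p) :=
    fun P _ h => (P.cancel_left_of_respectsIso hpb.flip.isoPullback.hom _).1 (by
      rw [IsPullback.isoPullback_hom_snd]; exact h)
  haveI : IsProper (pullback.snd J.hom p) := hbc @IsProper hprop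
  haveI : Smooth (pullback.snd J.hom p) := hbc @Smooth hsm
  have hp : (@Surjective ⊓ @Flat ⊓ @QuasiCompact : MorphismProperty Scheme.{u}) p :=
    ⟨⟨inferInstance, inferInstance⟩, inferInstance⟩
  haveI := Groth.Agent.FpqcDesc.isProper_descends.{u}
  have h1 : IsProper J.hom :=
    MorphismProperty.of_pullback_snd_of_descendsAlong (P := @IsProper) hp inferInstance
  have h2 : Smooth J.hom :=
    MorphismProperty.of_pullback_snd_of_descendsAlong (P := @Smooth) hp inferInstance
  haveI : IrreducibleSpace ↥(pullback J.hom p) :=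
    (Homeomorph.irreducibleSpace_iff hpb.flip.isoPullback.hom.homeomorph).1 inferInstance
  exact ⟨J, x, hx, hxz, hu, h1, h2, GeomIrred.geometricallyIrreducible_of_irreducible_pullback J.hom Ω⟩

end Groth.Agent.JacLib
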