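import Groth.Agent.JacLib.Coarse
import Groth.Agent.JacLib.JacField

/-!
# The Albanese property of a coarse Jacobian
-/

set_option autoImplicit false
set_option backward.isDefEq.respectTransparency false
set_option backward.isDefEq.respectTransparency.types false
set_option linter.style.haveILetI false
set_option linter.unusedSectionVars false
set_option maxHeartbeats 1000000

universe u

open CategoryTheory CategoryTheory.Limits AlgebraicGeometry TopologicalSpace MonObj MonoidalCategory CartesianMonoidalCategory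
open Groth.Agent.PicLib Groth.Agent.AbDualLib Groth.Agent.PicRepLib Groth.Agent.AmpleLib

noncomputable section

namespace Groth.Agent.JacLib

variable {k : Type u} [Field k] {C : Scheme.{u}} [C.Over (Spec (CommRingCat.of k))]
  [IsProper (C ↘ Spec (CommRingCat.of k))] [Smooth (C ↘ Spec (CommRingCat.of k))]
  [GeometricallyConnected (C ↘ Spec (CommRingCat.of k))]

theorem fibreDim (hdim : topologicalKrullDim ↥C = 1) :
    ∀ s, topologicalKrullDim ↥((C ↘ Spec (CommRingCat.of k)).fiber s) = 1 :=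
  fun s => (CurveFF.topologicalKrullDim_fiber_eq _ s).trans hdim

omit [GeometricallyConnected (C ↘ Spec (CommRingCat.of k))] in
theorem fiberRank_genus : CohIII.fiberRank (C ↘ Spec (CommRingCat.of k)) (Coh.structureModule C) 1
    (IsLocalRing.closedPoint k) = Curv2.genus k C := by
  haveI : Coh.IsQCoh (Coh.structureModule C) :=
    PicDegLib.isQCoh_invertible ParaFLib.isInvertible_structureModule
  exact fiberRank_eq_finrank (k := k) (X := C) (Coh.structureModule C) 1 _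

/-- A coarse Jacobian of a pointed curve over a field with its Abel map is the fine one. -/
theorem exists_fine_of_isJacobian (hdim : topologicalKrullDim ↥C = 1)
    [SmoothOfRelativeDimension 1 (C ↘ Spec (CommRingCat.of k))]
    (σ : Spec (CommRingCat.of k) ⟶ C) (hσ : σ ≫ (C ↘ Spec (CommRingCat.of k)) = 𝟙 _)
    {J : Over (Spec (CommRingCat.of k))} [GrpObj J]
    {ψ : (ModFun.PicDeg (C ↘ Spec (CommRingCat.of k)) 0).Hom ⊤ J} (hJ : Jac.IsJacobian (C ↘ Spec (CommRingCat.of k)) ⊤ J ψ) :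
    ∃ (J₀ : Over (Spec (CommRingCat.of k))) (_ : GrpObj J₀) (_ : IsCommMonObj J₀)
      (x : Pic (PicF.XT (C ↘ Spec (CommRingCat.of k)) J₀)) (hF : FineJac σ hσ J₀ x) (e : J₀ ≅ J),
      IsProper J₀.hom ∧ Smooth J₀.hom ∧ GeometricallyIrreducible J₀.hom ∧
      (∀ (T : Over _) (a b : T ⟶ J₀), pull (PicF.XTmap (C ↘ Spec (CommRingCat.of k)) (a * b)) x =
        pull (PicF.XTmap (C ↘ Spec (CommRingCat.of k)) a) x * pull (PicF.XTmap (C ↘ Spec (CommRingCat.of k)) b) x) ∧
      IsMonHom e.hom ∧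
      (∀ (T : Over _) (L : (PicF.XT (C ↘ Spec (CommRingCat.of k)) T).Modules) (hT : (⊤ : ObjectProperty _) T)
        (hL : (ModFun.PicDeg (C ↘ Spec (CommRingCat.of k)) 0).ok T L),
        ψ.app T L hT hL = clfApp (fibreDim hdim) hF T L hL ≫ e.hom) ∧
      ∀ j, Jac.IsAbelJacobiAt (C ↘ Spec (CommRingCat.of k)) σ ψ j → j = abel1 (fibreDim hdim) hF ≫ e.hom := by
  obtain ⟨J₀, x, hx, hxz, hu, h1, h2, h3⟩ := exists_jac_field _ (fibreDim hdim) σ hσ
  obtain ⟨hG, hC, hmul⟩ := exists_grpObj (fibreDim hdim) hx hxz hu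
  letI := hG
  let hF : FineJac σ hσ J₀ x := ⟨hx, hxz, hu⟩
  obtain ⟨e, he, hψ⟩ := exists_iso_of_isJacobian (fibreDim hdim) hF hmul hJ
  refine ⟨J₀, hG, hC, x, hF, e, h1, h2, h3, hmul, he, hψ, ?_⟩
  rintro j ⟨hP, L, hL, hAJ, rfl⟩
  rw [hψ]
  congr 1
  refine hom_ext_fine (fibreDim hdim) hF ?_
  rw [clfApp_spec (fibreDim hdim) hF hL hAJ.1, cls_of_isAJFamilyAt _ σ hσ hAJ,
    ← Category.id_comp (abel1 (fibreDim hdim) hF), pull_comp_abel1]

/-- The Albanese property of a coarse Jacobian. -/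
theorem albanese_coarse (hdim : topologicalKrullDim ↥C = 1) (hg : 0 < Curv2.genus k C)
    (σ : Spec (CommRingCat.of k) ⟶ C) (hσ : σ ≫ (C ↘ Spec (CommRingCat.of k)) = 𝟙 _)
    {J : Over (Spec (CommRingCat.of k))} [GrpObj J]
    {ψ : (ModFun.PicDeg (C ↘ Spec (CommRingCat.of k)) 0).Hom ⊤ J} (hJ : Jac.IsJacobian (C ↘ Spec (CommRingCat.of k)) ⊤ J ψ)
    {j : Over.mk (C ↘ Spec (CommRingCat.of k)) ⟶ J} (hj : Jac.IsAbelJacobiAt (C ↘ Spec (CommRingCat.of k)) σ ψ j)
    {A : Over (Spec (CommRingCat.of k))} [GrpObj A] [IsCommMonObj A] [IsProper A.hom]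
    (φ : Over.mk (C ↘ Spec (CommRingCat.of k)) ⟶ A) (hφ : σ ≫ φ.left = η[A].left) :
    ∃! χ : J ⟶ A, IsMonHom χ ∧ j ≫ χ = φ := by
  haveI := smoothOfRelativeDimension_one (C ↘ Spec (CommRingCat.of k)) (fibreDim hdim)
  obtain ⟨J₀, hG, hC, x, hF, e, h1, h2, h3, hmul, he, -, hj'⟩ := exists_fine_of_isJacobian hdim σ hσ hJ
  haveI : GeometricallyConnected J₀.hom := GeomIrred.geometricallyConnected_of_geometricallyIrreducible J₀.hom
  obtain ⟨χ, ⟨hχ, hχj⟩, hun⟩ := albanese (fibreDim hdim) hF hmul fiberRank_genus hg φ hφ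
  rw [hj' j hj]
  haveI := he
  haveI := hχ
  refine ⟨e.inv ≫ χ, ⟨inferInstance, by rw [Category.assoc, e.hom_inv_id_assoc, hχj]⟩, fun χ' ⟨hm, h⟩ => ?_⟩
  haveI := hm
  rw [← hun (e.hom ≫ χ') ⟨inferInstance, by rw [← Category.assoc, h]⟩, e.inv_hom_id_assoc]

end Groth.Agent.JacLib

namespace Groth.Agent.JacLib

variable {k : Type u} [Field k] {C : Scheme.{u}} [C.Over (Spec (CommRingCat.of k))]
  [IsProper (C ↘ Spec (CommRingCat.of k))] [Smooth (C ↘ Spec (CommRingCat.of k))]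
  [GeometricallyConnected (C ↘ Spec (CommRingCat.of k))]

/-- The Abel map kills the base point. -/
theorem basePt_comp_abelJacobi (hdim : topologicalKrullDim ↥C = 1)
    (σ : Spec (CommRingCat.of k) ⟶ C) (hσ : σ ≫ (C ↘ Spec (CommRingCat.of k)) = 𝟙 _)
    {J : Over (Spec (CommRingCat.of k))} [GrpObj J]
    {ψ : (ModFun.PicDeg (C ↘ Spec (CommRingCat.of k)) 0).Hom ⊤ J} (hJ : Jac.IsJacobian (C ↘ Spec (CommRingCat.of k)) ⊤ J ψ)
    {j : Over.mk (C ↘ Spec (CommRingCat.of k)) ⟶ J} (hj : Jac.IsAbelJacobiAt (C ↘ Spec (CommRingCat.of k)) σ ψ j) :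
    basePt (C ↘ Spec (CommRingCat.of k)) σ hσ (𝟙_ (Over (Spec (CommRingCat.of k)))) ≫ j = η[J] := by
  haveI := smoothOfRelativeDimension_one (C ↘ Spec (CommRingCat.of k)) (fibreDim hdim)
  obtain ⟨J₀, hG, hC, x, hF, e, h1, h2, h3, hmul, he, -, hj'⟩ := exists_fine_of_isJacobian hdim σ hσ hJ
  haveI := he
  rw [hj' j hj, ← Category.assoc, basePt_abel1 _ _ hmul, Hom.one_def, show toUnit (𝟙_ (Over (Spec (CommRingCat.of k)))) = 𝟙 _ from
      Subsingleton.elim _ _, Category.id_comp]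
  exact IsMonHom.one_hom e.hom

end Groth.Agent.JacLib
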