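import Groth.Agent.JacLib.AlgEquiv
import Groth.Agent.GenBCLib.Point
import Mathlib.FieldTheory.IsAlgClosed.AlgebraicClosure

/-!
# Fibrewise algebraically trivial classes are the classes of fibre degree zero
-/

set_option autoImplicit false
set_option backward.isDefEq.respectTransparency false
set_option backward.isDefEq.respectTransparency.types false
set_option linter.style.haveILetI false
set_option maxHeartbeats 1000000

universe u

open CategoryTheory CategoryTheory.Limits AlgebraicGeometry
open Groth.Agent.PicLib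

noncomputable section

namespace Groth.Agent.JacLib

variable {X S : Scheme.{u}} (f : X ⟶ S) [IsProper f] [Smooth f] [GeometricallyConnected f]
  (hdim : ∀ s : S, topologicalKrullDim ↥(f.fiber s) = 1)

include hdim in
theorem algEquivZero_iff_deg {L : X.Modules} (hL : PicF.IsInvertible L) (Ω : Type u) [Field Ω] [IsAlgClosed Ω]
    (σ : Spec (CommRingCat.of Ω) ⟶ S) (t : Spec (CommRingCat.of Ω)) :
    @Pic13.IsAlgEquivZero Ω _ (pullback f σ) ⟨pullback.snd f σ⟩ ((Scheme.Modules.pullback (pullback.fst f σ)).obj L) ↔
      PicDegLib.deg f L (σ t) = 0 := by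
  haveI := smoothOfRelativeDimension_one f hdim
  letI : (pullback f σ).Over (Spec (CommRingCat.of Ω)) := ⟨pullback.snd f σ⟩
  haveI : IsProper (pullback f σ ↘ Spec (CommRingCat.of Ω)) := inferInstanceAs (IsProper (pullback.snd f σ))
  haveI : Smooth (pullback f σ ↘ Spec (CommRingCat.of Ω)) := inferInstanceAs (Smooth (pullback.snd f σ))
  haveI : GeometricallyConnected (pullback f σ ↘ Spec (CommRingCat.of Ω)) :=
    inferInstanceAs (GeometricallyConnected (pullback.snd f σ))
  have hd : topologicalKrullDim ↥(pullback f σ) = 1 := dim_XT f σ hdim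
  haveI := PicDegLib.isQCoh_invertible hL
  have hL' := AmpleLib.isInvertible_pullback (pullback.fst f σ) hL
  have h := PicDegLib.deg_baseChange (IsPullback.of_hasPullback f σ) L t
  rw [← h]
  rw [show PicDegLib.deg (pullback.snd f σ) ((Scheme.Modules.pullback (pullback.fst f σ)).obj L) t =
    Curv2.deg Ω (pullback f σ) ((Scheme.Modules.pullback (pullback.fst f σ)).obj L) 1 from deg_eq hd.le hL' t]
  exact ⟨deg_eq_zero_of_algEquivZero hd.le hL', algEquivZero_of_deg_eq_zero hd hL'⟩

include hdim in
/-- Algebraically trivial on a geometric fibre means degree zero on the fibre. -/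
theorem isAlgTrivialAt_iff {L : X.Modules} (hL : PicF.IsInvertible L) (s : S) :
    AbDual.IsAlgTrivialAt f L s ↔ PicDegLib.deg f L s = 0 := by
  constructor
  · intro h
    let Ω := AlgebraicClosure (S.residueField s)
    let σ : Spec (CommRingCat.of Ω) ⟶ S :=
      Spec.map (CommRingCat.ofHom (algebraMap (S.residueField s) Ω)) ≫ S.fromSpecResidueField s
    have hσ : ∀ z, σ z = s := fun z => by
      dsimp only [σ]
      rw [Scheme.Hom.comp_apply]
      exact Scheme.fromSpecResidueField_apply s _
    have hr : Set.range σ.base = {s} := Set.range_eq_singleton_iff.2 hσ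
    have := (algEquivZero_iff_deg f hdim hL Ω σ (IsLocalRing.closedPoint Ω)).1 (h Ω σ hr)
    rwa [hσ] at this
  · intro h Ω _ _ σ hσ
    refine (algEquivZero_iff_deg f hdim hL Ω σ (IsLocalRing.closedPoint Ω)).2 ?_
    rwa [show σ (IsLocalRing.closedPoint Ω) = s from hσ.le ⟨_, rfl⟩]

variable {Y : Scheme.{u}} {g : Y ⟶ S}

include hdim in
/-- The classes in `Pic⁰`. -/
theorem isPicZeroCl_iff (T : Over S) {L : (PicF.XT f T).Modules} (hL : PicF.IsInvertible L) :
    AbDual.IsPicZeroCl f T (PicF.cl L) ↔ ∀ t, PicDegLib.deg (PicF.XTproj f T) L t = 0 := by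
  haveI : IsProper (PicF.XTproj f T) := MorphismProperty.pullback_snd _ _ inferInstance
  haveI : Smooth (PicF.XTproj f T) := MorphismProperty.pullback_snd _ _ inferInstance
  haveI : GeometricallyConnected (PicF.XTproj f T) := MorphismProperty.pullback_snd _ _ inferInstance
  have hd : ∀ t : T.left, topologicalKrullDim ↥((PicF.XTproj f T).fiber t) = 1 := fun t =>
    (Groth.Agent.S9777.result f _ (PicF.XTproj f T) (pullback.fst f T.hom) (IsPullback.of_hasPullback f T.hom) t).trans
      (hdim _)
  constructor
  · rintro ⟨M, hM, hMi, h⟩ t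
    obtain ⟨e⟩ := AbDualLib.nonempty_iso_of_cl_eq hM
    rw [← PicDegLib.deg_congr _ e t]
    exact (isAlgTrivialAt_iff _ hd hMi t).1 (h t)
  · exact fun h => ⟨L, rfl, hL, fun t => (isAlgTrivialAt_iff _ hd hL t).2 (h t)⟩

/-- The degree on a fibre of a family in terms of Euler characteristics. -/
theorem eulerCharLE_sub {C S : Scheme.{u}} (f : C ⟶ S) (T : Over S) (L : (PicF.XT f T).Modules) (t : T.left) :
    FGA.eulerCharLE (T.left.residueField t) (FGA.fibreAt f T t).left (FGA.restrFibre f T t L) 1 -
      FGA.eulerCharLE (T.left.residueField t) (FGA.fibreAt f T t).left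
        (Coh.structureModule (FGA.fibreAt f T t).left) 1 = PicDegLib.deg (PicF.XTproj f T) L t := by
  have key : ∀ M : (PicF.XT f T).Modules, FGA.eulerCharLE (T.left.residueField t) (FGA.fibreAt f T t).left
      (FGA.restrFibre f T t M) 1 = PicDegLib.chi (PicF.XTproj f T) M t := fun M => by
    simp only [FGA.eulerCharLE, Finset.sum_range_succ, Finset.sum_range_zero, pow_zero, pow_one, zero_add, one_mul,
      neg_one_mul]
    rfl
  rw [PicDegLib.deg, key]
  congr 1
  refine Eq.trans ?_ (key (Coh.structureModule _))
  simp only [FGA.eulerCharLE]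
  refine Finset.sum_congr rfl fun i _ => ?_
  congr 2
  letI : (Limits.pullback (PicF.XTproj f T) (T.left.fromSpecResidueField t)).Over
      (Spec (CommRingCat.of (T.left.residueField t))) :=
    ⟨Limits.pullback.snd (PicF.XTproj f T) (T.left.fromSpecResidueField t)⟩
  exact ((BCLib.hhEquivL (A := T.left.residueField t)
    (DCohLib.pullStructureIso (Limits.pullback.fst (PicF.XTproj f T) (T.left.fromSpecResidueField t))) i).finrank_eq).symm

end Groth.Agent.JacLib
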