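import Groth.Agent.JacLib.Albanese
import Groth.Agent.CurveLib.DegTensor
import Groth.Agent.VBLib.Point
import Groth.Prelude.Def_Jac

/-!
# A coarse Jacobian with rational point is a fine one
-/

set_option autoImplicit false
set_option backward.isDefEq.respectTransparency false
set_option backward.isDefEq.respectTransparency.types false
set_option linter.style.haveILetI false
set_option linter.unusedSectionVars false
set_option maxHeartbeats 1000000

universe u

open CategoryTheory CategoryTheory.Limits AlgebraicGeometry TopologicalSpace MonObj MonoidalCategory CartesianMonoidalCategory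
open Groth.Agent.PicLib Groth.Agent.AbDualLib Groth.Agent.PicRepLib Groth.Agent.AmpleLib

noncomputable section

namespace Groth.Agent.JacLib

section PicDeg

variable {C S : Scheme.{u}} {f : C ⟶ S} [IsProper f] [Smooth f] [GeometricallyConnected f]
  (hdim : ∀ s : S, topologicalKrullDim ↥(f.fiber s) = 1)

include hdim in
theorem picDeg_ok_iff {T : Over S} {L : (PicF.XT f T).Modules} :
    (ModFun.PicDeg f 0).ok T L ↔ ∃ hL : PicF.IsInvertible L, IsPZc f T (cls hL) := by
  haveI : SmoothOfRelativeDimension 1 f := smoothOfRelativeDimension_one f hdim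
  constructor
  · rintro ⟨⟨-, hr⟩, hd⟩
    have hL := VBLib.isInvertible_of_rank hr
    refine ⟨hL, isPZc_of_geometric f hdim fun Ω _ _ s g => ?_⟩
    obtain ⟨gl, rfl, rfl⟩ : ∃ (gl : Spec (CommRingCat.of Ω) ⟶ T.left) (e : gl ≫ T.hom = s),
        g = Over.homMk gl e := ⟨g.left, Over.w g, rfl⟩
    letI : (PicF.XT f (Over.mk (gl ≫ T.hom))).Over (Spec (CommRingCat.of Ω)) := ⟨PicF.XTproj f (Over.mk (gl ≫ T.hom))⟩
    haveI : IsProper (PicF.XT f (Over.mk (gl ≫ T.hom)) ↘ Spec (CommRingCat.of Ω)) := isProper_XT f _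
    rw [pull_cls, isPZc_iff f hdim]
    intro t
    rw [show PicF.XTproj f (Over.mk (gl ≫ T.hom)) = (PicF.XT f (Over.mk (gl ≫ T.hom)) ↘ Spec (CommRingCat.of Ω)) from rfl,
      deg_eq (dim_XT f _ hdim).le (isInvertible_pullback _ hL)]
    exact hd Ω gl
  · rintro ⟨hL, hz⟩
    refine ⟨⟨trivial, CurveLib.isFinLocFreeOfRank_one hL⟩, fun Ω _ _ t => ?_⟩
    letI : (PicF.XT f (Over.mk (t ≫ T.hom))).Over (Spec (CommRingCat.of Ω)) :=
      ⟨PicF.XTproj f (Over.mk (t ≫ T.hom))⟩
    haveI : IsProper (PicF.XT f (Over.mk (t ≫ T.hom)) ↘ Spec (CommRingCat.of Ω)) := isProper_XT f _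
    let g : Over.mk (t ≫ T.hom) ⟶ T := Over.homMk t rfl
    have h := isPZc_pull f hdim g hz
    rw [pull_cls, isPZc_iff f hdim] at h
    exact (deg_eq (dim_XT f _ hdim).le (isInvertible_pullback _ hL) (IsLocalRing.closedPoint Ω)).symm.trans (h _)

theorem r_of_cls {T : Over S} {L L' : (PicF.XT f T).Modules} (hL : PicF.IsInvertible L) (hL' : PicF.IsInvertible L')
    (N : Pic T.left) (h : cls hL' = cls hL * pull (PicF.XTproj f T) N) : (ModFun.PicDeg f 0).r T L L' := by
  obtain ⟨M, hM, rfl⟩ := exists_cls N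
  exact ⟨M, hM, (cls_eq_cls hL' (isInvertible_tensor hL (isInvertible_pullback _ hM))).1 h⟩

theorem cls_of_r {T : Over S} {L L' : (PicF.XT f T).Modules} (hL : PicF.IsInvertible L) (hL' : PicF.IsInvertible L')
    (h : (ModFun.PicDeg f 0).r T L L') : ∃ N : Pic T.left, cls hL' = cls hL * pull (PicF.XTproj f T) N := by
  obtain ⟨M, hM, e⟩ := h
  exact ⟨cls hM, (cls_eq_cls hL' (isInvertible_tensor hL (isInvertible_pullback _ hM))).2 e⟩

variable {σ : S ⟶ C} {hσ : σ ≫ f = 𝟙 S} {J : Over S} {x : Pic (PicF.XT f J)} (hF : FineJac σ hσ J x)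

/-- The classifying map of a degree zero family. -/
def clfApp (T : Over S) (L : (PicF.XT f T).Modules) (h : (ModFun.PicDeg f 0).ok T L) : T ⟶ J :=
  (exists_clf hdim hF ((picDeg_ok_iff hdim).1 h).choose_spec).choose

theorem clfApp_spec {T : Over S} {L : (PicF.XT f T).Modules} (h : (ModFun.PicDeg f 0).ok T L) (hL : PicF.IsInvertible L) :
    pull (PicF.XTmap f (clfApp hdim hF T L h)) x = rig σ hσ (cls hL) :=
  (exists_clf hdim hF ((picDeg_ok_iff hdim).1 h).choose_spec).choose_spec.1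

/-- The classifying map as a morphism of moduli problems. -/
def toHom : (ModFun.PicDeg f 0).Hom ⊤ J where
  app T L _ h := clfApp hdim hF T L h
  natural {T T'} g L _ _ hx hx' := by
    obtain ⟨hL, -⟩ := (picDeg_ok_iff hdim).1 hx
    refine hom_ext_fine hdim hF ?_
    rw [clfApp_spec hdim hF hx' (isInvertible_pullback _ hL), ← InvDescLib.pull_XTmap_XTmap _ g rfl,
      clfApp_spec hdim hF hx hL, pull_rig]
    rfl
  resp {T} L L' _ hx hy h := by
    obtain ⟨hL, -⟩ := (picDeg_ok_iff hdim).1 hx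
    obtain ⟨hL', -⟩ := (picDeg_ok_iff hdim).1 hy
    obtain ⟨N, hN⟩ := cls_of_r hL hL' h
    refine hom_ext_fine hdim hF ?_
    rw [clfApp_spec hdim hF hx hL, clfApp_spec hdim hF hy hL', hN, rig_mul_base]

include hdim hF in
/-- A coarse Jacobian is isomorphic to the fine moduli scheme, compatibly with the group laws. -/
theorem exists_iso_of_isJacobian [GrpObj J]
    (hmul : ∀ (T : Over S) (a b : T ⟶ J),
      pull (PicF.XTmap f (a * b)) x = pull (PicF.XTmap f a) x * pull (PicF.XTmap f b) x)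
    {J' : Over S} [GrpObj J'] {ψ : (ModFun.PicDeg f 0).Hom ⊤ J'} (hJ : Jac.IsJacobian f ⊤ J' ψ) :
    ∃ e : J ≅ J', IsMonHom e.hom ∧ ∀ (T : Over S) (L : (PicF.XT f T).Modules) (hT : (⊤ : ObjectProperty (Over S)) T)
      (hL : (ModFun.PicDeg f 0).ok T L), ψ.app T L hT hL = clfApp hdim hF T L hL ≫ e.hom := by
  obtain ⟨Lx, hLx, hx⟩ := exists_cls x
  have hok : (ModFun.PicDeg f 0).ok J Lx := (picDeg_ok_iff hdim).2 ⟨hLx, hx ▸ hF.pzc⟩
  let η' : J ⟶ J' := ψ.app J Lx trivial hok
  have hp : ∀ {T : Over S} (g : T ⟶ J), (ModFun.PicDeg f 0).ok T ((ModFun.PicDeg f 0).pull g Lx) := fun {T} g =>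
    (picDeg_ok_iff hdim).2 ⟨isInvertible_pullback _ hLx, isPZc_pull f hdim g (a := cls hLx) (hx ▸ hF.pzc)⟩
  have key : ∀ (T : Over S) (L : (PicF.XT f T).Modules) (hT : (⊤ : ObjectProperty (Over S)) T)
      (hL : (ModFun.PicDeg f 0).ok T L), ψ.app T L hT hL = clfApp hdim hF T L hL ≫ η' := by
    intro T L hT hL
    obtain ⟨hLi, -⟩ := (picDeg_ok_iff hdim).1 hL
    let g := clfApp hdim hF T L hL
    rw [← ψ.natural g Lx trivial hT hok (hp g)]
    refine ψ.resp _ _ hT hL (hp g) (r_of_cls hLi (isInvertible_pullback _ hLx) (pull (PicF.secT f σ hσ T) (cls hLi))⁻¹ ?_)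
    rw [← pull_cls _ hLx, hx]
    exact (clfApp_spec hdim hF hL hLi).trans rfl
  obtain ⟨θ, hθ, -⟩ := hJ.coarse.2.1 J (toHom hdim hF)
  have h1 : η' ≫ θ = 𝟙 J := by
    rw [← hθ J Lx trivial hok]
    refine hom_ext_fine hdim hF ?_
    show pull (PicF.XTmap f (clfApp hdim hF J Lx hok)) x = _
    rw [clfApp_spec hdim hF hok hLx, hx, rig_eq_self hF.rigid, XTmap_id, pull_id]
  have h2 : θ ≫ η' = 𝟙 J' := (hJ.coarse.2.1 J' ψ).unique
    (fun T L hT hL => by
      rw [← Category.assoc, ← hθ T L hT hL]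
      exact key T L hT hL)
    fun T L hT hL => (Category.comp_id _).symm
  have hmulη : ∀ (T : Over S) (a b : T ⟶ J), (a * b) ≫ η' = (a ≫ η') * (b ≫ η') := by
    intro T a b
    rw [← ψ.natural (a * b) Lx trivial trivial hok (hp _), ← ψ.natural a Lx trivial trivial hok (hp _),
      ← ψ.natural b Lx trivial trivial hok (hp _)]
    refine hJ.mul T trivial _ _ _ (hp a) (hp b) (hp _)
      ((cls_eq_cls (isInvertible_pullback _ hLx) (isInvertible_tensor (isInvertible_pullback _ hLx)
        (isInvertible_pullback _ hLx))).1 ?_)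
    rw [cls_tensor (isInvertible_pullback _ hLx) (isInvertible_pullback _ hLx), ← pull_cls _ hLx, ← pull_cls _ hLx,
      ← pull_cls _ hLx, hx]
    exact hmul T a b
  have hone : η[J] ≫ η' = η[J'] := by
    have h := hmulη (𝟙_ _) 1 1
    rw [_root_.one_mul] at h
    have h' := mul_left_cancel ((_root_.mul_one _).trans h)
    rw [Hom.one_def, Hom.one_def, show toUnit (𝟙_ (Over S)) = 𝟙 _ from Subsingleton.elim _ _, Category.id_comp,
      Category.id_comp] at h'
    exact h'.symm
  refine ⟨⟨η', θ, h1, h2⟩, ⟨hone, ?_⟩, key⟩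
  show μ[J] ≫ η' = (η' ⊗ₘ η') ≫ μ[J']
  rw [MonObj.mul_eq_mul, hmulη, MonObj.mul_eq_mul, MonObj.comp_mul, tensorHom_fst, tensorHom_snd]

end PicDeg

section Base

variable {C S : Scheme.{u}} (f : C ⟶ S)

theorem pull_idealMod_ker_of_iso {X Y Z : Scheme.{u}} (q : X ⟶ Y) [IsIso q] (s : Z ⟶ X) [IsClosedImmersion s]
    (h : PicF.IsInvertible (ClSub.idealMod (s ≫ q).ker)) (h' : PicF.IsInvertible (ClSub.idealMod s.ker)) :
    pull q (cls h) = cls h' := by
  haveI : IsClosedImmersion (s ≫ q) := inferInstance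
  haveI : IsIso (s ≫ q).toImage := inferInstance
  have hι : (s ≫ q).toImage ≫ (s ≫ q).ker.subschemeι = s ≫ q := (s ≫ q).toImage_imageι
  have hsq : IsPullback s (𝟙 Z) q (s ≫ q) := IsPullback.of_vert_isIso ⟨by simp⟩
  have hsq' : IsPullback s (s ≫ q).toImage q (s ≫ q).ker.subschemeι :=
    hsq.of_iso (Iso.refl _) (Iso.refl _) (asIso (s ≫ q).toImage) (Iso.refl _) (by simp) (by simp)
      (by simp) (by simp [hι])
  have hcomap : (s ≫ q).ker.comap q = s.ker := by
    show (pullback.fst q (s ≫ q).ker.subschemeι).ker = _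
    refine Eq.trans ?_ (congrArg Scheme.Hom.ker hsq'.isoPullback_hom_fst)
    exact (Scheme.Hom.ker_comp_of_isIso _ _).symm
  obtain ⟨e⟩ := nonempty_iso_pullback_idealMod q _ ((Groth.Agent.S8914.result _).1 h)
    (by rw [hcomap]; exact (Groth.Agent.S8914.result _).1 h')
  rw [pull_cls]
  exact (cls_eq_cls _ _).2 ⟨e ≪≫ eqToIso (by rw [hcomap])⟩

variable [IsSeparated f] [SmoothOfRelativeDimension 1 f] (σ : S ⟶ C) (hσ : σ ≫ f = 𝟙 S)

/-- The class of the base point is constant. -/
theorem pt_basePt (T : Over S) :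
    pt f (basePt f σ hσ T) = (pull (pullback.fst f T.hom) (cls (isInvertible_ker_of_section f σ hσ)))⁻¹ := by
  let U : Over S := Over.mk (𝟙 S)
  let g : T ⟶ U := Over.homMk T.hom (Category.comp_id _)
  let q : C ⟶ PicF.XT f U := pullback.lift (𝟙 C) f (by show 𝟙 C ≫ f = f ≫ 𝟙 S; simp)
  have hqi : pullback.fst f U.hom ≫ q = 𝟙 _ := by
    apply pullback.hom_ext
    · rw [Category.assoc, pullback.lift_fst, Category.comp_id, Category.id_comp]
    · rw [Category.assoc, pullback.lift_snd, Category.id_comp, pullback.condition]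
      exact Category.comp_id _
  haveI : IsIso q := ⟨pullback.fst f U.hom, pullback.lift_fst _ _ _, hqi⟩
  haveI : IsClosedImmersion σ := isClosedImmersion_of_section f σ hσ
  have hgr : graph f (basePt f σ hσ U) = σ ≫ q := by
    apply pullback.hom_ext
    · rw [graph, pullback.lift_fst, Category.assoc, pullback.lift_fst, Category.comp_id]
      exact Category.id_comp σ
    · rw [graph, pullback.lift_snd, Category.assoc, pullback.lift_snd, hσ]
      rfl
  have hI : PicF.IsInvertible (ClSub.idealMod (σ ≫ q).ker) := by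
    haveI := smoothOfRelativeDimension_isStableUnderBaseChange (n := 1)
    haveI : SmoothOfRelativeDimension 1 (pullback.snd f U.hom) :=
      MorphismProperty.pullback_snd (P := @SmoothOfRelativeDimension 1) f U.hom inferInstance
    rw [← hgr]
    exact isInvertible_ker_of_section (pullback.snd f U.hom) _ (pullback.lift_snd _ _ _)
  have h1 : pull q (pt f (basePt f σ hσ U)) = (cls (isInvertible_ker_of_section f σ hσ))⁻¹ := by
    have e := pt_eq f (basePt f σ hσ U) (by rw [hgr]; exact hI)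
    rw [e, map_inv]
    congr 1
    rw [← pull_idealMod_ker_of_iso q σ hI]
    congr 1
    exact cls_ideal_congr (by rw [hgr]) _ _
  rw [← comp_basePt f σ hσ g, ← pt_comp, ← map_inv, ← h1, ← pull_comp]
  refine congrArg (fun φ => pull φ _) ?_
  have hm : PicF.XTmap f g ≫ pullback.fst f U.hom = pullback.fst f T.hom := by
    simp [PicF.XTmap, pullback.map]
  rw [← hm, Category.assoc, hqi, Category.comp_id]

theorem cls_of_isAJFamilyAt {L : (PicF.XT f (Over.mk f)).Modules} (hAJ : Jac.IsAJFamilyAt f σ L) :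
    cls hAJ.1 = pt f (𝟙 (Over.mk f)) / pt f (basePt f σ hσ (Over.mk f)) := by
  obtain ⟨hL, e⟩ := hAJ
  have h := (cls_eq_cls (isInvertible_tensor hL (isInvertible_diag f))
    (isInvertible_pullback (pullback.fst f f) (isInvertible_ker_of_section f σ hσ))).2 e
  rw [pt_basePt, pt, XTmap_id, pull_id, dClass, div_inv_eq_mul]
  rw [cls_tensor hL (isInvertible_diag f), ← pull_cls _ (isInvertible_ker_of_section f σ hσ)] at h
  exact eq_inv_mul_iff_mul_eq.2 ((_root_.mul_comm _ _).trans h)

end Base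

end Groth.Agent.JacLib
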