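import Groth.Agent.JacLib.AlbaneseCoarse

/-!
# Divisorial correspondences and homomorphisms of Jacobians
-/

set_option autoImplicit false
set_option backward.isDefEq.respectTransparency false
set_option backward.isDefEq.respectTransparency.types false
set_option linter.style.haveILetI false
set_option linter.unusedSectionVars false
set_option maxHeartbeats 1000000

universe u

open CategoryTheory CategoryTheory.Limits AlgebraicGeometry TopologicalSpace MonObj MonoidalCategory CartesianMonoidalCategory
open Groth.Agent.PicLib Groth.Agent.AbDualLib Groth.Agent.PicRepLib Groth.Agent.AmpleLib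

noncomputable section

namespace Groth.Agent.JacLib

variable {C S : Scheme.{u}} {f : C ⟶ S} [IsProper f] [Smooth f] [GeometricallyConnected f]
  (hdim : ∀ s : S, topologicalKrullDim ↥(f.fiber s) = 1)

include hdim in
/-- On a connected base a class which is trivial over one point has degree zero everywhere. -/
theorem isPZc_of_connected {T T' : Over S} [ConnectedSpace T.left] [Nonempty T'.left] (g : T' ⟶ T)
    {a : Pic (PicF.XT f T)} (h : IsPZc f T' (pull (PicF.XTmap f g) a)) : IsPZc f T a := by
  obtain ⟨L, hL, rfl⟩ := exists_cls a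
  rw [pull_cls, isPZc_iff f hdim] at h
  haveI : SmoothOfRelativeDimension 1 f := smoothOfRelativeDimension_one f hdim
  haveI : IsProper (PicF.XTproj f T) := MorphismProperty.pullback_snd _ _ inferInstance
  haveI : Smooth (PicF.XTproj f T) := MorphismProperty.pullback_snd _ _ inferInstance
  obtain ⟨t⟩ := ‹Nonempty T'.left›
  have h0 := h t
  rw [PicDegLib.deg_XTmap g hL] at h0
  refine (isPZc_iff f hdim T hL).2 fun u => ?_
  rw [← h0]
  exact (PicDegLib.isLocallyConstant_deg (PicF.XTproj f T)
    (fun y => (dim_fibre hdim y).le.trans (le_of_eq (by rfl))) hL).apply_eq_of_preconnectedSpace u _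

theorem isTrivialCl_toCl {Y : Scheme.{u}} (a : Pic Y) : PicF.IsTrivialCl (toCl a) ↔ a = 1 :=
  ⟨fun h => toCl_injective h, fun h => by rw [h]; rfl⟩

variable {σ : S ⟶ C} {hσ : σ ≫ f = 𝟙 S} {J₀ J : Over S} {x : Pic (PicF.XT f J₀)} (hF : FineJac σ hσ J₀ x) (e : J₀ ≅ J)
  {ψ : (ModFun.PicDeg f 0).Hom ⊤ J}
  (hψ : ∀ (T : Over S) (L : (PicF.XT f T).Modules) (hT : (⊤ : ObjectProperty (Over S)) T)
      (hL : (ModFun.PicDeg f 0).ok T L), ψ.app T L hT hL = clfApp hdim hF T L hL ≫ e.hom)

include hψ in
/-- A normalised family classified by the identity gives the universal class. -/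
theorem pullCl_universal {Pu : (PicF.XT f J).Modules} (hok : (ModFun.PicDeg f 0).ok J Pu)
    (hT : (⊤ : ObjectProperty (Over S)) J) (hid : ψ.app J Pu hT hok = 𝟙 J) (hn : Jac.IsNormAlong f σ hσ J Pu)
    {T : Over S} (g : T ⟶ J) :
    PicF.pullCl (PicF.XTmap f g) (PicF.cl Pu) = toCl (pull (PicF.XTmap f (g ≫ e.inv)) x) := by
  obtain ⟨hPu, -⟩ := (picDeg_ok_iff hdim).1 hok
  have h1 : clfApp hdim hF J Pu hok = e.inv := by
    rw [← cancel_mono e.hom, ← hψ J Pu hT hok, hid, Iso.inv_hom_id]
  have hr : pull (PicF.secT f σ hσ J) (cls hPu) = 1 := by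
    refine (isTrivialCl_toCl _).1 ?_
    rw [toCl_pull]
    exact hn
  have h2 := clfApp_spec hdim hF hok hPu
  rw [h1, rig_eq_self hr] at h2
  rw [← InvDescLib.pull_XTmap_XTmap e.inv g rfl, h2, toCl_pull]
  rfl

end Groth.Agent.JacLib
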