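import Groth.Agent.JacLib.PicZero
import Groth.Agent.InvDescLib.Rig
import Groth.Agent.SchDesc.Local

/-!
# Descent of a universal rigidified class of degree zero along an fpqc morphism
-/

set_option autoImplicit false
set_option backward.isDefEq.respectTransparency false
set_option backward.isDefEq.respectTransparency.types false
set_option linter.style.haveILetI false
set_option linter.unusedSectionVars false
set_option maxHeartbeats 1000000

universe u

open CategoryTheory CategoryTheory.Limits AlgebraicGeometry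
open Groth.Agent.PicLib Groth.Agent.AbDualLib

noncomputable section

namespace Groth.Agent.JacLib.Desc

variable {C S S' : Scheme.{u}} {f : C ⟶ S} {σ : S ⟶ C} {hσ : σ ≫ f = 𝟙 S} {p : S' ⟶ S} {J' : Over S'}
  (xU : Pic (PicF.XT f ((Over.map p).obj J')))

/-- A point of the scheme over the new base as a point over the old one. -/
abbrev toP {T : Scheme.{u}} (q : T ⟶ S) (v : T ⟶ J'.left) (hv : v ≫ J'.hom ≫ p = q) :
    Over.mk q ⟶ (Over.map p).obj J' := Over.homMk v hv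

/-- The class attached to a point. -/
def cl {T : Scheme.{u}} (q : T ⟶ S) (v : T ⟶ J'.left) (hv : v ≫ J'.hom ≫ p = q) :
    Pic (PicF.XT f (Over.mk q)) := pull (PicF.XTmap f (toP q v hv)) xU

theorem cl_comp {T T' : Scheme.{u}} (g : T' ⟶ T) {q : T ⟶ S} {q' : T' ⟶ S} (hg : g ≫ q = q') (v : T ⟶ J'.left)
    (hv : v ≫ J'.hom ≫ p = q) :
    pull (PicF.XTmap f (Over.homMk g hg : Over.mk q' ⟶ Over.mk q)) (cl xU q v hv) =
      cl xU q' (g ≫ v) (by rw [Category.assoc, hv, hg]) :=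
  InvDescLib.pull_XTmap_XTmap (toP q v hv) _ (Over.OverMorphism.ext rfl) xU

/-- Two points with the same class. -/
def Rel {T : Scheme.{u}} (v w : T ⟶ J'.left) : Prop :=
  ∃ (q : T ⟶ S) (hv : v ≫ J'.hom ≫ p = q) (hw : w ≫ J'.hom ≫ p = q), cl xU q v hv = cl xU q w hw

theorem rel_refl {T : Scheme.{u}} (v : T ⟶ J'.left) : Rel xU v v := ⟨_, rfl, rfl, rfl⟩

variable {xU}

theorem Rel.symm {T : Scheme.{u}} {v w : T ⟶ J'.left} (h : Rel xU v w) : Rel xU w v := by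
  obtain ⟨q, hv, hw, e⟩ := h
  exact ⟨q, hw, hv, e.symm⟩

theorem Rel.trans {T : Scheme.{u}} {u v w : T ⟶ J'.left} (h : Rel xU u v) (h' : Rel xU v w) : Rel xU u w := by
  obtain ⟨q, hu, hv, e⟩ := h
  obtain ⟨q', hv', hw, e'⟩ := h'
  obtain rfl : q = q' := hv.symm.trans hv'
  exact ⟨q, hu, hw, e.trans e'⟩

theorem Rel.comp {T T' : Scheme.{u}} (g : T' ⟶ T) {v w : T ⟶ J'.left} (h : Rel xU v w) :
    Rel xU (g ≫ v) (g ≫ w) := by
  obtain ⟨q, hv, hw, e⟩ := h
  refine ⟨g ≫ q, by rw [Category.assoc, hv], by rw [Category.assoc, hw], ?_⟩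
  rw [← cl_comp xU g rfl v hv, ← cl_comp xU g rfl w hw, e]

theorem Rel.eq_cl {T : Scheme.{u}} {v w : T ⟶ J'.left} (h : Rel xU v w) (q : T ⟶ S) (hv : v ≫ J'.hom ≫ p = q)
    (hw : w ≫ J'.hom ≫ p = q) : cl xU q v hv = cl xU q w hw := by
  obtain ⟨q', hv', hw', e⟩ := h
  obtain rfl : q' = q := hv'.symm.trans hv
  exact e

variable [IsProper f] [Smooth f] [GeometricallyConnected f]

variable (σ hσ xU) in
/-- The class over the new base is universal. -/
structure IsUniv : Prop where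
  dim : ∀ s : S, topologicalKrullDim ↥(f.fiber s) = 1
  rigid : pull (PicF.secT f σ hσ ((Over.map p).obj J')) xU = 1
  pz : IsPZc f ((Over.map p).obj J') xU
  univ : ∀ (T : Over S') (a : Pic (PicF.XT f ((Over.map p).obj T))),
    pull (PicF.secT f σ hσ ((Over.map p).obj T)) a = 1 → IsPZc f _ a →
      ∃! g : T ⟶ J', pull (PicF.XTmap f ((Over.map p).map g)) xU = a

variable (hU : IsUniv σ hσ xU)
include hU

theorem existsUnique_lift {T : Scheme.{u}} (x : T ⟶ S') (q : T ⟶ S) (hq : x ≫ p = q)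
    (a : Pic (PicF.XT f (Over.mk q))) (ha : pull (PicF.secT f σ hσ (Over.mk q)) a = 1)
    (hz : IsPZc f (Over.mk q) a) :
    ∃! v : _root_.Desc.Lifts J' x, cl xU q v.1 (by rw [← Category.assoc, v.2, hq]) = a := by
  subst hq
  obtain ⟨g, hg, hg'⟩ := hU.univ (Over.mk x) a ha hz
  refine ⟨⟨g.left, Over.w g⟩, ?_, fun v hv => ?_⟩
  · rw [← hg]; rfl
  · have := hg' (Over.homMk v.1 v.2) (by rw [← hv]; rfl)
    exact Subtype.ext (congrArg CommaMorphism.left this)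

theorem rigid_cl {T : Scheme.{u}} (q : T ⟶ S) (v : T ⟶ J'.left) (hv : v ≫ J'.hom ≫ p = q) :
    pull (PicF.secT f σ hσ (Over.mk q)) (cl xU q v hv) = 1 := InvDescLib.rigid_XTmap _ hU.rigid

theorem pz_cl {T : Scheme.{u}} (q : T ⟶ S) (v : T ⟶ J'.left) (hv : v ≫ J'.hom ≫ p = q) :
    IsPZc f (Over.mk q) (cl xU q v hv) := isPZc_pull f hU.dim _ hU.pz

theorem exists_rel {T : Scheme.{u}} (v : T ⟶ J'.left) (x : T ⟶ S') (h : v ≫ J'.hom ≫ p = x ≫ p) :
    ∃ w : _root_.Desc.Lifts J' x, Rel xU v w.1 := by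
  obtain ⟨w, hw, -⟩ := existsUnique_lift hU x _ h.symm (cl xU _ v rfl) (rigid_cl hU _ _ _) (pz_cl hU _ _ _)
  exact ⟨w, _, rfl, _, hw.symm⟩

theorem rel_unique {T : Scheme.{u}} {v w w' : T ⟶ J'.left} (h : Rel xU v w) (h' : Rel xU v w')
    (e : w ≫ J'.hom = w' ≫ J'.hom) : w = w' := by
  obtain ⟨q, hw, hw', he⟩ := h.symm.trans h'
  have := (existsUnique_lift hU (w ≫ J'.hom) q (by rw [Category.assoc, hw]) (cl xU q w' hw')
    (rigid_cl hU _ _ _) (pz_cl hU _ _ _)).unique (y₁ := ⟨w, rfl⟩) (y₂ := ⟨w', e.symm⟩) he rfl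
  exact congrArg Subtype.val this

omit hU in
theorem shift_aux {T : Scheme.{u}} {x₀ x₁ : T ⟶ S'} (h : x₀ ≫ p = x₁ ≫ p) (v : _root_.Desc.Lifts J' x₀) :
    v.1 ≫ J'.hom ≫ p = x₁ ≫ p := by rw [← Category.assoc, v.2, h]

/-- Transport of a point. -/
def shift {T : Scheme.{u}} {x₀ x₁ : T ⟶ S'} (h : x₀ ≫ p = x₁ ≫ p) (v : _root_.Desc.Lifts J' x₀) :
    _root_.Desc.Lifts J' x₁ := (exists_rel hU v.1 x₁ (shift_aux h v)).choose

theorem rel_shift {T : Scheme.{u}} {x₀ x₁ : T ⟶ S'} (h : x₀ ≫ p = x₁ ≫ p) (v : _root_.Desc.Lifts J' x₀) :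
    Rel xU v.1 (shift hU h v).1 := (exists_rel hU v.1 x₁ (shift_aux h v)).choose_spec

theorem eq_shift {T : Scheme.{u}} {x₀ x₁ : T ⟶ S'} (h : x₀ ≫ p = x₁ ≫ p) (v : _root_.Desc.Lifts J' x₀)
    (w : _root_.Desc.Lifts J' x₁) (hr : Rel xU v.1 w.1) : shift hU h v = w :=
  Subtype.ext (rel_unique hU (rel_shift hU h v) hr ((shift hU h v).2.trans w.2.symm))

/-- The descent datum. -/
def datum : _root_.Desc.SchDD p where
  obj := J'
  φ T x₀ x₁ h :=
    { toFun := shift hU h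
      invFun := shift hU h.symm
      left_inv := fun v => eq_shift hU _ _ v (rel_shift hU h v).symm
      right_inv := fun w => eq_shift hU _ _ w (rel_shift hU h.symm w).symm }
  φ_natural T T' g x₀ x₁ h h' v v' hv' :=
    congrArg Subtype.val (eq_shift hU h' v' ⟨g ≫ (shift hU h v).1, by rw [Category.assoc, (shift hU h v).2]⟩
      (by rw [hv']; exact (rel_shift hU h v).comp g))
  φ_self T x v := eq_shift hU rfl v v (rel_refl xU _)
  φ_comp T x₀ x₁ x₂ h₀₁ h₁₂ v :=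
    (eq_shift hU (h₀₁.trans h₁₂) v (shift hU h₁₂ (shift hU h₀₁ v)) ((rel_shift hU h₀₁ v).trans (rel_shift hU h₁₂ (shift hU h₀₁ v)))).symm

theorem rel_move {T : Scheme.{u}} (v : T ⟶ J'.left) (x : T ⟶ S') (h : v ≫ J'.hom ≫ p = x ≫ p) :
    Rel xU v (SchDesc.move (datum hU) v x h) := by
  have h' : (v ≫ J'.hom) ≫ p = x ≫ p := by rw [Category.assoc]; exact h
  have := rel_shift hU h' ⟨v, rfl⟩
  rwa [show shift hU h' ⟨v, rfl⟩ = (datum hU).φ (v ≫ J'.hom) x h' ⟨v, rfl⟩ from rfl,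
    SchDesc.φ_eq_move] at this

theorem eq_move {T : Scheme.{u}} {v w : T ⟶ J'.left} (hr : Rel xU v w) {x : T ⟶ S'} (hw : w ≫ J'.hom = x)
    (h : v ≫ J'.hom ≫ p = x ≫ p) : SchDesc.move (datum hU) v x h = w :=
  rel_unique hU (rel_move hU v x h) hr ((SchDesc.move_hom (datum hU) v x h).trans hw.symm)

end Groth.Agent.JacLib.Desc
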