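import Groth.Agent.JacLib.DescRep
import Groth.Agent.JacLib.JacPoints
import Groth.Agent.SchDesc.IndQAFpqc
import Groth.Agent.SchDesc.Finite
import Mathlib.AlgebraicGeometry.AlgClosed.Basic

/-!
# Orbits of closed points under the descent datum are finite
-/

set_option autoImplicit false
set_option backward.isDefEq.respectTransparency false
set_option backward.isDefEq.respectTransparency.types false
set_option linter.style.haveILetI false
set_option linter.unusedSectionVars false
set_option maxHeartbeats 1000000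

universe u

open CategoryTheory CategoryTheory.Limits AlgebraicGeometry TopologicalSpace
open Groth.Agent.PicLib Groth.Agent.AbDualLib Groth.Agent.SchDesc

noncomputable section

namespace Groth.Agent.JacLib.Desc

attribute [local instance] Curv2.stalkAlgebra
attribute [local instance high] FunFld.Place.algRes

/-- A geometric class of degree zero comes from a tuple of points. -/
theorem exists_tuple {C S : Scheme.{u}} (f : C ⟶ S) [IsProper f] [Smooth f] [GeometricallyConnected f]
    [SmoothOfRelativeDimension 1 f] (hdim : ∀ s : S, topologicalKrullDim ↥(f.fiber s) = 1)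
    (e : S ⟶ C) (he : e ≫ f = 𝟙 S) {Ω : Type u} [Field Ω] [IsAlgClosed Ω] (τ : Spec (CommRingCat.of Ω) ⟶ S)
    {a : Pic (PicF.XT f (Over.mk τ))} (ha : IsPZc f (Over.mk τ) a) :
    ∃ (n : ℕ) (w : Over.mk τ ⟶ pow f n), pull (PicF.XTmap f w) (fam0 f e he n) = a := by
  classical
  letI : (PicF.XT f (Over.mk τ)).Over (Spec (CommRingCat.of Ω)) := ⟨PicF.XTproj f (Over.mk τ)⟩
  haveI : IsProper (PicF.XT f (Over.mk τ) ↘ Spec (CommRingCat.of Ω)) := isProper_XT f τ
  haveI : Smooth (PicF.XT f (Over.mk τ) ↘ Spec (CommRingCat.of Ω)) := smooth_XT f τ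
  haveI : GeometricallyConnected (PicF.XT f (Over.mk τ) ↘ Spec (CommRingCat.of Ω)) := geometricallyConnected_XT f τ
  have hd := dim_XT f τ hdim
  obtain ⟨hint, hreg, h0⟩ := setup_of_smooth_connected Ω (PicF.XT f (Over.mk τ)) hd
  haveI := hint; haveI := hreg
  obtain ⟨L, hL, rfl⟩ := exists_cls a
  have hdegL : Curv2.deg Ω (PicF.XT f (Over.mk τ)) L 1 = 0 :=
    (deg_eq hd.le hL (IsLocalRing.closedPoint Ω)).symm.trans ((isPZc_iff f hdim _ hL).1 ha _)
  let n := Curv2.genus Ω (PicF.XT f (Over.mk τ))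
  let b := basePt f e he (Over.mk τ)
  obtain ⟨D, hD⟩ := exists_hasDiv hd h0 (cls hL)
  have hDd : D.deg = 0 := (deg_of_hasDiv hd h0 hL hD).symm.trans hdegL
  have hb := hasDiv_prod hd (Finset.univ : Finset (Fin n)) _ _ fun _ =>
    hasDiv_ptc hd h0 (pointClosed f τ b).1 (pointClosed f τ b).2
  simp only [← pt_eq_ptc, Finset.prod_const, Finset.card_univ, Fintype.card_fin] at hb
  obtain ⟨N, hN, hNc⟩ := exists_cls (cls hL * pt f b ^ n)
  have hNd : Curv2.deg Ω (PicF.XT f (Over.mk τ)) N 1 = n := by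
    rw [deg_of_hasDiv hd h0 hN (hNc ▸ hasDiv_mul hd hD hb), FF.deg_add, hDd, deg_eq_card hd h0, zero_add]
  obtain ⟨x, hx⟩ := exists_eq_prod_pt f τ hd h0 hN n hNd le_rfl
  exact ⟨n, tuple f n x, by rw [pull_tuple_fam0, ← hx, hNc, mul_div_cancel_right]⟩

/-- A field valued point over a closed point is the constant point. -/
theorem eq_comp_point {Ω : Type u} [Field Ω] [IsAlgClosed Ω] {X : Scheme.{u}} (g : X ⟶ Spec (CommRingCat.of Ω))
    [LocallyOfFiniteType g] {v : X} (hv : IsClosed ({v} : Set X)) {K : Type u} [Field K]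
    (m : Spec (CommRingCat.of K) ⟶ X) (hm : m (IsLocalRing.closedPoint K) = v) :
    m = (m ≫ g) ≫ pointOfClosedPoint g v hv := by
  subst hm
  have h1 : X.fromSpecResidueField (m (IsLocalRing.closedPoint K)) =
      (X.fromSpecResidueField _ ≫ g) ≫ pointOfClosedPoint g _ hv := by
    rw [← SpecMap_residueFieldIsoBase_inv g _ hv, pointOfClosedPoint, ← Category.assoc, ← Spec.map_comp,
      Iso.hom_inv_id, Spec.map_id, Category.id_comp]
  obtain ⟨a, ha⟩ : ∃ a, Spec.map a ≫ X.fromSpecResidueField (m (IsLocalRing.closedPoint K)) = m :=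
    ⟨_, Scheme.descResidueField_stalkClosedPointTo_fromSpecResidueField K X m⟩
  calc m = Spec.map a ≫ X.fromSpecResidueField _ := ha.symm
    _ = Spec.map a ≫ (X.fromSpecResidueField _ ≫ g) ≫ pointOfClosedPoint g _ hv := congrArg (Spec.map a ≫ ·) h1
    _ = (m ≫ g) ≫ pointOfClosedPoint g _ hv := by
      rw [← Category.assoc (Spec.map a), ← Category.assoc (Spec.map a), ha]

variable {k : Type u} [Field k] {Ω : Type u} [Field Ω] [IsAlgClosed Ω] [Algebra k Ω] [Algebra.IsAlgebraic k Ω]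
  {C : Scheme.{u}} {f : C ⟶ Spec (CommRingCat.of k)} {σ : Spec (CommRingCat.of k) ⟶ C} {hσ : σ ≫ f = 𝟙 _}
  [IsProper f] [Smooth f] [GeometricallyConnected f]
  {J' : Over (Spec (CommRingCat.of Ω))} [LocallyOfFiniteType J'.hom] [IsSeparated J'.hom]
  {xU : Pic (PicF.XT f ((Over.map (Spec.map (CommRingCat.ofHom (algebraMap k Ω)))).obj J'))}
  (hU : IsUniv σ hσ xU)

include hU in
/-- The orbit of a closed point is finite and consists of closed points. -/
theorem exists_finite_orbit (v : J'.left) (hv : IsClosed ({v} : Set J'.left)) :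
    ∃ F : Set J'.left, F.Finite ∧ (∀ z ∈ F, IsClosed ({z} : Set J'.left)) ∧
      ∀ t, pullback.fst ((datum hU).obj.hom ≫ Spec.map (CommRingCat.ofHom (algebraMap k Ω)))
          (Spec.map (CommRingCat.ofHom (algebraMap k Ω))) t = v → act (datum hU) t ∈ F := by
  classical
  let p : Spec (CommRingCat.of Ω) ⟶ Spec (CommRingCat.of k) := Spec.map (CommRingCat.ofHom (algebraMap k Ω))
  haveI : SmoothOfRelativeDimension 1 f := smoothOfRelativeDimension_one f hU.dim
  let vh := pointOfClosedPoint J'.hom v hv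
  have hvh : vh ≫ J'.hom ≫ p = p := by rw [pointOfClosedPoint_comp_assoc]
  obtain ⟨n, w0, hw0⟩ := exists_tuple f hU.dim σ hσ p (pz_cl hU p vh hvh)
  -- an affine chart around the point of the power of the curve
  let z := w0.left (IsLocalRing.closedPoint Ω)
  obtain ⟨_, ⟨V, hV, rfl⟩, hzV, -⟩ :=
    (pow f n).left.isBasis_affineOpens.exists_subset_of_mem_open (Set.mem_univ z) isOpen_univ
  replace hV : IsAffineOpen V := hV
  let R : CommRingCat.{u} := Γ((pow f n).left, V)
  let ι : Spec R ⟶ (pow f n).left := hV.fromSpec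
  let sR : Spec R ⟶ Spec (CommRingCat.of k) := ι ≫ (pow f n).hom
  letI : Algebra k R := (Spec.preimage sR).hom.toAlgebra
  have hsR : Spec.map (CommRingCat.ofHom (algebraMap k R)) = sR := Spec.map_preimage sR
  haveI : Algebra.FiniteType k R := by
    have h : LocallyOfFiniteType sR := inferInstance
    rw [← hsR, HasRingHomProperty.Spec_iff (P := @LocallyOfFiniteType)] at h
    exact RingHom.finiteType_algebraMap.mp h
  have hr : Set.range w0.left ⊆ Set.range ι := by
    rw [IsAffineOpen.range_fromSpec]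
    rintro _ ⟨y, rfl⟩
    rwa [show y = IsLocalRing.closedPoint Ω from Subsingleton.elim (α := PrimeSpectrum Ω) _ _]
  obtain ⟨φ0, hφ0⟩ : ∃ φ, Spec.map φ = IsOpenImmersion.lift ι w0.left hr := ⟨_, Spec.map_preimage _⟩
  have hφι : Spec.map φ0 ≫ ι = w0.left := by rw [hφ0, IsOpenImmersion.lift_fac]
  have hcompat : ∀ {K : CommRingCat.{u}} (φ : R ⟶ K) (q : Spec K ⟶ Spec (CommRingCat.of k)),
      Spec.map φ ≫ sR = q ↔ CommRingCat.ofHom (algebraMap k R) ≫ φ = Spec.preimage q := fun φ q => by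
    rw [← Spec.map_inj, Spec.map_comp, hsR, Spec.map_preimage]
  have hφ0k : CommRingCat.ofHom (algebraMap k R) ≫ φ0 = CommRingCat.ofHom (algebraMap k Ω) := by
    rw [(hcompat φ0 p).1 (by
      show Spec.map φ0 ≫ ι ≫ (pow f n).hom = p
      rw [reassoc_of% hφι]; exact Over.w w0), Spec.preimage_map]
  let ψ0 : R →ₐ[k] Ω := { φ0.hom with
    commutes' := fun c => congrArg (fun a : CommRingCat.of k ⟶ CommRingCat.of Ω => a.hom c) hφ0k }
  -- the finitely many candidates
  let 𝔭 := RingHom.ker ψ0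
  haveI : IsDomain ψ0.range := inferInstance
  haveI : Algebra.IsIntegral k ψ0.range := ⟨fun y => by
    have : IsIntegral k (y : Ω) := (Algebra.IsAlgebraic.isAlgebraic (y : Ω)).isIntegral
    exact (isIntegral_algHom_iff ψ0.range.val Subtype.val_injective).1 this⟩
  haveI : Algebra.FiniteType k ψ0.range :=
    Algebra.FiniteType.of_surjective ψ0.rangeRestrict (AlgHom.rangeRestrict_surjective ψ0)
  haveI : Module.Finite k ψ0.range := Algebra.IsIntegral.finite
  let wf : (ψ0.range →ₐ[k] Ω) → (Over.mk p ⟶ pow f n) := fun β =>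
    Over.homMk (Spec.map (CommRingCat.ofHom (β.comp ψ0.rangeRestrict).toRingHom) ≫ ι) (by
      rw [Category.assoc]
      refine (hcompat _ p).2 ?_
      rw [Spec.preimage_map]
      exact CommRingCat.hom_ext (β.comp ψ0.rangeRestrict).comp_algebraMap)
  have hc : ∀ β, ∃! u : _root_.Desc.Lifts J' (𝟙 (Spec (CommRingCat.of Ω))),
      cl xU p u.1 (by rw [← Category.assoc, u.2, Category.id_comp]) = pull (PicF.XTmap f (wf β)) (fam0 f σ hσ n) :=
    fun β => existsUnique_lift hU (𝟙 _) p (Category.id_comp p) _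
      (eq_one_of_local (R := CommRingCat.of Ω) _) (isPZc_pull f hU.dim _ (isPZc_fam0 f hU.dim σ hσ n))
  choose w hw using hc
  refine ⟨Set.range fun β => (w β).1 (IsLocalRing.closedPoint Ω), Set.finite_range _, ?_, fun t ht => ?_⟩
  · rintro _ ⟨β, rfl⟩
    letI : J'.left.Over (Spec (CommRingCat.of Ω)) := ⟨J'.hom⟩
    haveI : IsSeparated (J'.left ↘ Spec (CommRingCat.of Ω)) := ‹IsSeparated J'.hom›
    exact CurveFF.isClosed_point_of_section (w β).1 (w β).2
  -- the field of the point of the orbit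
  let Y := pullback ((datum hU).obj.hom ≫ p) p
  let K := Y.residueField t
  let e : Spec K ⟶ Y := Y.fromSpecResidueField t
  let m : Spec K ⟶ J'.left := e ≫ pullback.fst _ p
  have hm : m = (m ≫ J'.hom) ≫ vh := eq_comp_point J'.hom hv m (by
    show (e ≫ pullback.fst _ p) _ = v
    rw [Scheme.Hom.comp_apply, Scheme.fromSpecResidueField_apply]
    exact ht)
  let x1 : Spec K ⟶ Spec (CommRingCat.of Ω) := e ≫ pullback.snd _ p
  have hq : m ≫ J'.hom ≫ p = x1 ≫ p := by
    show (e ≫ pullback.fst _ p) ≫ (datum hU).obj.hom ≫ p = (e ≫ pullback.snd _ p) ≫ p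
    rw [Category.assoc, pullback.condition, Category.assoc]
  let a0 := Spec.preimage (m ≫ J'.hom)
  let a1 := Spec.preimage x1
  letI : Algebra k K := (a1.hom.comp (algebraMap k Ω)).toAlgebra
  letI : Algebra Ω K := a1.hom.toAlgebra
  haveI : IsScalarTower k Ω K := IsScalarTower.of_algebraMap_eq fun _ => rfl
  have ha : CommRingCat.ofHom (algebraMap k Ω) ≫ a0 = CommRingCat.ofHom (algebraMap k Ω) ≫ a1 := by
    rw [← Spec.map_inj, Spec.map_comp, Spec.map_comp, Spec.map_preimage, Spec.map_preimage, Category.assoc]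
    exact hq
  let A0 : Ω →ₐ[k] K := { a0.hom with
    commutes' := fun c => congrArg (fun a : CommRingCat.of k ⟶ K => a.hom c) ha }
  let A1 : Ω →ₐ[k] K := IsScalarTower.toAlgHom k Ω K
  have hmem : ∀ y : ψ0.range, A0 y ∈ A1.range := fun y => by
    have h : IsIntegral Ω (A0 (y : Ω)) :=
      ((Algebra.IsAlgebraic.isAlgebraic (R := k) (y : Ω)).isIntegral.map A0).tower_top
    obtain ⟨r, hr⟩ := minpoly.degree_eq_one_iff.1
      (IsAlgClosed.degree_eq_one_of_irreducible Ω (minpoly.irreducible h))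
    exact ⟨r, hr⟩
  let β : ψ0.range →ₐ[k] Ω :=
    ((AlgEquiv.ofInjectiveField A1).symm : A1.range →ₐ[k] Ω).comp ((A0.comp ψ0.range.val).codRestrict A1.range hmem)
  have hβ : ∀ y : ψ0.range, A1 (β y) = A0 y := fun y => by
    show A1 ((AlgEquiv.ofInjectiveField A1).symm ⟨_, hmem y⟩) = _
    exact congrArg Subtype.val ((AlgEquiv.ofInjectiveField A1).apply_symm_apply ⟨_, hmem y⟩)
  have hK : (m ≫ J'.hom) ≫ w0.left = x1 ≫ (wf β).left := by
    show _ = x1 ≫ Spec.map _ ≫ ι
    rw [← hφι, ← Spec.map_preimage (m ≫ J'.hom), ← Spec.map_preimage x1, ← Category.assoc, ← Category.assoc,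
      ← Spec.map_comp, ← Spec.map_comp]
    refine congrArg (fun a => Spec.map a ≫ ι) (CommRingCat.hom_ext (RingHom.ext fun r => ?_))
    exact (hβ (ψ0.rangeRestrict r)).symm
  have hrel : Rel xU m (x1 ≫ (w β).1) := by
    have hq₁ : (x1 ≫ (w β).1) ≫ J'.hom ≫ p = x1 ≫ p := by rw [Category.assoc, ← Category.assoc (w β).1, (w β).2, Category.id_comp]
    refine ⟨x1 ≫ p, hq, hq₁, ?_⟩
    have e0 : (m ≫ J'.hom) ≫ p = x1 ≫ p := by rw [Category.assoc]; exact hq
    let g0 : Over.mk (x1 ≫ p) ⟶ Over.mk p := Over.homMk (m ≫ J'.hom) e0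
    let g1 : Over.mk (x1 ≫ p) ⟶ Over.mk p := Over.homMk x1 rfl
    calc cl xU (x1 ≫ p) m hq = pull (PicF.XTmap f g0) (cl xU p vh hvh) := by
          rw [cl_comp xU (m ≫ J'.hom) e0 vh hvh]
          congr 1
      _ = pull (PicF.XTmap f g0) (pull (PicF.XTmap f w0) (fam0 f σ hσ n)) := by rw [hw0]
      _ = pull (PicF.XTmap f g1) (pull (PicF.XTmap f (wf β)) (fam0 f σ hσ n)) := by
          rw [InvDescLib.pull_XTmap_XTmap w0 g0 (l := g1 ≫ wf β) (Over.OverMorphism.ext hK),
            InvDescLib.pull_XTmap_XTmap (wf β) g1 rfl]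
      _ = pull (PicF.XTmap f g1) (cl xU p (w β).1 _) := by rw [(hw β).1]
      _ = cl xU (x1 ≫ p) (x1 ≫ (w β).1) hq₁ := cl_comp xU x1 rfl _ _
  have hact : e ≫ act (datum hU) = x1 ≫ (w β).1 := by
    have h1 := eq_move hU hrel (x := x1) (by rw [Category.assoc, (w β).2, Category.comp_id]) hq
    rw [← h1, move]
    exact congrArg (· ≫ act (datum hU)) (pullback.hom_ext (pullback.lift_fst _ _ _).symm
      (pullback.lift_snd _ _ _).symm)
  refine ⟨β, ?_⟩
  show (w β).1 _ = _
  rw [← Scheme.fromSpecResidueField_apply t (IsLocalRing.closedPoint K), ← Scheme.Hom.comp_apply, hact,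
    Scheme.Hom.comp_apply]
  exact congrArg (w β).1 (Subsingleton.elim (α := PrimeSpectrum Ω) _ _)

end Groth.Agent.JacLib.Desc
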