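import Groth.Agent.JacLib.DescDatum
import Groth.Agent.InvDescLib.RelPic
import Groth.Agent.AbDualLib.Rigid

/-!
# The quotient of the descent datum carries a universal class
-/

set_option autoImplicit false
set_option backward.isDefEq.respectTransparency false
set_option backward.isDefEq.respectTransparency.types false
set_option linter.style.haveILetI false
set_option linter.unusedSectionVars false
set_option maxHeartbeats 1000000

universe u

open CategoryTheory CategoryTheory.Limits AlgebraicGeometry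
open Groth.Agent.PicLib Groth.Agent.AbDualLib Groth.Agent.SchDesc

noncomputable section

namespace Groth.Agent.JacLib.Desc

variable {C S S' : Scheme.{u}} {f : C ⟶ S} {σ : S ⟶ C} {hσ : σ ≫ f = 𝟙 S} {p : S' ⟶ S} {J' : Over S'}
  {xU : Pic (PicF.XT f ((Over.map p).obj J'))} [IsProper f] [Smooth f] [GeometricallyConnected f]
  (hU : IsUniv σ hσ xU)

include hU in
theorem isPZc_of_surjective {T T' : Over S} (g : T' ⟶ T) [Surjective g.left] {a : Pic (PicF.XT f T)}
    (h : IsPZc f T' (pull (PicF.XTmap f g) a)) : IsPZc f T a := by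
  obtain ⟨L, hL, rfl⟩ := exists_cls a
  rw [pull_cls, isPZc_iff f hU.dim] at h
  rw [isPZc_iff f hU.dim T hL]
  intro t
  obtain ⟨t', rfl⟩ := g.left.surjective t
  rw [← PicDegLib.deg_XTmap g hL]
  exact h t'

include hU in
theorem eq_of_cover_fpqc (ha : InvDescLib.UnivConst f) {T : Over S} {U : Scheme.{u}} (u : U ⟶ T.left) [IsFpqc u]
    {a b : Pic (PicF.XT f T)} (h : pull (PicF.secT f σ hσ T) a = 1) (h' : pull (PicF.secT f σ hσ T) b = 1)
    (e : pull (PicF.XTmap f (AbDual.ovrHom T u)) a = pull (PicF.XTmap f (AbDual.ovrHom T u)) b) : a = b :=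
  div_eq_one.1 (InvDescLib.eq_one_of_pull_XTmap (σ := σ) (hσ := hσ) ha u
    (by rw [map_div, h, h', div_self']) (by rw [map_div, e, div_self']))

include hU in
/-- The descended scheme with its universal class. -/
theorem exists_of_quot [IsFpqc p] (ha : InvDescLib.UnivConst f) (Q : Quot (datum hU) ⊤) :
    ∃ (J : Over S) (x : Pic (PicF.XT f J)),
      pull (PicF.secT f σ hσ J) x = 1 ∧ IsPZc f J x ∧
      (∀ (T : Over S) (a : Pic (PicF.XT f T)), pull (PicF.secT f σ hσ T) a = 1 → IsPZc f T a →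
        ∃! g : T ⟶ J, pull (PicF.XTmap f g) x = a) ∧
      ∃ π₀ : J'.left ⟶ J.left, IsPullback J'.hom π₀ p J.hom := by
  let π₀ : J'.left ⟶ Q.U := Q.π₀
  have hpb : IsPullback J'.hom π₀ p Q.str := Q.isPullback₀
  haveI : IsFpqc π₀ := IsFpqc.of_isPullback hpb
  let J : Over S := Over.mk Q.str
  have hrel : ∀ {R : Scheme.{u}} (t t' : R ⟶ J'.left), Rel xU t t' → t ≫ π₀ = t' ≫ π₀ := fun t t' h => by
    obtain ⟨q, ht, ht', -⟩ := id h
    have hx : t ≫ J'.hom ≫ p = (t' ≫ J'.hom) ≫ p := by rw [Category.assoc, ht, ht']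
    have := Q.inv₀ t (t' ≫ J'.hom) hx
    rw [eq_move hU h rfl hx] at this
    exact this.symm
  have hrel' : ∀ {R : Scheme.{u}} (t t' : R ⟶ J'.left), t ≫ π₀ = t' ≫ π₀ → Rel xU t t' := fun t t' h => by
    have hx : t ≫ J'.hom ≫ p = (t' ≫ J'.hom) ≫ p := by
      rw [Category.assoc, hpb.w, reassoc_of% h]
    have hm := rel_move hU t (t' ≫ J'.hom) hx
    have e : move (datum hU) t (t' ≫ J'.hom) hx = t' := by
      refine hpb.hom_ext (move_hom _ _ _ _) ?_
      exact (Q.inv₀ t (t' ≫ J'.hom) hx).trans h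
    rwa [e] at hm
  let iJ : AbDual.ovr J π₀ ⟶ (Over.map p).obj J' := Over.homMk (𝟙 _) (by
    show 𝟙 _ ≫ J'.hom ≫ p = π₀ ≫ Q.str
    rw [Category.id_comp, hpb.w])
  let x₁ := pull (PicF.XTmap f iJ) xU
  have hx₁ : pull (PicF.secT f σ hσ (AbDual.ovr J π₀)) x₁ = 1 := InvDescLib.rigid_XTmap _ hU.rigid
  have hglue : pull (PicF.XTmap f (AbDual.ovrHom (AbDual.ovr J π₀) (pullback.fst π₀ π₀))) x₁ =
      pull (PicF.XTmap f (Over.homMk (pullback.snd π₀ π₀) (pullback.condition_assoc J.hom).symm :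
        AbDual.ovr (AbDual.ovr J π₀) (pullback.fst π₀ π₀) ⟶ AbDual.ovr J π₀)) x₁ := by
    let q : pullback π₀ π₀ ⟶ S := pullback.fst π₀ π₀ ≫ π₀ ≫ Q.str
    have h1 : pullback.fst π₀ π₀ ≫ J'.hom ≫ p = q := congrArg (pullback.fst π₀ π₀ ≫ ·) hpb.w
    have h2 : pullback.snd π₀ π₀ ≫ J'.hom ≫ p = q := by
      show _ = pullback.fst π₀ π₀ ≫ π₀ ≫ Q.str
      rw [hpb.w, ← pullback.condition_assoc]
    have e1 := InvDescLib.pull_XTmap_XTmap (f := f) iJ (AbDual.ovrHom (AbDual.ovr J π₀) (pullback.fst π₀ π₀))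
      (l := toP q _ h1) (Over.OverMorphism.ext (Category.comp_id _)) xU
    have e2 := InvDescLib.pull_XTmap_XTmap (f := f) iJ (Over.homMk (pullback.snd π₀ π₀)
      (pullback.condition_assoc J.hom).symm : AbDual.ovr (AbDual.ovr J π₀) (pullback.fst π₀ π₀) ⟶ AbDual.ovr J π₀)
      (l := toP q _ h2) (Over.OverMorphism.ext (Category.comp_id _)) xU
    exact e1.trans (((hrel' _ _ pullback.condition).eq_cl q h1 h2).trans e2.symm)
  obtain ⟨x, ⟨hx, hxu⟩, -⟩ := InvDescLib.existsUnique_rig_fpqc σ hσ ha J π₀ x₁ hx₁ hglue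
  haveI : Surjective (AbDual.ovrHom J π₀).left := inferInstanceAs (Surjective π₀)
  have hxz : IsPZc f J x := isPZc_of_surjective hU (AbDual.ovrHom J π₀) (by
    rw [hxu]; exact isPZc_pull f hU.dim _ hU.pz)
  refine ⟨J, x, hx, hxz, fun T a hta hza => ?_, π₀, hpb⟩
  let u : pullback T.hom p ⟶ T.left := pullback.fst T.hom p
  let xT : pullback T.hom p ⟶ S' := pullback.snd T.hom p
  haveI : IsFpqc u := IsFpqc.of_isPullback (IsPullback.of_hasPullback T.hom p).flip
  obtain ⟨v, hv, hv'⟩ := existsUnique_lift hU xT (u ≫ T.hom) pullback.condition.symm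
    (pull (PicF.XTmap f (AbDual.ovrHom T u)) a) (InvDescLib.rigid_XTmap _ hta) (isPZc_pull f hU.dim _ hza)
  have hvq : v.1 ≫ J'.hom ≫ p = u ≫ T.hom := by rw [← Category.assoc, v.2]; exact pullback.condition.symm
  have hcl : ∀ {R : Scheme.{u}} (r : R ⟶ pullback T.hom p) (m : R ⟶ T.left) (hm : r ≫ u = m),
      cl xU (m ≫ T.hom) (r ≫ v.1) (by rw [Category.assoc, hvq, ← Category.assoc, hm]) =
        pull (PicF.XTmap f (AbDual.ovrHom T m)) a := by
    intro R r m hm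
    subst hm
    rw [← cl_comp xU r (Category.assoc r u T.hom).symm v.1 hvq, show cl xU (u ≫ T.hom) v.1 hvq =
      pull (PicF.XTmap f (AbDual.ovrHom T u)) a from hv]
    exact InvDescLib.pull_XTmap_XTmap _ _ (Over.OverMorphism.ext rfl) a
  have hg : ∀ {R : Scheme.{u}} (r₁ r₂ : R ⟶ pullback T.hom p), r₁ ≫ u = r₂ ≫ u →
      r₁ ≫ v.1 ≫ π₀ = r₂ ≫ v.1 ≫ π₀ := fun r₁ r₂ h => by
    rw [← Category.assoc, ← Category.assoc]
    exact hrel _ _ ⟨_, _, _, (hcl r₁ _ rfl).trans (hcl r₂ _ h.symm).symm⟩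
  let g₀ := EffectiveEpi.desc u (v.1 ≫ π₀) hg
  have hg₀ : u ≫ g₀ = v.1 ≫ π₀ := EffectiveEpi.fac _ _ _
  let g : T ⟶ J := Over.homMk g₀ (by
    show g₀ ≫ Q.str = T.hom
    rw [← cancel_epi u, reassoc_of% hg₀, ← hpb.w, hvq])
  have key : ∀ g' : T ⟶ J, ∀ w : pullback T.hom p ⟶ J'.left, (hw : w ≫ J'.hom ≫ p = u ≫ T.hom) →
      w ≫ π₀ = u ≫ g'.left →
      pull (PicF.XTmap f (AbDual.ovrHom T u)) (pull (PicF.XTmap f g') x) = cl xU (u ≫ T.hom) w hw := by
    intro g' w hw hwg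
    let w' : AbDual.ovr T u ⟶ AbDual.ovr J π₀ := Over.homMk w (by
      show w ≫ π₀ ≫ Q.str = u ≫ T.hom
      rw [← hpb.w]; exact hw)
    have hsq : w' ≫ AbDual.ovrHom J π₀ = AbDual.ovrHom T u ≫ g' := Over.OverMorphism.ext hwg
    rw [InvDescLib.pull_XTmap_XTmap g' _ hsq.symm, ← InvDescLib.pull_XTmap_XTmap (AbDual.ovrHom J π₀) w' rfl, hxu,
      InvDescLib.pull_XTmap_XTmap iJ w' (l := toP (u ≫ T.hom) w hw) (Over.OverMorphism.ext (Category.comp_id _))]
    rfl
  have hgx : pull (PicF.XTmap f g) x = a := eq_of_cover_fpqc hU ha u (InvDescLib.rigid_XTmap g hx) hta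
    ((key g v.1 hvq hg₀.symm).trans hv)
  refine ⟨g, hgx, fun g' hg' => ?_⟩
  apply Over.OverMorphism.ext
  show g'.left = g₀
  rw [← cancel_epi u, hg₀]
  let w := hpb.lift xT (u ≫ g'.left) (by
    rw [Category.assoc, show g'.left ≫ Q.str = T.hom from Over.w g']
    exact pullback.condition.symm)
  have hw₁ : w ≫ J'.hom = xT := hpb.lift_fst _ _ _
  have hw₂ : w ≫ π₀ = u ≫ g'.left := hpb.lift_snd _ _ _
  have hwq : w ≫ J'.hom ≫ p = u ≫ T.hom := by rw [← Category.assoc, hw₁]; exact pullback.condition.symm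
  have := hv' ⟨w, hw₁⟩ (by
    show cl xU (u ≫ T.hom) w hwq = _
    rw [← key g' w hwq hw₂, hg'])
  rw [← hw₂, ← this]

end Groth.Agent.JacLib.Desc
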