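import Groth.Agent.JacLib.EllPoint
import Groth.Agent.JacLib.OpenClosed
import Groth.Agent.HilbCurveLib.Split

/-!
# An elliptic curve is its `Pic⁰`
-/

set_option autoImplicit false
set_option backward.isDefEq.respectTransparency false
set_option backward.isDefEq.respectTransparency.types false
set_option linter.style.haveILetI false
set_option maxHeartbeats 1600000

universe u

open CategoryTheory CategoryTheory.Limits AlgebraicGeometry
open Groth.Agent.PicLib Groth.Agent.AbDualLib Groth.Agent.InvDescLib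

noncomputable section

namespace Groth.Agent.JacLib

attribute [local instance] Curv2.stalkAlgebra
attribute [local instance high] FunFld.Place.algRes

variable {C S : Scheme.{u}} (f : C ⟶ S) [IsProper f] [SmoothOfRelativeDimension 1 f] [GeometricallyConnected f]
  (hdim : ∀ s : S, topologicalKrullDim ↥(f.fiber s) = 1)

instance smooth_of_relDim : Smooth f := SmoothOfRelativeDimension.smooth 1 f

include hdim in
theorem isPZc_pt_div {T : Over S} (x y : T ⟶ Over.mk f) : IsPZc f T (pt f x / pt f y) := by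
  refine isPZc_of_geometric f hdim fun Ω _ _ σ g => ?_
  rw [map_div, pt_comp, pt_comp]
  have h := isPZc_div_pow f hdim σ (n := 1) (fun _ => g ≫ x) (g ≫ y)
  rwa [Fin.prod_univ_one, pow_one] at h

include hdim in
theorem deg_mul_pt_point {Ω : Type u} [Field Ω] [IsAlgClosed Ω] (σ : Spec (CommRingCat.of Ω) ⟶ S)
    {a : Pic (PicF.XT f (Over.mk σ))} (ha : IsPZc f (Over.mk σ) a) (y : Over.mk σ ⟶ Over.mk f)
    {N : (PicF.XT f (Over.mk σ)).Modules} (hN : PicF.IsInvertible N) (hNc : cls hN = a * pt f y)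
    (t : (Over.mk σ).left) : PicDegLib.deg (PicF.XTproj f (Over.mk σ)) N t = 1 := by
  letI : (PicF.XT f (Over.mk σ)).Over (Spec (CommRingCat.of Ω)) := ⟨PicF.XTproj f (Over.mk σ)⟩
  haveI : IsProper (PicF.XT f (Over.mk σ) ↘ Spec (CommRingCat.of Ω)) := isProper_XT f σ
  haveI : Smooth (PicF.XT f (Over.mk σ) ↘ Spec (CommRingCat.of Ω)) := smooth_XT f σ
  haveI : GeometricallyConnected (PicF.XT f (Over.mk σ) ↘ Spec (CommRingCat.of Ω)) := geometricallyConnected_XT f σ
  have hd := dim_XT f σ hdim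
  obtain ⟨hint, hreg, h0⟩ := setup_of_smooth_connected Ω (PicF.XT f (Over.mk σ)) hd
  haveI := hint; haveI := hreg
  obtain ⟨M, hM, hMc⟩ := exists_cls a
  have hMdeg : Curv2.deg Ω (PicF.XT f (Over.mk σ)) M 1 = 0 := by
    refine (deg_eq hd.le hM t).symm.trans ?_
    rw [← hMc, isPZc_iff f hdim _ hM] at ha
    exact ha _
  obtain ⟨D, hD⟩ := exists_hasDiv hd h0 (cls hM)
  have hDd : D.deg = 0 := (deg_of_hasDiv hd h0 hM hD).symm.trans hMdeg
  have hy := hasDiv_ptc hd h0 (pointClosed f σ y).1 (pointClosed f σ y).2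
  rw [← pt_eq_ptc] at hy
  have h := hasDiv_mul hd hD hy
  rw [hMc, ← hNc] at h
  refine (deg_eq hd.le hN t).trans ?_
  rw [deg_of_hasDiv hd h0 hN h, FF.deg_add, FF.deg_single, hDd, deg_place hd h0]
  norm_num

include hdim in
theorem deg_mul_pt {T : Over S} {a : Pic (PicF.XT f T)} (ha : IsPZc f T a) (y : T ⟶ Over.mk f)
    {N : (PicF.XT f T).Modules} (hN : PicF.IsInvertible N) (hNc : cls hN = a * pt f y) (t : T.left) :
    PicDegLib.deg (PicF.XTproj f T) N t = 1 := by
  let Ω := AlgebraicClosure (T.left.residueField t)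
  let p : Spec (CommRingCat.of Ω) ⟶ T.left :=
    Spec.map (CommRingCat.ofHom (algebraMap (T.left.residueField t) Ω)) ≫ T.left.fromSpecResidueField t
  let g : Over.mk (p ≫ T.hom) ⟶ T := Over.homMk p rfl
  have hp : g.left (IsLocalRing.closedPoint Ω) = t := by
    show (Spec.map _ ≫ T.left.fromSpecResidueField t) _ = t
    rw [Scheme.Hom.comp_apply]
    exact Scheme.fromSpecResidueField_apply t _
  rw [← hp, ← PicDegLib.deg_XTmap g hN]
  refine deg_mul_pt_point f hdim _ (isPZc_pull f hdim g ha) (g ≫ y) (AmpleLib.isInvertible_pullback _ hN) ?_ _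
  rw [← pull_cls _ hN, hNc, map_mul, pt_comp]

variable (hg : ∀ s : S, CohIII.fiberRank f (Coh.structureModule C) 1 s = 1) (e : S ⟶ C) (he : e ≫ f = 𝟙 S)
variable {P₀ : Over S} {φ₀ : ∀ T : Over S, PicF.Cl (PicF.XT f T) → (T ⟶ P₀)}
  (hP₀ : AbDual.IsRelPicZeroK Scheme.fppfPrecoverage f P₀ φ₀)

/-- The map `x ↦ O(x) ⊗ O(e)⁻¹`. -/
def ellAbel (φ₀ : ∀ T : Over S, PicF.Cl (PicF.XT f T) → (T ⟶ P₀)) : Over.mk f ⟶ P₀ :=
  φ₀ (Over.mk f) (toCl (pt f (𝟙 _) / pt f (basePt f e he (Over.mk f))))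

include hdim hP₀ in
theorem comp_ellAbel {T : Over S} (x : T ⟶ Over.mk f) :
    x ≫ ellAbel f e he φ₀ = φ₀ T (toCl (pt f x / pt f (basePt f e he T))) := by
  rw [ellAbel, ← phi_pull f hP₀ x (isPZc_pt_div f hdim _ _), map_div, pt_comp, pt_comp, comp_basePt, Category.comp_id]

include hdim hg hP₀ in
theorem ellAbel_injective {T : Over S} {x y : T ⟶ Over.mk f} (h : x ≫ ellAbel f e he φ₀ = y ≫ ellAbel f e he φ₀) :
    x = y := by
  rw [comp_ellAbel f hdim e he hP₀, comp_ellAbel f hdim e he hP₀] at h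
  obtain ⟨R, hR, hRe⟩ := hP₀.locallyInjective T _ _ (isPZc_pt_div f hdim _ _) (isPZc_pt_div f hdim _ _) h
  refine hom_ext_cover hR _ _ fun U u hu => eq_of_pt_eq f hdim hg ?_
  have h1 := toCl_injective ((toCl_pull _ _).trans ((hRe u hu).trans (toCl_pull _ _).symm))
  rwa [map_div, map_div, pt_comp, pt_comp, pt_comp, div_left_inj] at h1

include hdim hg hP₀ in
theorem isIso_ellAbel : IsIso (ellAbel f e he φ₀).left := by
  let A := ellAbel f e he φ₀
  obtain ⟨R, hR, hRs⟩ := hP₀.locallySurjective P₀ (𝟙 P₀)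
  obtain ⟨ι, W, v, hv, h₁, h₂, h₃⟩ := exists_small_cover hR
  have hex : ∀ i, ∃ x : AbDual.ovr P₀ (v i) ⟶ Over.mk f, x ≫ A = AbDual.ovrHom P₀ (v i) := by
    intro i
    obtain ⟨c, hc, hφ⟩ := hRs (v i) (hv i)
    rw [Category.comp_id] at hφ
    obtain ⟨a, rfl⟩ := exists_toCl (show PicF.IsInvertibleCl c from let ⟨L, h1, h2, _⟩ := hc; ⟨L, h1, h2⟩)
    let T := AbDual.ovr P₀ (v i)
    obtain ⟨N, hN, hNc⟩ := exists_cls (a * pt f (basePt f e he T))
    obtain ⟨x, hx⟩ := exists_point f hdim hg hN (deg_mul_pt f hdim hc _ hN hNc)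
    refine ⟨x, ?_⟩
    choose V htV hV using hx
    let 𝒰 := T.left.openCoverOfIsOpenCover V (eq_top_iff.2 fun t _ => TopologicalSpace.Opens.mem_iSup.2 ⟨t, htV t⟩)
    refine hom_ext_cover (Scheme.zariskiPrecoverage_le_fppfPrecoverage _ 𝒰.mem₀) _ _ ?_
    rintro U u ⟨t⟩
    rw [comp_ellAbel f hdim e he hP₀, ← hφ, ← phi_pull f hP₀ _ (isPZc_pt_div f hdim _ _), ← phi_pull f hP₀ _ hc]
    refine congrArg (fun c => φ₀ _ (toCl c)) ?_
    have h := hV t
    rw [hNc, map_div, map_mul, div_eq_one] at h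
    rw [map_div, div_eq_iff_eq_mul]
    exact h.symm
  choose x hx using hex
  let q : AbDual.ovr P₀ (Sigma.desc v) ⟶ P₀ := AbDual.ovrHom P₀ (Sigma.desc v)
  haveI : Flat q.left := h₁
  haveI : LocallyOfFinitePresentation q.left := h₂
  haveI : Surjective q.left := h₃
  let X : AbDual.ovr P₀ (Sigma.desc v) ⟶ Over.mk f := Over.homMk (Sigma.desc fun i => (x i).left) (by
    refine Sigma.hom_ext _ _ fun i => ?_
    rw [← Category.assoc, Sigma.ι_desc]
    show (x i).left ≫ f = Sigma.ι W i ≫ Sigma.desc v ≫ P₀.hom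
    rw [Sigma.ι_desc_assoc]
    exact Over.w (x i))
  have hX : X ≫ A = q := Over.OverMorphism.ext (Sigma.hom_ext _ _ fun i => by
    show Sigma.ι W i ≫ Sigma.desc (fun i => (x i).left) ≫ A.left = Sigma.ι W i ≫ Sigma.desc v
    rw [Sigma.ι_desc_assoc, Sigma.ι_desc]
    exact congrArg CommaMorphism.left (hx i))
  have hcond : ∀ {Z : Scheme.{u}} (g₁ g₂ : Z ⟶ (AbDual.ovr P₀ (Sigma.desc v)).left),
      g₁ ≫ q.left = g₂ ≫ q.left → g₁ ≫ X.left = g₂ ≫ X.left := fun {Z} g₁ g₂ h => by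
    let Q : Over S := Over.mk (g₁ ≫ q.left ≫ P₀.hom)
    let k₁ : Q ⟶ AbDual.ovr P₀ (Sigma.desc v) := Over.homMk g₁ rfl
    let k₂ : Q ⟶ AbDual.ovr P₀ (Sigma.desc v) := Over.homMk g₂ ((reassoc_of% h) P₀.hom).symm
    have hk : k₁ ≫ q = k₂ ≫ q := Over.OverMorphism.ext h
    rw [← hX, ← Category.assoc, ← Category.assoc] at hk
    exact congrArg CommaMorphism.left (ellAbel_injective f hdim hg e he hP₀ hk)
  let k₀ := EffectiveEpi.desc q.left _ hcond
  have hk₀ : q.left ≫ k₀ = X.left := EffectiveEpi.fac _ _ _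
  let k : P₀ ⟶ Over.mk f := Over.homMk k₀ (by
    rw [← cancel_epi q.left, ← Category.assoc, hk₀]
    exact Over.w X)
  have hkA : k ≫ A = 𝟙 _ := by
    apply Over.OverMorphism.ext
    show k₀ ≫ A.left = 𝟙 _
    rw [← cancel_epi q.left, ← Category.assoc, hk₀, Category.comp_id]
    exact congrArg CommaMorphism.left hX
  have hAk : A ≫ k = 𝟙 _ := ellAbel_injective f hdim hg e he hP₀ (by
    rw [Category.assoc, Category.id_comp]
    exact (congrArg (A ≫ ·) hkA).trans (Category.comp_id _))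
  exact ⟨k.left, congrArg CommaMorphism.left hAk, congrArg CommaMorphism.left hkA⟩

omit [GeometricallyConnected f] in
theorem pull_fst_cls_section (T : Over S) (h : PicF.IsInvertible (ClSub.idealMod e.ker)) :
    pull (pullback.fst f T.hom : PicF.XT f T ⟶ C) (cls h) = (pt f (basePt f e he T))⁻¹ := by
  let b := basePt f e he T
  let q := graph f b
  have hq : q ≫ PicF.XTproj f T = 𝟙 _ := pullback.lift_snd _ _ _
  haveI : SmoothOfRelativeDimension 1 (PicF.XTproj f T) :=
    haveI := smoothOfRelativeDimension_isStableUnderBaseChange (n := 1)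
    MorphismProperty.pullback_snd (P := @SmoothOfRelativeDimension 1) f T.hom inferInstance
  haveI : IsSeparated (PicF.XTproj f T) := inferInstanceAs (IsSeparated (pullback.snd f T.hom))
  have hI := isInvertible_ker_of_section _ q hq
  haveI : IsClosedImmersion e := isClosedImmersion_of_section f e he
  have hsq : IsPullback q T.hom (pullback.fst f T.hom) e := by
    refine IsPullback.of_right (h₁₂ := pullback.snd f T.hom) (v₁₃ := T.hom) (h₂₂ := f) ?_ (pullback.lift_fst _ _ _)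
      (IsPullback.of_hasPullback f T.hom).flip
    have h2 : q ≫ pullback.snd f T.hom = 𝟙 T.left := hq
    rw [h2, he]
    haveI : IsIso (𝟙 T.left) := IsIso.id T.left
    haveI : IsIso (𝟙 S) := IsIso.id S
    exact IsPullback.of_horiz_isIso ⟨by simp⟩
  have hk := HilbCurveLib.ker_of_isPullback hsq
  obtain ⟨φ⟩ := nonempty_iso_pullback_idealMod (pullback.fst f T.hom) e.ker ((Groth.Agent.S8914.result _).1 h)
    (hk ▸ (Groth.Agent.S8914.result _).1 hI)
  rw [pt_eq f b hI, inv_inv, pull_cls]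
  exact (cls_eq_cls _ _).2 ⟨φ ≪≫ eqToIso (by rw [← hk])⟩

include hdim hg in
/-- Points with classes differing by a class from the base are equal. -/
theorem eq_of_pt_mul_eq {T : Over S} {x y : T ⟶ Over.mk f} {M N : Pic T.left}
    (h : pt f x * pull (PicF.XTproj f T) M = pt f y * pull (PicF.XTproj f T) N) : x = y := by
  obtain ⟨Q, hQ, hQc⟩ := exists_cls (M / N)
  choose W s hW hs using fun z : T.left => ParaFLib.exists_gen_nhd hQ z
  let 𝒰 := T.left.openCoverOfIsOpenCover W (eq_top_iff.2 fun z _ => TopologicalSpace.Opens.mem_iSup.2 ⟨z, hW z⟩)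
  refine hom_ext_cover (Scheme.zariskiPrecoverage_le_fppfPrecoverage _ 𝒰.mem₀) _ _ ?_
  rintro U u ⟨i⟩
  refine eq_of_pt_eq f hdim hg ?_
  have h1 : pull (AbDual.ovrHom T (W i).ι).left (M / N) = 1 := by
    rw [← hQc, pull_cls, eq_one_iff_triv]
    exact ⟨_, CubeLib.gen_pullMap (W i).ι hQ (hs i) (fun z _ => z.2)⟩
  have h2 := congrArg (pull (PicF.XTmap f (AbDual.ovrHom T (𝒰.f i)))) h
  rw [map_mul, map_mul, pt_comp, pt_comp, ← pull_comp _ (PicF.XTproj f T), ← pull_comp _ (PicF.XTproj f T),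
    (InvDescLib.isPullback_map (AbDual.ovrHom T (𝒰.f i))).w, pull_comp, pull_comp] at h2
  rw [map_div, div_eq_one] at h1
  change pull (AbDual.ovrHom T (𝒰.f i)).left M = pull (AbDual.ovrHom T (𝒰.f i)).left N at h1
  rw [h1] at h2
  exact mul_right_cancel h2

end Groth.Agent.JacLib
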