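import Groth.Agent.JacLib.PicZero
import Groth.Agent.JacLib.InverseIdeal
import Groth.Agent.AbelMapLib.RankOne
import Groth.Agent.CurveFF.Genus

/-!
# Classes of degree one on a geometric fibre of a family of genus one
-/

set_option autoImplicit false
set_option backward.isDefEq.respectTransparency false
set_option backward.isDefEq.respectTransparency.types false
set_option linter.style.haveILetI false
set_option maxHeartbeats 1600000

universe u

open CategoryTheory CategoryTheory.Limits AlgebraicGeometry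
open Groth.Agent.PicLib Groth.Agent.PullbackMod

noncomputable section

namespace Groth.Agent.JacLib

variable {C S : Scheme.{u}} (f : C ⟶ S) [IsProper f] [SmoothOfRelativeDimension 1 f] [GeometricallyConnected f]
  (hdim : ∀ s : S, topologicalKrullDim ↥(f.fiber s) = 1)
  (hg : ∀ s : S, CohIII.fiberRank f (Coh.structureModule C) 1 s = 1)
variable {Ω : Type u} [Field Ω] [IsAlgClosed Ω] (σ : Spec (CommRingCat.of Ω) ⟶ S)

include hdim hg in
theorem fibre_data {L : (PicF.XT f (Over.mk σ)).Modules} (hL : PicF.IsInvertible L)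
    (hdeg : PicDegLib.deg (PicF.XTproj f (Over.mk σ)) L (IsLocalRing.closedPoint Ω) = 1) :
    (CohIII.fiberRank (PicF.XTproj f (Over.mk σ)) L 0 (IsLocalRing.closedPoint Ω) = 1 ∧
      CohIII.fiberRank (PicF.XTproj f (Over.mk σ)) L 1 (IsLocalRing.closedPoint Ω) = 0) ∧
    ∀ s : Γ(L, ⊤), s ≠ 0 → ∃ x : Over.mk σ ⟶ Over.mk f, ∀ {Z : Scheme.{u}} (g : Z ⟶ PicF.XT f (Over.mk σ)),
      pullMap g L (fun _ _ => trivial : (⊤ : Z.Opens) ≤ g ⁻¹ᵁ ⊤) s = 0 ↔
        ∃ k : Z ⟶ (graph f x).ker.subscheme, k ≫ (graph f x).ker.subschemeι = g := by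
  haveI : Smooth f := SmoothOfRelativeDimension.smooth 1 f
  letI : (PicF.XT f (Over.mk σ)).Over (Spec (CommRingCat.of Ω)) := ⟨PicF.XTproj f (Over.mk σ)⟩
  haveI : IsProper (PicF.XT f (Over.mk σ) ↘ Spec (CommRingCat.of Ω)) := isProper_XT f σ
  haveI : Smooth (PicF.XT f (Over.mk σ) ↘ Spec (CommRingCat.of Ω)) := smooth_XT f σ
  haveI : GeometricallyConnected (PicF.XT f (Over.mk σ) ↘ Spec (CommRingCat.of Ω)) := geometricallyConnected_XT f σ
  have hd := dim_XT f σ hdim
  obtain ⟨hint, hreg, h0⟩ := setup_of_smooth_connected Ω (PicF.XT f (Over.mk σ)) hd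
  haveI := hint; haveI := hreg
  let X := PicF.XT f (Over.mk σ)
  let t := IsLocalRing.closedPoint Ω
  have hgen : Curv2.genus Ω X = 1 := (genus_XT f σ).trans (hg _)
  haveI := PicDegLib.isQCoh_invertible hL
  have hd1 : Curv2.deg Ω X L 1 = 1 := (deg_eq hd.le hL t).symm.trans hdeg
  have hv : Subsingleton (Coh.HH X L 1) := CurveFF.subsingleton_H1 hd h0 hL (by rw [hgen, hd1]; norm_num)
  haveI := hv
  have hr1 : Module.finrank Ω (Coh.HH X L 1) = 0 := Module.finrank_zero_of_subsingleton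
  have hr0 : Module.finrank Ω (Coh.HH X L 0) = 1 := by
    have h1 := CurveLib.euler_eq_sub (k := Ω) (M := L) hd.le
    have h2 := CurveLib.euler_eq_sub (k := Ω) (M := Coh.structureModule X) hd.le
    rw [h0, show Module.finrank Ω (Coh.HH X (Coh.structureModule X) 1) = 1 from hgen] at h2
    have h3 : Curv2.euler Ω X L - Curv2.euler Ω X (Coh.structureModule X) = 1 := by
      rw [← hd1]; simp [Curv2.deg]
    rw [h1, h2, hr1] at h3
    have h4 : (Module.finrank Ω (Coh.HH X L 0) : ℤ) - (0 : ℕ) - ((1 : ℕ) - (1 : ℕ)) = 1 := h3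
    omega
  refine ⟨⟨(fiberRank_eq_finrank L 0 t).trans hr0, (fiberRank_eq_finrank L 1 t).trans hr1⟩, fun s hs => ?_⟩
  obtain ⟨x, hx⟩ := exists_eq_prod_pt f σ hd h0 hL 1 (by rw [hd1]; rfl) hgen.le
  rw [Fin.prod_univ_one] at hx
  refine ⟨x 0, ?_⟩
  have hgr : graph f (x 0) ≫ PicF.XTproj f (Over.mk σ) = 𝟙 _ := pullback.lift_snd _ _ _
  haveI : SmoothOfRelativeDimension 1 (PicF.XTproj f (Over.mk σ)) :=
    haveI := smoothOfRelativeDimension_isStableUnderBaseChange (n := 1)
    MorphismProperty.pullback_snd (P := @SmoothOfRelativeDimension 1) f σ inferInstance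
  haveI : IsSeparated (PicF.XTproj f (Over.mk σ)) := inferInstanceAs (IsSeparated (pullback.snd f σ))
  have hI := isInvertible_ker_of_section _ _ hgr
  have e1 : cls hL * cls hI = 1 := by rw [hx, pt_eq f (x 0) hI, inv_mul_cancel]
  rw [← cls_tensor hL hI, cls_eq_one] at e1
  obtain ⟨e⟩ := e1
  obtain ⟨c, hc⟩ := AbelMapLib.exists_canSect _ hL hI e
  have hcne : c ≠ 0 := by
    intro h
    obtain ⟨k, hk⟩ := (AbelMapLib.pullMap_eq_zero_iff _ hL hc (𝟙 X)).1 (by rw [h, map_zero])
    haveI := isClosedImmersion_of_section (pullback.snd f σ) (graph f (x 0)) hgr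
    haveI : Subsingleton ↥(Over.mk σ).left := inferInstanceAs (Subsingleton (PrimeSpectrum Ω))
    haveI : IsIso (graph f (x 0)).toImage := inferInstance
    haveI : Subsingleton ↥(graph f (x 0)).ker.subscheme :=
      (graph f (x 0)).toImage.surjective.subsingleton
    haveI : Subsingleton X := ⟨fun a b => by
      have ha : (graph f (x 0)).ker.subschemeι (k a) = a := by rw [← Scheme.Hom.comp_apply, hk]; rfl
      have hb : (graph f (x 0)).ker.subschemeι (k b) = b := by rw [← Scheme.Hom.comp_apply, hk]; rfl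
      rw [← ha, ← hb, Subsingleton.elim (k a) (k b)]⟩
    haveI : Subsingleton (TopologicalSpace.IrreducibleCloseds X) := ⟨fun A B => by
      obtain ⟨a, ha⟩ := A.isIrreducible.nonempty
      obtain ⟨b, hb⟩ := B.isIrreducible.nonempty
      ext z
      exact ⟨fun _ => by rw [Subsingleton.elim z b]; exact hb, fun _ => by rw [Subsingleton.elim z a]; exact ha⟩⟩
    have h2 : topologicalKrullDim X ≤ 0 := Order.krullDim_nonpos_of_subsingleton
    rw [show topologicalKrullDim X = 1 from hd] at h2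
    exact absurd h2 (by norm_num)
  obtain ⟨a, ha⟩ := AbelMapLib.exists_smul_eq_of_finrank_one hr0 hs c
  have ha0 : a ≠ 0 := fun h => hcne (by rw [← ha, h, map_zero, zero_smul])
  intro Z g
  refine Iff.trans ?_ (AbelMapLib.pullMap_eq_zero_iff _ hL hc g)
  show _ ↔ pullMap g L (fun _ _ => trivial : (⊤ : Z.Opens) ≤ g ⁻¹ᵁ ⊤) c = 0
  rw [← ha, pullMap_smul]
  exact ((((isUnit_iff_ne_zero.2 ha0).map _).map _).smul_eq_zero).symm

end Groth.Agent.JacLib
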