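import Groth.Agent.JacLib.Dim
import Groth.Agent.JacLib.RatTwist
import Groth.Agent.PicRepLib.Good
import Groth.Agent.IntLib.Cls
import Groth.Agent.S1025
import Groth.Prelude.Def_SymProd

/-!
# Open sets of point configurations spanning one-dimensional systems
-/

set_option autoImplicit false
set_option backward.isDefEq.respectTransparency false
set_option backward.isDefEq.respectTransparency.types false
set_option linter.style.haveILetI false
set_option maxHeartbeats 1600000

universe u

open CategoryTheory CategoryTheory.Limits AlgebraicGeometry TopologicalSpace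
open Groth.Agent.PicLib Groth.Agent.AbDualLib

noncomputable section

namespace Groth.Agent.JacLib

attribute [local instance] Curv2.stalkAlgebra
attribute [local instance high] FunFld.Place.algRes

theorem exists_cls_tensorList {X : Scheme.{u}} : ∀ (n : ℕ) (L : Fin n → X.Modules) (h : ∀ i, PicF.IsInvertible (L i)),
    ∃ hT : PicF.IsInvertible (FGA.tensorList (List.ofFn L)), cls hT = ∏ i, cls (h i)
  | 0, L, h => by
    rw [List.ofFn_zero]
    exact ⟨ParaFLib.isInvertible_structureModule, by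
      rw [Finset.univ_eq_empty, Finset.prod_empty]; exact (cls_eq_one _).2 ⟨Iso.refl _⟩⟩
  | n + 1, L, h => by
    obtain ⟨hT, e⟩ := exists_cls_tensorList n (fun i => L i.succ) fun i => h i.succ
    rw [List.ofFn_succ]
    exact ⟨AmpleLib.isInvertible_tensor (h 0) hT, by rw [cls_tensor (h 0) hT, e, Fin.prod_univ_succ]⟩

theorem cls_tensorPow {X : Scheme.{u}} {L : X.Modules} (h : PicF.IsInvertible L) :
    ∀ n, ∃ hT : PicF.IsInvertible (CohB1.tensorPow L n), cls hT = cls h ^ n
  | 0 => ⟨ParaFLib.isInvertible_structureModule, by rw [pow_zero]; exact (cls_eq_one _).2 ⟨Iso.refl _⟩⟩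
  | n + 1 => by
    obtain ⟨hT, e⟩ := cls_tensorPow h n
    exact ⟨AmpleLib.isInvertible_tensor hT h, by rw [pow_succ, ← e]; exact cls_tensor hT h⟩

variable {k : Type u} [Field k] [IsAlgClosed k] {C : Scheme.{u}} [C.Over (Spec (CommRingCat.of k))]
  [IsProper (C ↘ Spec (CommRingCat.of k))] [Smooth (C ↘ Spec (CommRingCat.of k))]
  [GeometricallyConnected (C ↘ Spec (CommRingCat.of k))]
  [SmoothOfRelativeDimension 1 (C ↘ Spec (CommRingCat.of k))]

variable (k C) in
/-- The curve over its own base point. -/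
abbrev self : Scheme.{u} := PicF.XT (C ↘ Spec (CommRingCat.of k)) (Over.mk (𝟙 (Spec (CommRingCat.of k))))

/-- The structure of the curve over its own base point. -/
local instance overSelf : (self k C).Over (Spec (CommRingCat.of k)) :=
  ⟨PicF.XTproj (C ↘ Spec (CommRingCat.of k)) (Over.mk (𝟙 (Spec (CommRingCat.of k))))⟩

/-- The point of a section. -/
def secPt (s : Spec (CommRingCat.of k) ⟶ C) (hs : s ≫ (C ↘ Spec (CommRingCat.of k)) = 𝟙 _) :
    Over.mk (𝟙 (Spec (CommRingCat.of k))) ⟶ Over.mk (C ↘ Spec (CommRingCat.of k)) :=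
  Over.homMk s hs

theorem pt_secPt (s : Spec (CommRingCat.of k) ⟶ C) (hs : s ≫ (C ↘ Spec (CommRingCat.of k)) = 𝟙 _)
    (h : PicF.IsInvertible (ClSub.idealMod s.ker)) :
    pt (C ↘ Spec (CommRingCat.of k)) (secPt s hs) = (pull (pullback.fst _ _) (cls h))⁻¹ := by
  let f := C ↘ Spec (CommRingCat.of k)
  haveI : IsClosedImmersion s := isClosedImmersion_of_section f s hs
  haveI : SmoothOfRelativeDimension 1 (pullback.snd f (𝟙 (Spec (CommRingCat.of k)))) :=
    haveI := smoothOfRelativeDimension_isStableUnderBaseChange (n := 1)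
    MorphismProperty.pullback_snd (P := @SmoothOfRelativeDimension 1) f _ inferInstance
  have hg : graph f (secPt s hs) ≫ pullback.snd f (𝟙 (Spec (CommRingCat.of k))) = 𝟙 _ := pullback.lift_snd _ _ _
  have hI := isInvertible_ker_of_section (pullback.snd f (𝟙 (Spec (CommRingCat.of k)))) (graph f (secPt s hs)) hg
  have hk := comap_ker_of_section (IsPullback.of_hasPullback f (𝟙 (Spec (CommRingCat.of k)))) s hs
    (graph f (secPt s hs)) ((pullback.lift_fst _ _ _).trans (Category.id_comp s).symm) hg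
  rw [pt_eq f _ hI, inv_inj, pull_cls]
  obtain ⟨e⟩ := nonempty_iso_pullback_idealMod (pullback.fst f (𝟙 (Spec (CommRingCat.of k)))) s.ker
    ((Groth.Agent.S8914.result _).1 h) (by rw [hk]; exact (Groth.Agent.S8914.result _).1 hI)
  exact (cls_eq_cls _ _).2 ⟨(e ≪≫ eqToIso (by rw [hk])).symm⟩

theorem rk_pull_fst {M : C.Modules} (hM : PicF.IsInvertible M) (t : ↥(Spec (CommRingCat.of k))) :
    PicRepLib.rk (f := C ↘ Spec (CommRingCat.of k)) (T := Over.mk (𝟙 (Spec (CommRingCat.of k))))
      (pull (pullback.fst _ _) (cls hM)) 0 t = Module.finrank k (Coh.HH C M 0) := by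
  haveI := PicDegLib.isQCoh_invertible hM
  rw [pull_cls, PicRepLib.rk_cls]
  exact (BCLib.fiberRank_baseChange (IsPullback.of_hasPullback _ _) M 0 t).trans (fiberRank_eq_finrank M 0 _)

variable (hdim : topologicalKrullDim C = 1)

include hdim in
theorem setup_self : IsProper (self k C ↘ Spec (CommRingCat.of k)) ∧ IsIntegral (self k C) ∧
    VBLib.IsRegCurve (self k C) ∧ topologicalKrullDim (self k C) = 1 ∧
    Module.finrank k (Coh.HH (self k C) (Coh.structureModule (self k C)) 0) = 1 ∧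
    Curv2.genus k (self k C) = Curv2.genus k C := by
  let f := C ↘ Spec (CommRingCat.of k)
  haveI := isProper_XT f (𝟙 (Spec (CommRingCat.of k)))
  haveI : Smooth (self k C ↘ Spec (CommRingCat.of k)) := smooth_XT f (𝟙 _)
  haveI : GeometricallyConnected (self k C ↘ Spec (CommRingCat.of k)) := geometricallyConnected_XT f (𝟙 _)
  have hd := dim_XT f (𝟙 (Spec (CommRingCat.of k))) fun s => (CurveFF.topologicalKrullDim_fiber_eq f s).trans hdim
  obtain ⟨a, b, c⟩ := setup_of_smooth_connected k (self k C) hd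
  haveI : Coh.IsQCoh (Coh.structureModule C) := PicDegLib.isQCoh_invertible ParaFLib.isInvertible_structureModule
  exact ⟨inferInstance, a, b, hd, c,
    (genus_XT f (𝟙 (Spec (CommRingCat.of k)))).trans (fiberRank_eq_finrank (Coh.structureModule C) 1 _)⟩

theorem rk_eq_ell [IsProper (self k C ↘ Spec (CommRingCat.of k))] [IsIntegral (self k C)]
    [VBLib.IsRegCurve (self k C)] (hd : topologicalKrullDim (self k C) = 1) {b : Pic (self k C)}
    {D : FunFld.Divisor k (self k C).functionField} (hD : HasDiv k hd b D) (t : ↥(Spec (CommRingCat.of k))) :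
    PicRepLib.rk (f := C ↘ Spec (CommRingCat.of k)) (T := Over.mk (𝟙 (Spec (CommRingCat.of k)))) b 0 t =
      FunFld.ell D := by
  obtain ⟨L, hL, e, rfl, he, hdiv⟩ := hD
  haveI := PicDegLib.isQCoh_invertible hL
  rw [PicRepLib.rk_cls]
  exact (fiberRank_eq_finrank (X := self k C) L 0 t).trans (CurveFF.finrank_H0_eq_ell hd hL he hdiv)

include hdim in
/-- An open set of configurations where a class has one section. -/
theorem exists_open_rk_one (T : Over (Spec (CommRingCat.of k))) (a : Pic (PicF.XT (C ↘ Spec (CommRingCat.of k)) T))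
    (hne : ∃ w : Over.mk (𝟙 (Spec (CommRingCat.of k))) ⟶ T,
      PicRepLib.rk (pull (PicF.XTmap _ w) a) 0 (IsLocalRing.closedPoint k) < 2)
    (hpos : ∀ w : Over.mk (𝟙 (Spec (CommRingCat.of k))) ⟶ T,
      0 < PicRepLib.rk (pull (PicF.XTmap _ w) a) 0 (IsLocalRing.closedPoint k)) :
    ∃ U : T.left.Opens, (U : Set T.left).Nonempty ∧ ∀ w : Over.mk (𝟙 (Spec (CommRingCat.of k))) ⟶ T,
      w.left (IsLocalRing.closedPoint k) ∈ U → PicRepLib.rk (pull (PicF.XTmap _ w) a) 0 (IsLocalRing.closedPoint k) = 1 := by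
  let f := C ↘ Spec (CommRingCat.of k)
  have hlf := CurveLib.isFinLocFree_of_isInvertible (PicRepLib.isInvertible_rep a)
  obtain ⟨-, hfp⟩ := PullbackMod.isQCoh_and_isFP_of_isFinLocFree (PicRepLib.rep a) hlf
  haveI : IsProper (PicF.XTproj f T) := MorphismProperty.pullback_snd _ _ inferInstance
  haveI : Smooth (PicF.XTproj f T) := MorphismProperty.pullback_snd _ _ inferInstance
  have hop : IsOpen {t : T.left | PicRepLib.rk a 0 t < 2} :=
    Groth.Agent.S1025.result (PicF.XTproj f T) _ hfp (TildePerf.isFlatOver_of_isFinLocFree _ hlf) 0 2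
  obtain ⟨w, hw⟩ := hne
  rw [PicRepLib.rk_pull] at hw
  refine ⟨⟨_, hop⟩, ⟨_, hw⟩, fun v hv => ?_⟩
  have h1 := hpos v
  rw [PicRepLib.rk_pull] at h1 ⊢
  have h2 : PicRepLib.rk a 0 (v.left (IsLocalRing.closedPoint k)) < 2 := hv
  omega

theorem hasDiv_zpow [IsProper (self k C ↘ Spec (CommRingCat.of k))] [IsIntegral (self k C)]
    [VBLib.IsRegCurve (self k C)] (hd : topologicalKrullDim (self k C) = 1)
    (h0 : Module.finrank k (Coh.HH (self k C) (Coh.structureModule (self k C)) 0) = 1) {b : Pic (self k C)}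
    {D : FunFld.Divisor k (self k C).functionField} (hD : HasDiv k hd b D) (m : ℤ) : HasDiv k hd (b ^ m) (m • D) := by
  induction m with
  | zero => simpa using hasDiv_one hd
  | succ i ih => rw [zpow_add_one, add_smul, one_smul]; exact hasDiv_mul hd ih hD
  | pred i ih =>
    rw [zpow_sub_one, sub_smul, one_smul, sub_eq_add_neg]
    exact hasDiv_mul hd ih (hasDiv_inv hd h0 hD)

/-- The divisor of a configuration with multiplicities. -/
def confDiv [IsProper (self k C ↘ Spec (CommRingCat.of k))] [IsIntegral (self k C)]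
    [VBLib.IsRegCurve (self k C)] (hd : topologicalKrullDim (self k C) = 1) {n : ℕ} (m : Fin n → ℤ) (b : ℤ)
    (x : Fin n → (Over.mk (𝟙 (Spec (CommRingCat.of k))) ⟶ Over.mk (C ↘ Spec (CommRingCat.of k))))
    (o : Over.mk (𝟙 (Spec (CommRingCat.of k))) ⟶ Over.mk (C ↘ Spec (CommRingCat.of k))) :
    FunFld.Divisor k (self k C).functionField :=
  ∑ i, m i • Finsupp.single (CurveFF.placeOf k hd (pointClosed _ (𝟙 _) (x i)).1 (pointClosed _ (𝟙 _) (x i)).2) (1 : ℤ) +
    b • Finsupp.single (CurveFF.placeOf k hd (pointClosed _ (𝟙 _) o).1 (pointClosed _ (𝟙 _) o).2) (1 : ℤ)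

include hdim in
/-- Configurations with one-dimensional systems form a nonempty open set. -/
theorem exists_open_config {n : ℕ} (m : Fin n → ℤ) (b : ℤ) (σ : Spec (CommRingCat.of k) ⟶ C)
    (hσ : σ ≫ (C ↘ Spec (CommRingCat.of k)) = 𝟙 _)
    (hell : ∀ [IsProper (self k C ↘ Spec (CommRingCat.of k))] [IsIntegral (self k C)] [VBLib.IsRegCurve (self k C)]
      (hd : topologicalKrullDim (self k C) = 1)
      (h0 : Module.finrank k (Coh.HH (self k C) (Coh.structureModule (self k C)) 0) = 1),
      Curv2.genus k (self k C) = Curv2.genus k C →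
      (∀ x, 0 < FunFld.ell (confDiv hd m b x (secPt σ hσ))) ∧
        ∃ x, FunFld.ell (confDiv hd m b x (secPt σ hσ)) ≤ 1) :
    ∃ U : (SymProd.fibPow (C ↘ Spec (CommRingCat.of k)) n).Opens,
      (U : Set ↥(SymProd.fibPow (C ↘ Spec (CommRingCat.of k)) n)).Nonempty ∧
      ∀ (x : Spec (CommRingCat.of k) ⟶ SymProd.fibPow (C ↘ Spec (CommRingCat.of k)) n),
        x ≫ WidePullback.base (fun _ : Fin n => C ↘ Spec (CommRingCat.of k)) = 𝟙 _ →
        (∀ p, x.base p ∈ U) →
        ∀ (M : C.Modules) (hM : PicF.IsInvertible M)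
          (hI : ∀ i, PicF.IsInvertible (ClSub.idealMod (x ≫ WidePullback.π _ i).ker))
          (hIσ : PicF.IsInvertible (ClSub.idealMod σ.ker)),
          cls hM = (∏ i, cls (hI i) ^ (-m i)) * cls hIσ ^ (-b) → Module.finrank k (Coh.HH C M 0) = 1 := by
  classical
  let f := C ↘ Spec (CommRingCat.of k)
  obtain ⟨hp, hi, hr, hd, h0, hg⟩ := setup_self (k := k) (C := C) hdim
  haveI := hp; haveI := hi; haveI := hr
  obtain ⟨hall, x₁, hx₁⟩ := hell hd h0 hg
  let T : Over (Spec (CommRingCat.of k)) := Over.mk (WidePullback.base (fun _ : Fin n => f))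
  let π : Fin n → (T ⟶ Over.mk f) := fun i =>
    Over.homMk (WidePullback.π (fun _ : Fin n => f) i) (WidePullback.π_arrow (fun _ : Fin n => f) i)
  let e := basePt f σ hσ
  let a : Pic (PicF.XT f T) := (∏ i, pt f (π i) ^ m i) * pt f (e T) ^ b
  have he : basePt f σ hσ (Over.mk (𝟙 (Spec (CommRingCat.of k)))) = secPt σ hσ :=
    Over.OverMorphism.ext (Category.id_comp σ)
  have hval : ∀ w : Over.mk (𝟙 (Spec (CommRingCat.of k))) ⟶ T,
      pull (PicF.XTmap f w) a = (∏ i, pt f (w ≫ π i) ^ m i) * pt f (secPt σ hσ) ^ b := fun w => by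
    simp only [a, map_mul, map_prod, map_zpow, pt_comp]
    rw [comp_basePt, he]
  have hptdiv : ∀ y : Over.mk (𝟙 (Spec (CommRingCat.of k))) ⟶ Over.mk f, HasDiv k hd (pt f y)
      (Finsupp.single (CurveFF.placeOf k hd (pointClosed f (𝟙 _) y).1 (pointClosed f (𝟙 _) y).2) (1 : ℤ)) := fun y => by
    rw [pt_eq_ptc f (𝟙 _) hd]
    exact hasDiv_ptc hd h0 _ _
  have hrk : ∀ w : Over.mk (𝟙 (Spec (CommRingCat.of k))) ⟶ T,
      PicRepLib.rk (pull (PicF.XTmap f w) a) 0 (IsLocalRing.closedPoint k) =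
        FunFld.ell (confDiv hd m b (fun i => w ≫ π i) (secPt σ hσ)) := fun w => by
    rw [hval w]
    exact rk_eq_ell hd (hasDiv_mul hd (hasDiv_prod hd Finset.univ _ _ fun i => hasDiv_zpow hd h0 (hptdiv _) (m i))
      (hasDiv_zpow hd h0 (hptdiv _) b)) _
  let w₁ : Over.mk (𝟙 (Spec (CommRingCat.of k))) ⟶ T :=
    Over.homMk (WidePullback.lift (𝟙 _) (fun i => (x₁ i).left) fun i => Over.w (x₁ i)) (WidePullback.lift_base _ _ _ _)
  have hw₁ : (fun i => w₁ ≫ π i) = x₁ := funext fun i => Over.OverMorphism.ext (WidePullback.lift_π _ _ _ _ i)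
  obtain ⟨U, hU, hone⟩ := exists_open_rk_one hdim T a ⟨w₁, by rw [hrk, hw₁]; omega⟩
    (fun w => by rw [hrk]; exact hall _)
  refine ⟨U, hU, fun x hx hxU M hM hI hIσ hMI => ?_⟩
  let w : Over.mk (𝟙 (Spec (CommRingCat.of k))) ⟶ T := Over.homMk x hx
  have h1 := hone w (hxU _)
  have hs : ∀ i, (x ≫ WidePullback.π (fun _ : Fin n => f) i) ≫ f = 𝟙 _ := fun i => by
    rw [Category.assoc, WidePullback.π_arrow]
    exact hx
  have hwi : ∀ i, w ≫ π i = secPt _ (hs i) := fun i => Over.OverMorphism.ext rfl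
  rw [hval w] at h1
  have key : pull (pullback.fst (C ↘ Spec (CommRingCat.of k)) (Over.mk (𝟙 (Spec (CommRingCat.of k)))).hom) (cls hM) =
      (∏ i, pt f (w ≫ π i) ^ m i) * pt f (secPt σ hσ) ^ b := by
    rw [hMI, map_mul, map_prod, map_zpow]
    refine congrArg₂ (· * ·) (Finset.prod_congr rfl fun i _ => ?_) ?_
    · rw [map_zpow, hwi i, pt_secPt _ _ (hI i), inv_zpow']
    · rw [pt_secPt σ hσ hIσ, inv_zpow']
  refine (rk_pull_fst (k := k) (C := C) hM (IsLocalRing.closedPoint k)).symm.trans ?_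
  rw [key]
  exact h1

theorem deg_confDiv [IsProper (self k C ↘ Spec (CommRingCat.of k))] [IsIntegral (self k C)]
    [VBLib.IsRegCurve (self k C)] (hd : topologicalKrullDim (self k C) = 1)
    (h0 : Module.finrank k (Coh.HH (self k C) (Coh.structureModule (self k C)) 0) = 1) {n : ℕ} (m : Fin n → ℤ) (b : ℤ)
    (x : Fin n → (Over.mk (𝟙 (Spec (CommRingCat.of k))) ⟶ Over.mk (C ↘ Spec (CommRingCat.of k))))
    (o : Over.mk (𝟙 (Spec (CommRingCat.of k))) ⟶ Over.mk (C ↘ Spec (CommRingCat.of k))) :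
    (confDiv hd m b x o).deg = (∑ i, m i) + b := by
  classical
  have hK := CurveFF.isFunctionField k hd h0
  have hsum : ∀ (s : Finset (Fin n)) (D : Fin n → FunFld.Divisor k (self k C).functionField),
      (∑ i ∈ s, D i).deg = ∑ i ∈ s, (D i).deg := fun s D => by
    induction s using Finset.induction with
    | empty => simp [FF.deg_zero]
    | insert a t ha ih => rw [Finset.sum_insert ha, Finset.sum_insert ha, FF.deg_add, ih]
  rw [confDiv, FF.deg_add, hsum]
  simp only [Finsupp.smul_single, smul_eq_mul, mul_one, FF.deg_single_ac hK]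

theorem ell_pos_of_deg [IsProper (self k C ↘ Spec (CommRingCat.of k))] [IsIntegral (self k C)]
    [VBLib.IsRegCurve (self k C)] (hd : topologicalKrullDim (self k C) = 1)
    (h0 : Module.finrank k (Coh.HH (self k C) (Coh.structureModule (self k C)) 0) = 1)
    {D : FunFld.Divisor k (self k C).functionField} (h : (Curv2.genus k (self k C) : ℤ) ≤ D.deg) :
    0 < FunFld.ell D := by
  have hK := CurveFF.isFunctionField k hd h0
  obtain ⟨C₀, hC₀⟩ := FF.exists_canonical hK
  have := FF.riemann_roch hK hC₀ D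
  rw [← CurveFF.genus_eq hd h0] at this
  omega

theorem ell_pos_of_nonneg [IsProper (self k C ↘ Spec (CommRingCat.of k))] [IsIntegral (self k C)]
    [VBLib.IsRegCurve (self k C)] (hd : topologicalKrullDim (self k C) = 1)
    (h0 : Module.finrank k (Coh.HH (self k C) (Coh.structureModule (self k C)) 0) = 1)
    {D : FunFld.Divisor k (self k C).functionField} (h : 0 ≤ D) : 0 < FunFld.ell D := by
  have hK := CurveFF.isFunctionField k hd h0
  have := FF.ell_mono hK h
  rw [FF.ell_zero hK] at this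
  omega

/-- General points as homomorphisms. -/
theorem exists_general [IsProper (self k C ↘ Spec (CommRingCat.of k))] [IsIntegral (self k C)]
    [VBLib.IsRegCurve (self k C)] (hd : topologicalKrullDim (self k C) = 1)
    (h0 : Module.finrank k (Coh.HH (self k C) (Coh.structureModule (self k C)) 0) = 1) (n : ℕ)
    (hn : n ≤ Curv2.genus k (self k C)) :
    ∃ x : Fin n → (Over.mk (𝟙 (Spec (CommRingCat.of k))) ⟶ Over.mk (C ↘ Spec (CommRingCat.of k))),
      FunFld.ell (∑ i, Finsupp.single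
        (CurveFF.placeOf k hd (pointClosed _ (𝟙 _) (x i)).1 (pointClosed _ (𝟙 _) (x i)).2) (1 : ℤ)) = 1 := by
  haveI := smooth_XT (C ↘ Spec (CommRingCat.of k)) (𝟙 (Spec (CommRingCat.of k)))
  haveI := geometricallyConnected_XT (C ↘ Spec (CommRingCat.of k)) (𝟙 (Spec (CommRingCat.of k)))
  obtain ⟨z, hz⟩ := exists_ell_one hd h0 n hn
  refine ⟨fun i => pointHom _ (𝟙 _) (z i).1 (z i).2, ?_⟩
  simp only [pointClosed_pointHom]
  exact hz

end Groth.Agent.JacLib
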