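import Groth.Agent.JacLib.AlgTrivial
import Groth.Agent.PicCurveSmoothLib.BaseChange

/-!
# Geometric points of `Pic⁰` and the Abel map on powers of the curve
-/

set_option autoImplicit false
set_option backward.isDefEq.respectTransparency false
set_option backward.isDefEq.respectTransparency.types false
set_option linter.style.haveILetI false
set_option maxHeartbeats 1600000

universe u

open CategoryTheory CategoryTheory.Limits AlgebraicGeometry
open Groth.Agent.PicLib Groth.Agent.AbDualLib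

noncomputable section

namespace Groth.Agent.JacLib

attribute [local instance] Curv2.stalkAlgebra
attribute [local instance high] FunFld.Place.algRes

/-- An fppf cover of an algebraically closed point has a rational point. -/
theorem exists_section_of_cover {Ω : Type u} [Field Ω] [IsAlgClosed Ω]
    {R : Presieve (Spec (CommRingCat.of Ω))} (hR : R ∈ Scheme.fppfPrecoverage (Spec (CommRingCat.of Ω))) :
    ∃ (U : Scheme.{u}) (u : U ⟶ Spec (CommRingCat.of Ω)) (s : Spec (CommRingCat.of Ω) ⟶ U),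
      R u ∧ s ≫ u = 𝟙 _ := by
  obtain ⟨U, u, hu, w, -⟩ := (Presieve.mem_comap_jointlySurjectivePrecoverage_iff _).1 hR.1 (IsLocalRing.closedPoint Ω)
  haveI : LocallyOfFinitePresentation u := (hR.2 hu).2
  haveI : JacobsonSpace U := LocallyOfFiniteType.jacobsonSpace u
  obtain ⟨z, -, hz⟩ := nonempty_inter_closedPoints (Z := (Set.univ : Set U)) ⟨w, trivial⟩ isOpen_univ.isLocallyClosed
  exact ⟨U, u, pointOfClosedPoint u z hz, hu, pointOfClosedPoint_comp u z hz⟩

theorem XTmap_id {C S : Scheme.{u}} (f : C ⟶ S) (T : Over S) : PicF.XTmap f (𝟙 T) = 𝟙 _ := by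
  apply pullback.hom_ext <;> simp [PicF.XTmap, pullback.map]

theorem exists_toCl {X : Scheme.{u}} {c : PicF.Cl X} (h : PicF.IsInvertibleCl c) : ∃ a : Pic X, toCl a = c := by
  obtain ⟨L, rfl, hL⟩ := h
  exact ⟨cls hL, rfl⟩

variable {C S : Scheme.{u}} (f : C ⟶ S) [IsProper f] [Smooth f] [GeometricallyConnected f]
  (hdim : ∀ s : S, topologicalKrullDim ↥(f.fiber s) = 1)
variable {P₀ : Over S} {φ₀ : ∀ T : Over S, PicF.Cl (PicF.XT f T) → (T ⟶ P₀)}
  (hP₀ : AbDual.IsRelPicZeroK Scheme.fppfPrecoverage f P₀ φ₀)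

/-- A class of degree zero on all fibres. -/
abbrev IsPZc (T : Over S) (a : Pic (PicF.XT f T)) : Prop := AbDual.IsPicZeroCl f T (toCl a)

include hdim in
theorem isPZc_iff (T : Over S) {L : (PicF.XT f T).Modules} (hL : PicF.IsInvertible L) :
    IsPZc f T (cls hL) ↔ ∀ t, PicDegLib.deg (PicF.XTproj f T) L t = 0 :=
  isPicZeroCl_iff f hdim T hL

include hdim in
theorem isPZc_pull {T T' : Over S} (g : T' ⟶ T) {a : Pic (PicF.XT f T)} (h : IsPZc f T a) :
    IsPZc f T' (pull (PicF.XTmap f g) a) := by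
  obtain ⟨L, hL, rfl⟩ := exists_cls a
  rw [pull_cls, isPZc_iff f hdim]
  intro t
  rw [PicDegLib.deg_XTmap g hL]
  exact (isPZc_iff f hdim T hL).1 h _

include hdim in
theorem isPZc_of_geometric {T : Over S} {a : Pic (PicF.XT f T)}
    (h : ∀ (Ω : Type u) [Field Ω] [IsAlgClosed Ω] (σ : Spec (CommRingCat.of Ω) ⟶ S) (g : Over.mk σ ⟶ T),
      IsPZc f (Over.mk σ) (pull (PicF.XTmap f g) a)) : IsPZc f T a := by
  obtain ⟨L, hL, rfl⟩ := exists_cls a
  rw [isPZc_iff f hdim]
  intro t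
  let Ω := AlgebraicClosure (T.left.residueField t)
  let p : Spec (CommRingCat.of Ω) ⟶ T.left :=
    Spec.map (CommRingCat.ofHom (algebraMap (T.left.residueField t) Ω)) ≫ T.left.fromSpecResidueField t
  let g : Over.mk (p ≫ T.hom) ⟶ T := Over.homMk p rfl
  have h1 := h Ω (p ≫ T.hom) g
  rw [pull_cls, isPZc_iff f hdim] at h1
  have h2 := h1 (IsLocalRing.closedPoint Ω)
  rw [PicDegLib.deg_XTmap g hL] at h2
  have hp : g.left (IsLocalRing.closedPoint Ω) = t := by
    show (Spec.map _ ≫ T.left.fromSpecResidueField t) _ = t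
    rw [Scheme.Hom.comp_apply]
    exact Scheme.fromSpecResidueField_apply t _
  rwa [hp] at h2

include hP₀ in
theorem phi_pull {T T' : Over S} (g : T' ⟶ T) {a : Pic (PicF.XT f T)} (h : IsPZc f T a) :
    φ₀ T' (toCl (pull (PicF.XTmap f g) a)) = g ≫ φ₀ T (toCl a) := by
  rw [toCl_pull]
  exact hP₀.natural T T' g _ h

variable {Ω : Type u} [Field Ω] [IsAlgClosed Ω] (σ : Spec (CommRingCat.of Ω) ⟶ S)

include hP₀ in
/-- Geometric points of `Pic⁰` are classes. -/
theorem eq_of_phi {a a' : Pic (PicF.XT f (Over.mk σ))} (h : IsPZc f _ a) (h' : IsPZc f _ a')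
    (e : φ₀ _ (toCl a) = φ₀ _ (toCl a')) : a = a' := by
  obtain ⟨R, hR, hRe⟩ := hP₀.locallyInjective (Over.mk σ) _ _ h h' e
  obtain ⟨U, u, s, hu, hs⟩ := exists_section_of_cover hR
  have he : pull (PicF.XTmap f (AbDual.ovrHom (Over.mk σ) u)) a = pull (PicF.XTmap f (AbDual.ovrHom (Over.mk σ) u)) a' :=
    toCl_injective ((toCl_pull _ _).trans ((hRe u hu).trans (toCl_pull _ _).symm))
  let g : Over.mk σ ⟶ AbDual.ovr (Over.mk σ) u := Over.homMk s (by
    show s ≫ u ≫ σ = σ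
    rw [← Category.assoc, hs, Category.id_comp])
  have hg : g ≫ AbDual.ovrHom (Over.mk σ) u = 𝟙 _ := Over.OverMorphism.ext hs
  have := congrArg (pull (PicF.XTmap f g)) he
  rwa [InvDescLib.pull_XTmap_XTmap _ _ hg, InvDescLib.pull_XTmap_XTmap _ _ hg,
    XTmap_id, pull_id, pull_id] at this

include hdim hP₀ in
theorem exists_class (g : Over.mk σ ⟶ P₀) :
    ∃ a : Pic (PicF.XT f (Over.mk σ)), IsPZc f _ a ∧ φ₀ _ (toCl a) = g := by
  obtain ⟨R, hR, hRs⟩ := hP₀.locallySurjective (Over.mk σ) g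
  obtain ⟨U, u, s, hu, hs⟩ := exists_section_of_cover hR
  obtain ⟨c, hc, hφ⟩ := hRs u hu
  obtain ⟨a, rfl⟩ := exists_toCl (show PicF.IsInvertibleCl c from
    let ⟨L, h1, h2, _⟩ := hc; ⟨L, h1, h2⟩)
  let m : Over.mk σ ⟶ AbDual.ovr (Over.mk σ) u := Over.homMk s (by
    show s ≫ u ≫ σ = σ
    rw [← Category.assoc, hs, Category.id_comp])
  have hm : m ≫ AbDual.ovrHom (Over.mk σ) u = 𝟙 _ := Over.OverMorphism.ext hs
  refine ⟨pull (PicF.XTmap f m) a, isPZc_pull f hdim m hc, ?_⟩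
  rw [phi_pull f hP₀ m hc, hφ, ← Category.assoc, hm, Category.id_comp]

theorem genus_XT : @Curv2.genus Ω _ (PicF.XT f (Over.mk σ)) ⟨PicF.XTproj f (Over.mk σ)⟩ =
    CohIII.fiberRank f (Coh.structureModule C) 1 (σ (IsLocalRing.closedPoint Ω)) := by
  letI : (PicF.XT f (Over.mk σ)).Over (Spec (CommRingCat.of Ω)) := ⟨PicF.XTproj f (Over.mk σ)⟩
  haveI : IsProper (PicF.XT f (Over.mk σ) ↘ Spec (CommRingCat.of Ω)) := inferInstanceAs (IsProper (pullback.snd f σ))
  haveI : Coh.IsQCoh (Coh.structureModule C) :=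
    PicDegLib.isQCoh_invertible ParaFLib.isInvertible_structureModule
  haveI : Coh.IsQCoh (Coh.structureModule (PicF.XT f (Over.mk σ))) :=
    PicDegLib.isQCoh_invertible ParaFLib.isInvertible_structureModule
  rw [Curv2.genus, ← fiberRank_eq_finrank (Coh.structureModule _) 1 (IsLocalRing.closedPoint Ω),
    ← BCLib.fiberRank_baseChange (IsPullback.of_hasPullback f σ) (Coh.structureModule C) 1 (IsLocalRing.closedPoint Ω)]
  exact BCLib.fiberRank_congr _ (DCohLib.pullStructureIso (pullback.fst f σ)).symm 1 _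

variable (e : S ⟶ C) (he : e ≫ f = 𝟙 S) [SmoothOfRelativeDimension 1 f]

include hdim in
theorem isPZc_div_pow {n : ℕ} (x : Fin n → (Over.mk σ ⟶ Over.mk f)) (b : Over.mk σ ⟶ Over.mk f) :
    IsPZc f (Over.mk σ) ((∏ i, pt f (x i)) / pt f b ^ n) := by
  classical
  letI : (PicF.XT f (Over.mk σ)).Over (Spec (CommRingCat.of Ω)) := ⟨PicF.XTproj f (Over.mk σ)⟩
  haveI : IsProper (PicF.XT f (Over.mk σ) ↘ Spec (CommRingCat.of Ω)) := isProper_XT f σ
  haveI : Smooth (PicF.XT f (Over.mk σ) ↘ Spec (CommRingCat.of Ω)) := smooth_XT f σ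
  haveI : GeometricallyConnected (PicF.XT f (Over.mk σ) ↘ Spec (CommRingCat.of Ω)) := geometricallyConnected_XT f σ
  have hd := dim_XT f σ hdim
  obtain ⟨hint, hreg, h0⟩ := setup_of_smooth_connected Ω (PicF.XT f (Over.mk σ)) hd
  haveI := hint; haveI := hreg
  let zx := fun i => pointClosed f σ (x i)
  let zb := pointClosed f σ b
  have hnum := hasDiv_prod hd Finset.univ _ _ fun i => hasDiv_ptc hd h0 (zx i).1 (zx i).2
  have hden := hasDiv_prod hd (Finset.univ : Finset (Fin n)) _ _ fun _ => hasDiv_ptc hd h0 zb.1 zb.2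
  simp only [zx, zb, ← pt_eq_ptc, Finset.prod_const, Finset.card_univ, Fintype.card_fin] at hnum hden
  have h := hasDiv_mul hd hnum (hasDiv_inv hd h0 hden)
  rw [← div_eq_mul_inv] at h
  obtain ⟨L, hL, hLc⟩ := exists_cls ((∏ i, pt f (x i)) / pt f b ^ n)
  rw [← hLc, isPZc_iff f hdim]
  intro t
  have hdeg := deg_of_hasDiv hd h0 hL (hLc ▸ h)
  rw [FF.deg_add, FF.deg_neg, deg_eq_card hd h0, deg_eq_card hd h0, add_neg_cancel] at hdeg
  exact (deg_eq hd.le hL t).trans hdeg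

include hdim in
theorem isPZc_fam0 (n : ℕ) : IsPZc f (pow f n) (fam0 f e he n) := by
  refine isPZc_of_geometric f hdim fun Ω _ _ σ g => ?_
  rw [pull_fam0]
  exact isPZc_div_pow f hdim σ _ _

/-- The Abel map of a power of the curve. -/
def abel (φ₀ : ∀ T : Over S, PicF.Cl (PicF.XT f T) → (T ⟶ P₀)) (n : ℕ) : pow f n ⟶ P₀ :=
  φ₀ (pow f n) (toCl (fam0 f e he n))

include hdim hP₀ in
theorem comp_abel {T : Over S} {n : ℕ} (w : T ⟶ pow f n) :
    w ≫ abel f e he φ₀ n = φ₀ T (toCl ((∏ i, pt f (comps f n w i)) / pt f (basePt f e he T) ^ n)) := by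
  rw [abel, ← phi_pull f hP₀ w (isPZc_fam0 f hdim e he n), pull_fam0]

include hdim hP₀ in
theorem tuple_abel {T : Over S} {n : ℕ} (x : Fin n → (T ⟶ Over.mk f)) :
    tuple f n x ≫ abel f e he φ₀ n = φ₀ T (toCl ((∏ i, pt f (x i)) / pt f (basePt f e he T) ^ n)) := by
  rw [abel, ← phi_pull f hP₀ (tuple f n x) (isPZc_fam0 f hdim e he n), pull_tuple_fam0]

include hdim hP₀ in
/-- Geometric points lift along the Abel map of high power. -/
theorem exists_lift_point {n : ℕ} (hn : CohIII.fiberRank f (Coh.structureModule C) 1 (σ (IsLocalRing.closedPoint Ω)) ≤ n)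
    (g : Over.mk σ ⟶ P₀) : ∃ w : Over.mk σ ⟶ pow f n, w ≫ abel f e he φ₀ n = g := by
  classical
  obtain ⟨a, ha, rfl⟩ := exists_class f hdim hP₀ σ g
  letI : (PicF.XT f (Over.mk σ)).Over (Spec (CommRingCat.of Ω)) := ⟨PicF.XTproj f (Over.mk σ)⟩
  haveI : IsProper (PicF.XT f (Over.mk σ) ↘ Spec (CommRingCat.of Ω)) := isProper_XT f σ
  haveI : Smooth (PicF.XT f (Over.mk σ) ↘ Spec (CommRingCat.of Ω)) := smooth_XT f σ
  haveI : GeometricallyConnected (PicF.XT f (Over.mk σ) ↘ Spec (CommRingCat.of Ω)) := geometricallyConnected_XT f σ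
  have hd := dim_XT f σ hdim
  obtain ⟨hint, hreg, h0⟩ := setup_of_smooth_connected Ω (PicF.XT f (Over.mk σ)) hd
  haveI := hint; haveI := hreg
  obtain ⟨L, hL, rfl⟩ := exists_cls a
  have hdegL : Curv2.deg Ω (PicF.XT f (Over.mk σ)) L 1 = 0 :=
    (deg_eq hd.le hL (IsLocalRing.closedPoint Ω)).symm.trans ((isPZc_iff f hdim _ hL).1 ha _)
  let b := basePt f e he (Over.mk σ)
  obtain ⟨D, hD⟩ := exists_hasDiv hd h0 (cls hL)
  have hDd : D.deg = 0 := (deg_of_hasDiv hd h0 hL hD).symm.trans hdegL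
  have hb := hasDiv_prod hd (Finset.univ : Finset (Fin n)) _ _ fun _ =>
    hasDiv_ptc hd h0 (pointClosed f σ b).1 (pointClosed f σ b).2
  simp only [← pt_eq_ptc, Finset.prod_const, Finset.card_univ, Fintype.card_fin] at hb
  obtain ⟨N, hN, hNc⟩ := exists_cls (cls hL * pt f b ^ n)
  have hNd : Curv2.deg Ω (PicF.XT f (Over.mk σ)) N 1 = n := by
    rw [deg_of_hasDiv hd h0 hN (hNc ▸ hasDiv_mul hd hD hb), FF.deg_add, hDd, deg_eq_card hd h0, zero_add]
  obtain ⟨x, hx⟩ := exists_eq_prod_pt f σ hd h0 hN n hNd ((genus_XT f σ).le.trans hn)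
  refine ⟨tuple f n x, ?_⟩
  rw [tuple_abel f hdim hP₀ e he, ← hx, hNc, mul_div_cancel_right]

include hdim hP₀ in
/-- The Abel map of a high enough power is surjective. -/
theorem surjective_abel {n : ℕ} (hn : ∀ s, CohIII.fiberRank f (Coh.structureModule C) 1 s ≤ n) :
    Surjective (abel f e he φ₀ n).left := by
  refine ⟨fun p => ?_⟩
  let Ω := AlgebraicClosure (P₀.left.residueField p)
  let q : Spec (CommRingCat.of Ω) ⟶ P₀.left :=
    Spec.map (CommRingCat.ofHom (algebraMap (P₀.left.residueField p) Ω)) ≫ P₀.left.fromSpecResidueField p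
  let g : Over.mk (q ≫ P₀.hom) ⟶ P₀ := Over.homMk q rfl
  obtain ⟨w, hw⟩ := exists_lift_point f hdim hP₀ (q ≫ P₀.hom) e he (hn _) g
  refine ⟨w.left (IsLocalRing.closedPoint Ω), ?_⟩
  have h := congrArg (fun m : _ ⟶ P₀ => m.left (IsLocalRing.closedPoint Ω)) hw
  simp only [Over.comp_left, Scheme.Hom.comp_apply] at h
  rw [h]
  show (Spec.map _ ≫ P₀.left.fromSpecResidueField p) _ = p
  rw [Scheme.Hom.comp_apply]
  exact Scheme.fromSpecResidueField_apply p _

end Groth.Agent.JacLib
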