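import Groth.Agent.JacLib.RatTwist
import Groth.Agent.IntLib.Cls

/-!
# Subtracting rational points down to one section
-/

set_option autoImplicit false
set_option backward.isDefEq.respectTransparency false
set_option backward.isDefEq.respectTransparency.types false
set_option linter.style.haveILetI false
set_option maxHeartbeats 1000000

universe u

open CategoryTheory CategoryTheory.Limits AlgebraicGeometry TopologicalSpace
open Groth.Agent.PicLib Groth.Agent.CurveFF

noncomputable section

namespace Groth.Agent.JacLib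

variable {k : Type u} [Field k] [IsSepClosed k] {X : Scheme.{u}} [X.Over (Spec (CommRingCat.of k))]
  [IsProper (X ↘ Spec (CommRingCat.of k))] [Smooth (X ↘ Spec (CommRingCat.of k))] [IsIntegral X]
  (hdim : topologicalKrullDim X = 1)

include hdim in
/-- Rational points cutting a nonspecial system down to one section. -/
theorem exists_sub_points : ∀ (n : ℕ) (L : X.Modules), PicF.IsInvertible L →
    Subsingleton (Coh.HH X L 1) → Module.finrank k (Coh.HH X L 0) = n + 1 →
    ∃ σ : Fin n → (Spec (CommRingCat.of k) ⟶ X), (∀ t, σ t ≫ (X ↘ Spec (CommRingCat.of k)) = 𝟙 _) ∧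
      Module.finrank k (Coh.HH X (CohB1.tensorMod L (FGA.tensorList (List.ofFn fun t : Fin n =>
        ClSub.idealMod (σ t).ker))) 0) = 1
  | 0, L, hL, h1, h0 => ⟨Fin.elim0, fun t => t.elim0, by
      rw [List.ofFn_zero]
      exact (ShBCLib.finrank_HH_iso (AmpleLib.unitR L) 0).trans h0⟩
  | n + 1, L, hL, h1, h0 => by
    obtain ⟨hr, hh⟩ := setup_sepClosed (k := k) hdim
    haveI := hr
    obtain ⟨B, hB, hstep⟩ := twist_step hdim hh hL h1 (by omega)
    obtain ⟨σ, hσ, hav⟩ := exists_section_avoid (k := k) hdim hB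
    obtain ⟨hI, -⟩ := section_divisor hdim σ hσ
    have hM := AmpleLib.isInvertible_tensor hL hI
    obtain ⟨a, b⟩ := hstep σ hσ hav _ hM hI (cls_tensor hL hI)
    obtain ⟨τ, hτ, hτ1⟩ := exists_sub_points n _ hM b (by omega)
    refine ⟨Fin.cons σ τ, Fin.cases hσ hτ, ?_⟩
    refine Eq.trans ?_ hτ1
    refine ShBCLib.finrank_HH_iso (IntLib.mk_eq_mk.1 ?_).some 0
    simp only [IntLib.mk_tensor, IntLib.mk_tensorList, List.ofFn_succ, List.map_cons, List.prod_cons,
      Fin.cons_zero, Fin.cons_succ, mul_assoc]

end Groth.Agent.JacLib
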