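import Groth.Agent.CurveFF.BC
import Groth.Agent.CurveFF.Morph
import Groth.Agent.CurveFF.Genus
import Groth.Agent.CurveFF.CanGen
import Groth.Agent.CurveLib.MaxSections
import Groth.Agent.FF.CharP
import Groth.Agent.FF.Conorm
import Groth.Agent.FF.SepGen
import Groth.Agent.FF.Misc
import Groth.Agent.CurveFF.GenEtale
import Mathlib.RingTheory.Spectrum.Prime.Chevalley

/-!
# A separating function of small degree on a curve

The field `k K^p` of a curve is the function field of its Frobenius twist, hence has the same genus;
so the sections of a canonical divisor cannot all have vanishing differential.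
-/

set_option autoImplicit false
set_option backward.isDefEq.respectTransparency false
set_option maxHeartbeats 800000
set_option linter.style.haveILetI false

universe u

open CategoryTheory CategoryTheory.Limits AlgebraicGeometry TopologicalSpace
open scoped WithZero IntermediateField

noncomputable section

namespace Groth.Agent.JacLib.Pencil

open Groth.Agent.CurveFF

attribute [local instance] Curv2.stalkAlgebra
attribute [local instance high] FunFld.Place.algRes

variable {k : Type u} [Field k] {X : Scheme.{u}} [X.Over (Spec (CommRingCat.of k))]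
  [IsProper (X ↘ Spec (CommRingCat.of k))] [Smooth (X ↘ Spec (CommRingCat.of k))] [IsIntegral X]

/-- The function field of a smooth curve is geometric. -/
theorem isGeometric (hK : FunFld.IsFunctionField k X.functionField) :
    FunFld.IsGeometric k X.functionField := by
  obtain ⟨U, hU, hηU, -⟩ := exists_isAffineOpen_mem_and_subset (x := genericPoint X) (U := (⊤ : X.Opens)) trivial
  haveI : Nonempty U := ⟨⟨_, hηU⟩⟩
  let A := Γ(X, U)
  let φ : k →+* A := (X.presheaf.map (homOfLE (le_top : U ≤ ⊤)).op).hom.comp
    (Coh.toGlobal (X ↘ Spec (CommRingCat.of k)))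
  letI : Algebra k A := φ.toAlgebra
  haveI : IsScalarTower k A X.functionField := IsScalarTower.of_algebraMap_eq fun c =>
    (TopCat.Presheaf.germ_res_apply X.presheaf _ _ _ _).symm
  haveI : IsFractionRing A X.functionField := functionField_isFractionRing_of_isAffineOpen X U hU
  haveI : Algebra.Smooth k A := by
    have h := HasRingHomProperty.appLE (P := @Smooth) (X ↘ Spec (CommRingCat.of k)) inferInstance
      ⟨⊤, isAffineOpen_top _⟩ ⟨U, hU⟩ le_top
    have h2 := RingHom.Smooth.stableUnderComposition _ _
      (RingHom.Smooth.of_bijective (Scheme.ΓSpecIso (CommRingCat.of k)).symm.commRingCatIsoToRingEquiv.bijective) h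
    exact RingHom.smooth_algebraMap.1 h2
  haveI : Algebra.FormallySmooth A X.functionField := Algebra.FormallySmooth.of_isLocalization (nonZeroDivisors A)
  haveI : Algebra.FormallySmooth k X.functionField := Algebra.FormallySmooth.comp k A X.functionField
  haveI := Groth.Agent.FieldExtLib.formallySmooth_iff_isGeometricallyReduced.1
    (inferInstance : Algebra.FormallySmooth k X.functionField)
  exact FF.isGeometric_of_reduced hK fun k' _ _ _ => inferInstance

section Twist

theorem aux (L : Type u) [Field L] {Y : Scheme.{u}} [Y.Over (Spec (CommRingCat.of L))] [IsIntegral Y] {M : Type u}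
    [Field M] [Algebra L M] {q : Y} (β : Y.presheaf.stalk q ⟶ CommRingCat.of M) (hq : q = genericPoint Y)
    (h : ∀ c, β.hom (Curv2.stalkMap L Y q c) = algebraMap L M c) :
    ∃ b : Y.functionField →+* M, (∀ c, b (algebraMap L _ c) = algebraMap L M c) ∧ Set.range β.hom ⊆ Set.range b := by
  subst hq
  exact ⟨β.hom, h, le_rfl⟩

variable (hdim : topologicalKrullDim X = 1) (h0 : Module.finrank k (Coh.HH X (Coh.structureModule X) 0) = 1)
include hdim h0

/-- A map from the function field which is semilinear along a field extension extends to the function field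
of the base change. -/
theorem exists_algHom_bc (L : Type u) [Field L] [Algebra k L] [IsIntegral (Curv2.bc k X L)] {M : Type u} [Field M]
    [Algebra L M] (ψ₀ : X.functionField →+* M)
    (hψ : ∀ c, ψ₀ (algebraMap k X.functionField c) = algebraMap L M (algebraMap k L c))
    {t : X.functionField} (ht : Transcendental L (ψ₀ t)) :
    ∃ ψ : (Curv2.bc k X L).functionField →ₐ[L] M, Set.range ψ₀ ⊆ Set.range ψ := by
  obtain ⟨hsm, -, hreg, hdimY⟩ := setup_bc k hdim h0 L
  haveI := hsm
  haveI := hreg
  let η := genericPoint X
  have hover : (Spec.map (CommRingCat.ofHom ψ₀) ≫ X.fromSpecStalk η) ≫ (X ↘ Spec (CommRingCat.of k)) =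
      Spec.map (CommRingCat.ofHom (algebraMap L M)) ≫ Spec.map (CommRingCat.ofHom (algebraMap k L)) := by
    rw [Category.assoc, fromSpecStalk_over, ← Spec.map_comp, ← Spec.map_comp, ← CommRingCat.ofHom_comp,
      ← CommRingCat.ofHom_comp]
    exact congrArg (fun r => Spec.map (CommRingCat.ofHom r)) (RingHom.ext hψ)
  let f : Spec (CommRingCat.of M) ⟶ Curv2.bc k X L :=
    pullback.lift (Spec.map (CommRingCat.ofHom ψ₀) ≫ X.fromSpecStalk η)
      (Spec.map (CommRingCat.ofHom (algebraMap L M))) hover
  have hf1 : f ≫ Curv2.bcFst k X L = Spec.map (CommRingCat.ofHom ψ₀) ≫ X.fromSpecStalk η := pullback.lift_fst _ _ _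
  have hf2 : f ≫ (Curv2.bc k X L ↘ Spec (CommRingCat.of L)) = Spec.map (CommRingCat.ofHom (algebraMap L M)) :=
    pullback.lift_snd _ _ _
  let q := f (IsLocalRing.closedPoint M)
  let β := Scheme.stalkClosedPointTo f
  have hβ : Spec.map β ≫ (Curv2.bc k X L).fromSpecStalk q = f := Scheme.Spec_stalkClosedPointTo_fromSpecStalk f
  have hβL : ∀ c, β.hom (Curv2.stalkMap L (Curv2.bc k X L) q c) = algebraMap L M c := by
    have h := hf2
    rw [← hβ, Category.assoc, fromSpecStalk_over, ← Spec.map_comp] at h
    exact fun c => congr($(Spec.map_injective h).hom c)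
  have hη : η ⤳ Curv2.bcFst k X L q := (genericPoint_spec X).specializes trivial
  have hqη : Curv2.bcFst k X L q = η := by
    have h := congr($hf1 (IsLocalRing.closedPoint M))
    simp only [Scheme.Hom.comp_base, TopCat.coe_comp, Function.comp_apply] at h
    refine h.trans ?_
    have e : (Spec.map (CommRingCat.ofHom ψ₀)) (IsLocalRing.closedPoint M) = IsLocalRing.closedPoint X.functionField :=
      Subsingleton.elim (α := PrimeSpectrum X.functionField) _ _
    rw [e]
    exact Scheme.fromSpecStalk_closedPoint
  have key : ∀ a, ψ₀ ((X.presheaf.stalkSpecializes hη).hom a) = β.hom (((Curv2.bcFst k X L).stalkMap q).hom a) := by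
    have h := hf1
    rw [← hβ, Category.assoc, ← Scheme.SpecMap_stalkMap_fromSpecStalk,
      ← Scheme.SpecMap_stalkSpecializes_fromSpecStalk hη, ← Category.assoc, ← Category.assoc, ← Spec.map_comp,
      ← Spec.map_comp, cancel_mono] at h
    exact fun a => congr($(Spec.map_injective h).hom a).symm
  have hrange : Set.range ψ₀ ⊆ Set.range β.hom := by
    rintro _ ⟨z, rfl⟩
    have hη' : Curv2.bcFst k X L q ⤳ η := by rw [hqη]
    refine ⟨((Curv2.bcFst k X L).stalkMap q).hom ((X.presheaf.stalkSpecializes hη').hom z), ?_⟩
    rw [← key]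
    congr 1
    exact congr($((X.presheaf.stalkSpecializes_comp hη hη').trans (TopCat.Presheaf.stalkSpecializes_refl _ _)).hom z)
  have hq : q = genericPoint (Curv2.bc k X L) := by
    by_contra hne
    have hcl : IsClosed ({q} : Set (Curv2.bc k X L)) :=
      by_contra fun h => hne (eq_generic_of_not_closed L hdimY h)
    letI := Curv2.resAlgebra L (Curv2.bc k X L) q
    haveI : FiniteDimensional L ((Curv2.bc k X L).residueField q) := Module.finite_of_finrank_pos (by
      rw [← deg_placeOf hdimY hcl]
      exact FF.deg_pos (CurveFF.isFunctionField L hdimY ((finrank_H0_bc_structure k (X := X) L).trans h0)) _)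
    obtain ⟨a, ha⟩ := hrange ⟨t, rfl⟩
    let ρ : (Curv2.bc k X L).residueField q →ₐ[L] M :=
      { toRingHom := ((Curv2.bc k X L).descResidueField β).hom
        commutes' := fun c => by
          refine Eq.trans ?_ (hβL c)
          exact congr($((Curv2.bc k X L).residue_descResidueField β).hom _) }
    refine ht ?_
    rw [← ha]
    have h : ρ (((Curv2.bc k X L).residue q).hom a) = β.hom a :=
      congr($((Curv2.bc k X L).residue_descResidueField β).hom a)
    exact h ▸ (IsAlgebraic.of_finite L _).algHom ρ
  obtain ⟨b, hbq, hb⟩ := aux L β hq hβL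
  exact ⟨{ toRingHom := b, commutes' := hbq }, hrange.trans hb⟩

/-- On a curve of positive genus an effective divisor of positive degree has at most its degree many
independent sections. -/
theorem ell_le_deg (hg : 1 ≤ Curv2.genus k X) {D : FunFld.Divisor k X.functionField} (hd : 0 < D.deg) :
    (FunFld.ell D : ℤ) ≤ D.deg := by
  haveI := EulerIneqLib.isNoetherian_proper (X := X) k
  haveI := VBLib.isRegCurve_of_smooth (X := X) k hdim.le
  obtain ⟨L, e, hL, he, hD⟩ := exists_module hdim h0 D
  have hh := finrank_H0_eq_ell hdim hL he hD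
  have hdd := (genus_and_deg hdim h0 hL he hD).2
  rcases Nat.eq_zero_or_pos (FunFld.ell D) with hz | hz
  · omega
  haveI : Nontrivial (Coh.HH X L 0) := Module.nontrivial_of_finrank_pos (R := k) (by omega)
  obtain ⟨h1, h2⟩ := CurveLib.h0_le_deg_add_one (k := k) hdim.le h0 hL
  by_contra hgt
  push Not at hgt
  have := h2 (by omega) (by omega)
  omega

/-- In genus at least two some function with nonzero differential has degree at most `2g - 2`. -/
theorem exists_separating_le (p : ℕ) [Fact p.Prime] [CharP k p] (hg : 2 ≤ Curv2.genus k X) :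
    ∃ z : X.functionField, KaehlerDifferential.D k X.functionField z ≠ 0 ∧
      Module.finrank k⟮z⟯ X.functionField ≤ 2 * Curv2.genus k X - 2 := by
  classical
  haveI := EulerIneqLib.isNoetherian_proper (X := X) k
  haveI := VBLib.isRegCurve_of_smooth (X := X) k hdim.le
  have hK := CurveFF.isFunctionField k hdim h0
  have hgeo := isGeometric hK
  have hgF := CurveFF.genus_eq hdim h0
  haveI : CharP X.functionField p := charP_of_injective_algebraMap (algebraMap k X.functionField).injective p
  -- an effective canonical divisor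
  obtain ⟨C, hC⟩ := FF.exists_canonical hK
  obtain ⟨hC1, hC2⟩ := FF.canonical_deg hK hC
  obtain ⟨f₀, hf₀, hf₀L⟩ := FF.exists_ne_zero_of_ell_pos (D := C) (by omega)
  set D := C + FunFld.div k f₀
  have hD0 : 0 ≤ D := FF.le_add_div_of_mem_L hK hf₀ hf₀L
  have hDdeg : D.deg = 2 * (Curv2.genus k X : ℤ) - 2 := by
    rw [FF.deg_add, FF.deg_div hK, hC2, hgF, add_zero]
  have hDell : FunFld.ell D = Curv2.genus k X := by rw [FF.ell_add_div hK C hf₀, hC1, hgF]
  by_contra hcon
  push Not at hcon
  -- all sections have vanishing differential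
  have hzero : ∀ v ∈ FunFld.L D, KaehlerDifferential.D k X.functionField v = 0 := by
    intro v hv
    by_contra hne
    have hv' := FF.transcendental_of_D_ne_zero hK hne
    have hv0 : v ≠ 0 := fun h => hv' (h ▸ isAlgebraic_zero)
    have hd := FF.deg_zeros hK (x := v⁻¹) (fun h => hv' (by simpa using h.inv))
    rw [FF.adjoin_inv] at hd
    have hle : FF.zeros (k := k) v⁻¹ ≤ D := fun Q => by
      rw [FF.zeros_apply hK, FF.ord_inv]
      have := (FF.mem_L_iff_ord hv0).1 hv Q
      have := hD0 Q
      simp only [Finsupp.coe_zero, Pi.zero_apply] at this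
      omega
    have h2 := FF.deg_mono hle
    have h3 := hcon v hne
    omega
  -- the Frobenius twist
  let P := FF.powField k X.functionField p
  letI algF : Algebra k k := (frobenius k p).toAlgebra
  let ψ₀ : X.functionField →+* P :=
    (frobenius X.functionField p).codRestrict P fun y => FF.pow_mem_powField y
  obtain ⟨t, ht⟩ := hK.1
  have key : ∀ (L : Type u) [Field L] [Algebra k L] [IsIntegral (Curv2.bc k X L)] {M : Type u} [Field M] [Algebra L M]
      (ψ₀ : X.functionField →+* M)
      (_ : ∀ c, ψ₀ (algebraMap k X.functionField c) = algebraMap L M (algebraMap k L c))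
      (_ : Transcendental L (ψ₀ t)),
      ∃ ψ : (Curv2.bc k X L).functionField →ₐ[L] M, Set.range ψ₀ ⊆ Set.range ψ :=
    fun L _ _ _ _ _ _ ψ₀ h1 h2 => exists_algHom_bc hdim h0 L ψ₀ h1 h2
  obtain ⟨-, hi, hreg, hdimY⟩ := @setup_bc k _ X _ _ _ hdim h0 k _ algF
  have h0Y := (@finrank_H0_bc_structure k _ X _ _ k _ algF).trans h0
  have hgY : Curv2.genus k (@Curv2.bc k _ X _ k _ algF) = Curv2.genus k X := @genus_bc k _ X _ _ k _ algF
  obtain ⟨ψ, hψ⟩ := @key k _ algF hi P _ P.algebra' ψ₀ (fun c => Subtype.ext (by
      show (algebraMap k X.functionField c) ^ p = algebraMap k X.functionField (c ^ p)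
      rw [map_pow])) (fun h => ht.1.pow (Fact.out : p.Prime).pos (h.algHom P.val))
  set Y := @Curv2.bc k _ X _ k _ algF
  haveI : IsIntegral Y := hi
  haveI : VBLib.IsRegCurve Y := hreg
  let ψ' := P.val.comp ψ
  clear key
  have hKY := CurveFF.isFunctionField k (X := Y) hdimY h0Y
  letI algM : Algebra Y.functionField X.functionField := ψ'.toRingHom.toAlgebra
  haveI : IsScalarTower k Y.functionField X.functionField := IsScalarTower.of_algebraMap_eq fun c => (ψ'.commutes c).symm
  have hrange : ∀ y : X.functionField, y ∈ P ↔ y ∈ ψ'.fieldRange := by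
    refine fun y => ⟨fun hy => ?_, fun ⟨a, ha⟩ => ha ▸ (ψ a).2⟩
    refine (IntermediateField.adjoin_le_iff.2 ?_) hy
    rintro _ ⟨z, rfl⟩
    obtain ⟨a, ha⟩ := hψ ⟨z, rfl⟩
    exact ⟨a, congrArg Subtype.val ha⟩
  haveI hfin : FiniteDimensional Y.functionField X.functionField := by
    obtain ⟨a, ha⟩ := hψ ⟨t, rfl⟩
    have htp : Transcendental k (t ^ p) := ht.1.pow (Fact.out : p.Prime).pos
    haveI := FF.finiteDimensional_adjoin hK htp
    let E : IntermediateField k X.functionField := ψ'.fieldRange
    have hle : k⟮t ^ p⟯ ≤ E := IntermediateField.adjoin_simple_le_iff.2 ⟨a, congrArg Subtype.val ha⟩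
    haveI : FiniteDimensional E X.functionField := by
      letI := (IntermediateField.inclusion hle).toRingHom.toAlgebra
      haveI : IsScalarTower k⟮t ^ p⟯ E X.functionField := IsScalarTower.of_algebraMap_eq fun _ => rfl
      exact Module.Finite.of_restrictScalars_finite k⟮t ^ p⟯ E X.functionField
    let eE : Y.functionField ≃+* E := (AlgEquiv.ofInjectiveField ψ').toRingEquiv
    exact Module.Finite.of_equiv_equiv eE.symm (RingEquiv.refl X.functionField) (RingHom.ext fun z => by
      show ψ' (eE.symm z) = (z : X.functionField)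
      exact congrArg Subtype.val (eE.apply_symm_apply z))
  have htwo : 2 ≤ Module.finrank Y.functionField X.functionField := by
    obtain ⟨x, hx, hxs⟩ := FF.exists_separating hK hgeo
    by_contra hlt
    have h1 : Module.finrank Y.functionField X.functionField = 1 := by
      have : 0 < Module.finrank Y.functionField X.functionField := Module.finrank_pos
      omega
    obtain ⟨c, hc⟩ := (finrank_eq_one_iff_of_nonzero' (1 : X.functionField) one_ne_zero).1 h1 x
    refine FF.D_ne_zero_of_separating hx (FF.D_eq_zero_of_mem_powField _ ((hrange x).2 ⟨c, ?_⟩))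
    rw [← hc, Algebra.smul_def, mul_one]
    rfl
  -- the preimage of the sections
  haveI := FF.finite_L hK D
  let V : Submodule k Y.functionField := (FunFld.L D).comap ψ'.toLinearMap
  have hVmap : V.map ψ'.toLinearMap = FunFld.L D := by
    refine Submodule.map_comap_eq_of_le fun v hv => ?_
    exact (hrange v).1 ((FF.mem_powField_iff hK hgeo).2 (hzero v hv))
  have hVfin : Module.finrank k V = Curv2.genus k X := by
    rw [← hDell, FunFld.ell, ← hVmap]
    exact (Submodule.equivMapOfInjective _ ψ'.toRingHom.injective V).finrank_eq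
  haveI : FiniteDimensional k V := Module.finite_of_finrank_pos (by omega)
  obtain ⟨s, hs⟩ : V.FG := Module.Finite.iff_fg.1 inferInstance
  have hsV : ∀ v ∈ s, v ∈ V := fun v hv => hs ▸ Submodule.subset_span hv
  obtain ⟨E, hE0, hsE, hED⟩ : ∃ E : FunFld.Divisor k Y.functionField, 0 ≤ E ∧
      (∀ v ∈ s, v ∈ FunFld.L E) ∧ FunFld.conorm X.functionField E ≤ D := by
    clear hs
    induction s using Finset.induction with
    | empty => exact ⟨0, le_rfl, by simp, by simpa [FunFld.conorm] using hD0⟩
    | insert v s _ ih =>
      obtain ⟨E, hE0, hsE, hED⟩ := ih fun w hw => hsV w (Finset.mem_insert_of_mem hw)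
      refine ⟨E ⊔ FF.zeros (k := k) v⁻¹, hE0.trans le_sup_left, fun w hw => ?_, fun Q => ?_⟩
      · rcases Finset.mem_insert.1 hw with rfl | hw
        · rcases eq_or_ne w 0 with rfl | hw0
          · exact zero_mem _
          refine FF.L_mono le_sup_right ((FF.mem_L_iff_ord hw0).2 fun Q => ?_)
          rw [FF.zeros_apply hKY, FF.ord_inv]
          omega
        · exact FF.L_mono le_sup_left (hsE w hw)
      · obtain ⟨R, hR⟩ := FF.exists_isOver hKY Q
        have h1 := hED Q
        rw [FF.conorm_apply hKY _ hR] at h1
        rw [FF.conorm_apply hKY _ hR, Finsupp.sup_apply, FF.zeros_apply hKY, FF.ord_inv]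
        rcases eq_or_ne v 0 with rfl | hv0
        · rw [FF.ord_zero, neg_zero, max_self, sup_eq_left.2 (by simpa using hE0 R)]
          exact h1
        have h2 := hsV v (Finset.mem_insert_self _ _)
        have hv0' : algebraMap Y.functionField X.functionField v ≠ 0 := by simpa using hv0
        have h3 := (FF.mem_L_iff_ord hv0').1 h2 Q
        rw [FF.ord_of_isOverWith (FF.isOverWith_ramIdx hR)] at h3
        have h4 := hD0 Q
        simp only [Finsupp.coe_zero, Pi.zero_apply] at h4
        rcases max_cases (E R) (max (-R.ord v) 0) with ⟨e, -⟩ | ⟨e, -⟩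
        · rw [show E R ⊔ max (-R.ord v) 0 = E R from e]; exact h1
        · rw [show E R ⊔ max (-R.ord v) 0 = max (-R.ord v) 0 from e]
          rcases max_cases (-R.ord v) 0 with ⟨e', -⟩ | ⟨e', -⟩ <;> rw [e']
          · rw [mul_neg]; omega
          · rw [mul_zero]; exact h4
  have hVE : V ≤ FunFld.L E := hs ▸ Submodule.span_le.2 hsE
  haveI := FF.finite_L hKY E
  have hellE : Curv2.genus k X ≤ FunFld.ell E := hVfin ▸ Submodule.finrank_mono hVE
  have hdegE : 2 * E.deg ≤ 2 * (Curv2.genus k X : ℤ) - 2 := by
    have h1 := FF.deg_mono hED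
    rw [FF.deg_conorm hKY, hDdeg] at h1
    have h2 := FF.deg_nonneg hE0
    calc 2 * E.deg ≤ (Module.finrank Y.functionField X.functionField : ℤ) * E.deg :=
          mul_le_mul_of_nonneg_right (by exact_mod_cast htwo) h2
      _ ≤ _ := h1
  have h5 := FF.ell_le_deg_add_one hKY hE0
  haveI : Smooth (Y ↘ Spec (CommRingCat.of k)) := (@setup_bc k _ X _ _ _ hdim h0 k _ algF).1
  have h6 := ell_le_deg (X := Y) hdimY h0Y (hgY.ge.trans' (by omega : 1 ≤ Curv2.genus k X)) (D := E) (by omega)
  omega

end Twist

section Point

variable (hdim : topologicalKrullDim X = 1) (h0 : Module.finrank k (Coh.HH X (Coh.structureModule X) 0) = 1)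
include hdim h0

attribute [local instance] Curv2.resAlgebra

/-- Over an infinite field a separating function yields a separable point of no larger degree. -/
theorem exists_point_of_separating [Infinite k] {z : X.functionField}
    (hz : KaehlerDifferential.D k X.functionField z ≠ 0) :
    ∃ x : X, FiniteDimensional k (X.residueField x) ∧ Algebra.IsSeparable k (X.residueField x) ∧
      Module.finrank k (X.residueField x) ≤ Module.finrank k⟮z⟯ X.functionField := by
  classical
  haveI := EulerIneqLib.isNoetherian_proper (X := X) k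
  haveI := VBLib.isRegCurve_of_smooth (X := X) k hdim.le
  have hK := CurveFF.isFunctionField k hdim h0
  have hgeo := isGeometric hK
  have hzt := FF.transcendental_of_D_ne_zero hK hz
  haveI := FF.isSeparable_of_D_ne_zero hK hgeo hz
  obtain ⟨U, hU, hηU, -⟩ := exists_isAffineOpen_mem_and_subset (x := genericPoint X) (U := (⊤ : X.Opens)) trivial
  haveI : Nonempty U := ⟨⟨_, hηU⟩⟩
  let A := Γ(X, U)
  let φ : k →+* A := (X.presheaf.map (homOfLE (le_top : U ≤ ⊤)).op).hom.comp
    (Coh.toGlobal (X ↘ Spec (CommRingCat.of k)))
  letI : Algebra k A := φ.toAlgebra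
  haveI : IsScalarTower k A X.functionField := IsScalarTower.of_algebraMap_eq fun c =>
    (TopCat.Presheaf.germ_res_apply X.presheaf _ _ _ _).symm
  haveI : IsFractionRing A X.functionField := functionField_isFractionRing_of_isAffineOpen X U hU
  haveI : Algebra.FiniteType k A := by
    have h := HasRingHomProperty.appLE (P := @LocallyOfFiniteType) (X ↘ Spec (CommRingCat.of k)) inferInstance
      ⟨⊤, isAffineOpen_top _⟩ ⟨U, hU⟩ le_top
    have h2 : ((((X ↘ Spec (CommRingCat.of k)).appLE ⊤ U le_top).hom).comp
        (Scheme.ΓSpecIso (CommRingCat.of k)).inv.hom).FiniteType :=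
      h.comp (RingHom.FiniteType.of_surjective _ (Scheme.ΓSpecIso (CommRingCat.of k)).symm.commRingCatIsoToRingEquiv.surjective)
    exact RingHom.finiteType_algebraMap.1 h2
  -- write `z` as a fraction and invert the denominator
  obtain ⟨r, s, hs, hrs⟩ := IsFractionRing.div_surjective A (z : X.functionField)
  have hs0 : s ≠ 0 := nonZeroDivisors.ne_zero hs
  let B := Localization.Away s
  letI : Algebra B X.functionField := (IsLocalization.Away.lift s
    (g := algebraMap A X.functionField) (IsUnit.mk0 _ (by simpa using hs0))).toAlgebra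
  haveI : IsScalarTower A B X.functionField :=
    IsScalarTower.of_algebraMap_eq fun a => (IsLocalization.Away.lift_eq s (IsUnit.mk0 _ (by simpa using hs0)) a).symm
  haveI : IsScalarTower k B X.functionField := IsScalarTower.of_algebraMap_eq fun c => by
    rw [IsScalarTower.algebraMap_apply k A B, ← IsScalarTower.algebraMap_apply A B X.functionField,
      ← IsScalarTower.algebraMap_apply]
  haveI : IsDomain B := IsLocalization.isDomain_localization (powers_le_nonZeroDivisors_of_noZeroDivisors hs0)
  haveI : IsFractionRing B X.functionField :=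
    IsFractionRing.isFractionRing_of_isDomain_of_isLocalization (Submonoid.powers s) B X.functionField
  haveI : Algebra.FiniteType k B :=
    Algebra.FiniteType.trans (S := A) inferInstance (IsLocalization.finiteType_of_monoid_fg (Submonoid.powers s) B)
  obtain ⟨zB, hzB⟩ : ∃ zB : B, algebraMap B X.functionField zB = z :=
    ⟨algebraMap A B r * IsLocalization.Away.invSelf s, by
      have h := congrArg (algebraMap B X.functionField) (IsLocalization.Away.mul_invSelf (S := B) s)
      rw [map_mul, map_one, ← IsScalarTower.algebraMap_apply A B X.functionField] at h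
      rw [map_mul, ← IsScalarTower.algebraMap_apply A B X.functionField, eq_inv_of_mul_eq_one_right h, ← hrs,
        div_eq_mul_inv]⟩
  -- generic étaleness over the line
  letI : Algebra (Polynomial k) B := (Polynomial.aeval zB).toRingHom.toAlgebra
  haveI : IsScalarTower k (Polynomial k) B := IsScalarTower.of_algebraMap_eq fun c => (Polynomial.aeval_C zB c).symm
  letI : Algebra (Polynomial k) k⟮z⟯ :=
    (Polynomial.aeval (⟨z, IntermediateField.mem_adjoin_simple_self k z⟩ : k⟮z⟯)).toRingHom.toAlgebra
  letI : Algebra (Polynomial k) X.functionField := (Polynomial.aeval z).toRingHom.toAlgebra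
  haveI : IsScalarTower (Polynomial k) k⟮z⟯ X.functionField := IsScalarTower.of_algebraMap_eq fun q => by
    exact Polynomial.aeval_algHom_apply k⟮z⟯.val ⟨z, IntermediateField.mem_adjoin_simple_self k z⟩ q
  haveI : IsScalarTower (Polynomial k) B X.functionField := IsScalarTower.of_algebraMap_eq fun q => by
    show Polynomial.aeval z q = algebraMap B X.functionField (Polynomial.aeval zB q)
    rw [← Polynomial.aeval_algebraMap_apply, hzB]
  haveI : IsScalarTower k (Polynomial k) k⟮z⟯ :=
    IsScalarTower.of_algebraMap_eq fun c => (Polynomial.aeval_C _ c).symm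
  haveI : Algebra.FiniteType (Polynomial k) B := Algebra.FiniteType.of_restrictScalars_finiteType k (Polynomial k) B
  haveI : Algebra.FinitePresentation (Polynomial k) B := Algebra.FinitePresentation.of_finiteType.1 inferInstance
  haveI : Algebra.FormallyEtale (Polynomial k) k⟮z⟯ := by
    haveI : IsFractionRing (Polynomial k) k⟮z⟯ := by
      haveI : Algebra.FormallyEtale (Polynomial k) (RatFunc k) :=
        Algebra.FormallyEtale.of_isLocalization (nonZeroDivisors (Polynomial k))
      exact IsLocalization.isLocalization_of_algEquiv (nonZeroDivisors (Polynomial k))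
        (AlgEquiv.ofRingEquiv (f := (RatFunc.algEquivOfTranscendental z hzt).toRingEquiv) fun q =>
          congr($(Polynomial.algHom_ext (f := (RatFunc.algEquivOfTranscendental z hzt).toAlgHom.comp
            (IsScalarTower.toAlgHom k (Polynomial k) (RatFunc k)))
            (g := Polynomial.aeval (⟨z, IntermediateField.mem_adjoin_simple_self k z⟩ : k⟮z⟯))
            (Subtype.ext (by simpa using RatFunc.algEquivOfTranscendental_X z hzt))) q))
    exact Algebra.FormallyEtale.of_isLocalization (nonZeroDivisors (Polynomial k))
  haveI : Algebra.FormallyEtale k⟮z⟯ X.functionField := Algebra.FormallyEtale.of_isSeparable _ _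
  haveI : Algebra.FormallyEtale (Polynomial k) X.functionField :=
    Algebra.FormallyEtale.comp (Polynomial k) k⟮z⟯ X.functionField
  haveI : Algebra.IsEtaleAt (Polynomial k) (⊥ : Ideal B) := by
    have hle : (⊥ : Ideal B).primeCompl = nonZeroDivisors B := by
      ext x
      rw [mem_nonZeroDivisors_iff_ne_zero]
      exact Iff.rfl
    haveI : IsLocalization (⊥ : Ideal B).primeCompl X.functionField := by
      rw [hle]; infer_instance
    exact Algebra.FormallyEtale.of_equiv
      ((IsLocalization.algEquiv (⊥ : Ideal B).primeCompl X.functionField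
        (Localization.AtPrime (⊥ : Ideal B))).restrictScalars (Polynomial k))
  obtain ⟨w, hw, het⟩ := Algebra.exists_etale_of_isEtaleAt (R := Polynomial k) (⊥ : Ideal B)
  have hw0 : w ≠ 0 := fun h => hw (h ▸ zero_mem _)
  let C := Localization.Away w
  haveI : Nontrivial C :=
    haveI : IsDomain C := IsLocalization.isDomain_localization (powers_le_nonZeroDivisors_of_noZeroDivisors hw0)
    inferInstance
  -- a rational value in the image
  obtain ⟨h, hh0, hh⟩ : ∃ h : Polynomial k, h ≠ 0 ∧
      ∀ q : PrimeSpectrum (Polynomial k), h ∉ q.asIdeal → q ∈ Set.range (PrimeSpectrum.comap (algebraMap (Polynomial k) C)) := by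
    haveI : Algebra.Etale (Polynomial k) C := het
    haveI : Module.Flat (Polynomial k) C := Algebra.Smooth.flat (Polynomial k) C
    haveI : Algebra.HasGoingDown (Polynomial k) C := Algebra.HasGoingDown.of_flat
    have hopen : IsOpen (Set.range (PrimeSpectrum.comap (algebraMap (Polynomial k) C))) :=
      (PrimeSpectrum.isOpenMap_comap_of_hasGoingDown_of_finitePresentation (R := Polynomial k) (S := C)).isOpen_range
    obtain ⟨_, ⟨_, ⟨h, rfl⟩, rfl⟩, hmem, hsub⟩ := PrimeSpectrum.isBasis_basic_opens.exists_subset_of_mem_open
      (Set.mem_range_self (Classical.arbitrary (PrimeSpectrum C))) hopen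
    exact ⟨h, fun e => hmem (e ▸ zero_mem _), fun q hq => hsub hq⟩
  obtain ⟨a, ha⟩ : ∃ a : k, h.eval a ≠ 0 := by
    by_contra hall
    push Not at hall
    exact hh0 (Polynomial.zero_of_eval_zero h hall)
  let qa : PrimeSpectrum (Polynomial k) := ⟨RingHom.ker (Polynomial.evalRingHom a), RingHom.ker_isPrime _⟩
  obtain ⟨Q, hQ⟩ := hh qa ha
  obtain ⟨m, hm, hQm⟩ := Ideal.exists_le_maximal Q.asIdeal Q.2.ne_top
  haveI := hm
  letI : Field (C ⧸ m) := Ideal.Quotient.field m
  let π : C →+* C ⧸ m := Ideal.Quotient.mk m
  -- the value of `z` at the point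
  have hza : algebraMap B C zB - algebraMap k C a ∈ m := hQm (by
    have : (Polynomial.X - Polynomial.C a) ∈ Ideal.comap (algebraMap (Polynomial k) C) Q.asIdeal := by
      show _ ∈ (PrimeSpectrum.comap (algebraMap (Polynomial k) C) Q).asIdeal
      rw [hQ]
      simp [qa]
    rw [Ideal.mem_comap, IsScalarTower.algebraMap_apply (Polynomial k) B C] at this
    rw [show algebraMap (Polynomial k) B (Polynomial.X - Polynomial.C a) = zB - algebraMap k B a from by
      show Polynomial.aeval zB _ = _
      rw [map_sub, Polynomial.aeval_X, Polynomial.aeval_C]] at this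
    rwa [map_sub, ← IsScalarTower.algebraMap_apply] at this)
  haveI : Algebra.FiniteType k C :=
    Algebra.FiniteType.trans (S := B) inferInstance (IsLocalization.finiteType_of_monoid_fg (Submonoid.powers w) C)
  haveI : Algebra.FiniteType k (C ⧸ m) :=
    (inferInstance : Algebra.FiniteType k C).of_surjective (Ideal.Quotient.mkₐ k m) (Ideal.Quotient.mkₐ_surjective k m)
  haveI : Module.Finite k (C ⧸ m) := finite_of_finite_type_of_isJacobsonRing k (C ⧸ m)
  haveI : Algebra.IsSeparable k (C ⧸ m) := by
    haveI : Algebra.FormallyUnramified (Polynomial k) (C ⧸ m) := by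
      haveI : Algebra.FormallyUnramified C (C ⧸ m) :=
        Algebra.FormallyUnramified.of_surjective (Algebra.ofId C (C ⧸ m)) Ideal.Quotient.mk_surjective
      exact Algebra.FormallyUnramified.comp (Polynomial k) C (C ⧸ m)
    letI : Algebra (Polynomial k) k := (Polynomial.evalRingHom a).toAlgebra
    haveI : IsScalarTower (Polynomial k) k (C ⧸ m) := IsScalarTower.of_algebraMap_eq fun q => by
      show π (algebraMap (Polynomial k) C q) = π (algebraMap k C (Polynomial.eval a q))
      rw [Ideal.Quotient.mk_eq_mk_iff_sub_mem]
      refine hQm ?_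
      have : q - Polynomial.C (Polynomial.eval a q) ∈ Ideal.comap (algebraMap (Polynomial k) C) Q.asIdeal := by
        show _ ∈ (PrimeSpectrum.comap (algebraMap (Polynomial k) C) Q).asIdeal
        rw [hQ]
        simp [qa]
      rw [Ideal.mem_comap, map_sub, ← Polynomial.algebraMap_eq, ← IsScalarTower.algebraMap_apply] at this
      exact this
    haveI : Algebra.FormallyUnramified k (C ⧸ m) := Algebra.FormallyUnramified.of_restrictScalars (Polynomial k) k (C ⧸ m)
    exact Algebra.FormallyUnramified.isSeparable k (C ⧸ m)
  -- the point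
  let g : A →+* C ⧸ m := π.comp ((algebraMap B C).comp (algebraMap A B))
  let P : Ideal A := RingHom.ker g
  haveI hP : P.IsPrime := RingHom.ker_isPrime g
  let x : X := hU.fromSpec ⟨P, hP⟩
  have hxU : x ∈ U := by
    rw [← SetLike.mem_coe, ← hU.range_fromSpec]; exact ⟨_, rfl⟩
  letI := TopCat.Presheaf.algebra_section_stalk X.presheaf (⟨x, hxU⟩ : U)
  haveI hloc : IsLocalization.AtPrime (X.presheaf.stalk x) P := hU.isLocalization_stalk' ⟨P, hP⟩ hxU
  let gS : X.presheaf.stalk x →+* C ⧸ m := IsLocalization.lift (M := P.primeCompl) (g := g)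
    fun y => IsUnit.mk0 _ fun e => y.2 e
  have hgS : ∀ b : A, gS (algebraMap A (X.presheaf.stalk x) b) = g b := fun b => IsLocalization.lift_eq _ b
  haveI : IsLocalHom gS := ⟨fun b hb => by
    obtain ⟨⟨u, v⟩, huv⟩ := IsLocalization.surj P.primeCompl b
    have h1 : g u = gS b * g v := by rw [← hgS, ← hgS, ← huv, map_mul]
    have hu : u ∈ P.primeCompl := fun e => by
      rcases mul_eq_zero.1 (h1.symm.trans e) with h2 | h2
      · exact hb.ne_zero h2
      · exact v.2 h2
    exact isUnit_of_mul_isUnit_left (huv ▸ IsLocalization.map_units _ (⟨u, hu⟩ : P.primeCompl))⟩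
  have hkA : ∀ c : k, algebraMap A (X.presheaf.stalk x) (algebraMap k A c) = Curv2.stalkMap k X x c := fun c =>
    TopCat.Presheaf.germ_res_apply X.presheaf _ _ _ _
  let ρ : X.residueField x →ₐ[k] C ⧸ m :=
    { toRingHom := IsLocalRing.ResidueField.lift gS
      commutes' := fun c => by
        show IsLocalRing.ResidueField.lift gS (IsLocalRing.residue _ (Curv2.stalkMap k X x c)) = _
        rw [IsLocalRing.ResidueField.lift_residue_apply, ← hkA, hgS]
        show π (algebraMap B C (algebraMap A B (algebraMap k A c))) = algebraMap k (C ⧸ m) c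
        rw [← IsScalarTower.algebraMap_apply k A B, ← IsScalarTower.algebraMap_apply k B C]
        rfl }
  haveI hfin : FiniteDimensional k (X.residueField x) := Module.Finite.of_injective ρ.toLinearMap ρ.toRingHom.injective
  refine ⟨x, hfin, Algebra.IsSeparable.of_algHom k (C ⧸ m) ρ, ?_⟩
  -- the point is closed
  have hxne : x ≠ genericPoint X := fun e => by
    haveI : Algebra.IsAlgebraic k (X.residueField x) := Algebra.IsAlgebraic.of_finite k _
    have hres := GenEtale.residue_bijective (X := X) e
    let e' : X.presheaf.stalk x →ₐ[k] X.residueField x :=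
      { toRingHom := (X.residue x).hom, commutes' := fun c => rfl }
    have halg : ∀ b : X.presheaf.stalk x, IsAlgebraic k b := fun b =>
      (isAlgebraic_algHom_iff e' hres.1).1 (Algebra.IsAlgebraic.isAlgebraic _)
    have hspec : (genericPoint X) ⤳ x := (genericPoint_spec X).specializes trivial
    refine hzt ?_
    have hx' : x ⤳ genericPoint X := by rw [e]
    have h1 := (halg ((X.presheaf.stalkSpecializes hx').hom z)).algHom
      (IsScalarTower.toAlgHom k (X.presheaf.stalk x) X.functionField)
    convert h1 using 1
    exact congr($((X.presheaf.stalkSpecializes_comp hspec hx').trans (TopCat.Presheaf.stalkSpecializes_refl _ _)).hom z).symm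
  have hx : IsClosed ({x} : Set X) := by_contra fun h => hxne (eq_generic_of_not_closed k hdim h)
  rw [← Int.ofNat_le, ← deg_placeOf hdim hx]
  set Pl := placeOf k hdim x hx
  -- `z - a` vanishes at the point
  let b : A := r - algebraMap k A a * s
  have hb : g b = 0 := by
    show π (algebraMap B C (algebraMap A B b)) = 0
    rw [Ideal.Quotient.eq_zero_iff_mem]
    have hb' : algebraMap A B b = (zB - algebraMap k B a) * algebraMap A B s := by
      apply IsFractionRing.injective B X.functionField
      simp only [b, map_mul, map_sub, hzB, ← IsScalarTower.algebraMap_apply, sub_mul]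
      rw [← hrs, div_mul_cancel₀ _ (by simpa using hs0)]
    rw [hb', map_mul, map_sub, ← IsScalarTower.algebraMap_apply k B C]
    exact m.mul_mem_right _ hza
  have hsP : s ∉ P := fun e => by
    have hu : IsUnit (g s) := (IsLocalization.Away.algebraMap_isUnit s).map (π.comp (algebraMap B C))
    exact hu.ne_zero e
  haveI := isDVR k hdim hx
  have hgen : ∀ y : A, algebraMap (X.presheaf.stalk x) X.functionField (algebraMap A _ y) = algebraMap A X.functionField y :=
    fun y => TopCat.Presheaf.germ_stalkSpecializes_apply X.presheaf (U := U) hxU _ _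
  have hv1 : ∀ y : A, y ∉ P → Pl.1 (algebraMap A X.functionField y) = 1 := fun y hy => by
    rw [← hgen]
    exact (IsDedekindDomain.HeightOneSpectrum.valuation_of_algebraMap _ _).trans
      (IsDedekindDomain.HeightOneSpectrum.intValuation_eq_one_iff.2 fun hmem =>
        hmem ((IsLocalization.map_units _ (⟨y, hy⟩ : P.primeCompl))))
  have hv2 : Pl.1 (algebraMap A X.functionField b) < 1 := by
    rw [← hgen]
    refine (IsDedekindDomain.HeightOneSpectrum.valuation_lt_one_iff_mem _ _).2 ?_
    exact (IsLocalization.AtPrime.to_map_mem_maximal_iff (X.presheaf.stalk x) P b).2 hb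
  let za := z - algebraMap k X.functionField a
  have hzat : Transcendental k za := fun h => hzt (by simpa [za] using h.add (isAlgebraic_algebraMap a))
  have hza0 : za ≠ 0 := fun h => hzat (h ▸ isAlgebraic_zero)
  have hpos : 0 < Pl.ord za := by
    rw [← FF.v_lt_one_iff Pl hza0]
    have e : za = algebraMap A X.functionField b / algebraMap A X.functionField s := by
      rw [map_sub, map_mul, ← IsScalarTower.algebraMap_apply, sub_div, hrs, mul_div_cancel_right₀ _ (by simpa using hs0)]
    rw [e, map_div₀, hv1 s hsP, div_one]
    exact hv2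
  have hd := FF.deg_zeros hK hzat
  have hadj : k⟮za⟯ = k⟮z⟯ := by
    refine le_antisymm (IntermediateField.adjoin_simple_le_iff.2
      (sub_mem (IntermediateField.mem_adjoin_simple_self k z) (IntermediateField.algebraMap_mem _ a))) ?_
    refine IntermediateField.adjoin_simple_le_iff.2 ?_
    have := add_mem (IntermediateField.mem_adjoin_simple_self k za) (IntermediateField.algebraMap_mem k⟮za⟯ a)
    rwa [sub_add_cancel] at this
  rw [hadj] at hd
  rw [← hd]
  have hle : Finsupp.single Pl (1 : ℤ) ≤ FF.zeros (k := k) za := fun Q => by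
    rw [FF.zeros_apply hK]
    rcases eq_or_ne Q Pl with rfl | hQ'
    · rw [Finsupp.single_eq_same]; omega
    · rw [Finsupp.single_eq_of_ne hQ']; exact le_max_right _ _
  have h1 := FF.deg_mono hle
  rwa [FF.deg_single, one_mul] at h1

include hdim h0 in
/-- A curve of genus at least two has a separable point of degree at most `2g - 2`. -/
theorem exists_point_le (hg : 2 ≤ Curv2.genus k X) :
    ∃ x : X, FiniteDimensional k (X.residueField x) ∧ Algebra.IsSeparable k (X.residueField x) ∧
      Module.finrank k (X.residueField x) ≤ 2 * Curv2.genus k X - 2 := by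
  classical
  haveI := EulerIneqLib.isNoetherian_proper (X := X) k
  haveI := VBLib.isRegCurve_of_smooth (X := X) k hdim.le
  by_cases hperf : PerfectField k
  · have hK := CurveFF.isFunctionField k hdim h0
    have hgF := CurveFF.genus_eq hdim h0
    obtain ⟨C, hC⟩ := FF.exists_canonical hK
    obtain ⟨hC1, hC2⟩ := FF.canonical_deg hK hC
    obtain ⟨f₀, hf₀, hf₀L⟩ := FF.exists_ne_zero_of_ell_pos (D := C) (by omega)
    have hD0 := FF.le_add_div_of_mem_L hK hf₀ hf₀L
    set D := C + FunFld.div k f₀
    have hDdeg : D.deg = 2 * (Curv2.genus k X : ℤ) - 2 := by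
      rw [FF.deg_add, FF.deg_div hK, hC2, hgF, add_zero]
    obtain ⟨P, hP⟩ : ∃ P, D P ≠ 0 := by
      by_contra hall
      push Not at hall
      rw [show D = 0 from Finsupp.ext hall, FF.deg_zero] at hDdeg
      omega
    have h1 : P.deg ≤ D.deg := by
      have h2 : (Finsupp.single P (1 : ℤ)) ≤ D := fun Q => by
        have := hD0 Q
        simp only [Finsupp.coe_zero, Pi.zero_apply] at this
        rcases eq_or_ne Q P with rfl | hQ
        · rw [Finsupp.single_eq_same]; omega
        · rw [Finsupp.single_eq_of_ne hQ]; exact this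
      have h3 := FF.deg_mono h2
      rwa [FF.deg_single, one_mul] at h3
    obtain ⟨x, hx, rfl⟩ := placeOf_surjective hdim P
    rw [deg_placeOf hdim hx] at h1
    haveI : FiniteDimensional k (X.residueField x) := Module.finite_of_finrank_pos (by
      rw [← deg_placeOf hdim hx]; exact FF.deg_pos hK _)
    exact ⟨x, inferInstance, inferInstance, by omega⟩
  · obtain ⟨p, hp⟩ := CharP.exists k
    rcases CharP.char_is_prime_or_zero k p with hprime | rfl
    · haveI : Infinite k := by
        refine not_finite_iff_infinite.1 fun hfin => hperf ?_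
        infer_instance
      haveI : Fact p.Prime := ⟨hprime⟩
      obtain ⟨z, hz, hdeg⟩ := exists_separating_le hdim h0 p hg
      obtain ⟨x, h1, h2, h3⟩ := exists_point_of_separating hdim h0 hz
      exact ⟨x, h1, h2, h3.trans hdeg⟩
    · haveI : CharZero k := CharP.charP_to_charZero k
      exact absurd (inferInstance : PerfectField k) hperf

end Point

end Groth.Agent.JacLib.Pencil
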