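import Groth.Agent.AVLib.Torsion
import Groth.Prelude.Def_AbDual

/-!
# A finite separable extension splitting the torsion of an abelian variety
-/

set_option autoImplicit false
set_option backward.isDefEq.respectTransparency false
set_option linter.style.haveILetI false
set_option maxHeartbeats 1000000

universe u

open CategoryTheory CategoryTheory.Limits MonoidalCategory CartesianMonoidalCategory MonObj AlgebraicGeometry

noncomputable section

namespace Groth.Agent.JacLib

open GrpSchLib (spO spMap)

/-- The points of a finite étale algebra in an algebraically closed field lie in a common finite separable extension. -/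
theorem exists_field_points {K : Type u} [Field K] (Ω : Type u) [Field Ω] [IsAlgClosed Ω] [Algebra K Ω]
    (B : Type u) [CommRing B] [Algebra K B] [Module.Finite K B] [Algebra.Etale K B] :
    ∃ k' : IntermediateField K Ω, FiniteDimensional K k' ∧ Algebra.IsSeparable K k' ∧
      Module.finrank K k' ≤ Nat.factorial (Nat.card (B →ₐ[K] Ω)) ∧
      Function.Bijective (fun φ : B →ₐ[K] k' => k'.val.comp φ) := by
  classical
  haveI : Finite (B →ₐ[K] Ω) := inferInstance
  have halg : ∀ (φ : B →ₐ[K] Ω) (x : Ω), x ∈ φ.range → IsAlgebraic K x := fun φ x ⟨z, hz⟩ =>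
    hz ▸ ((Algebra.IsIntegral.isIntegral (R := K) z).map φ).isAlgebraic
  let F : (B →ₐ[K] Ω) → IntermediateField K Ω := fun φ => IntermediateField.mk φ.range fun x hx =>
    Subalgebra.inv_mem_of_algebraic φ.range (x := ⟨x, hx⟩) (halg φ x hx)
  have hfin : ∀ φ, FiniteDimensional K (F φ) := fun φ =>
    Module.Finite.of_surjective φ.rangeRestrict.toLinearMap (AlgHom.rangeRestrict_surjective φ)
  have hsep : ∀ φ, Algebra.IsSeparable K (F φ) := fun φ => by
    haveI := hfin φ
    let g : B →ₐ[K] F φ := φ.rangeRestrict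
    haveI : Algebra.FormallyUnramified K (F φ) :=
      Algebra.FormallyUnramified.of_surjective g (AlgHom.rangeRestrict_surjective φ)
    exact Algebra.FormallyUnramified.isSeparable K (F φ)
  let k' : IntermediateField K Ω := ⨆ φ, F φ
  haveI := hfin
  haveI := hsep
  haveI hk : FiniteDimensional K k' := IntermediateField.finiteDimensional_iSup_of_finite
  haveI : Algebra.IsSeparable K k' := IntermediateField.isSeparable_iSup K Ω
  have hle : ∀ φ, F φ ≤ k' := fun φ => le_iSup F φ
  have hbij : Function.Bijective (fun φ : B →ₐ[K] k' => k'.val.comp φ) := by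
    refine ⟨fun a b h => AlgHom.ext fun z => Subtype.ext (AlgHom.congr_fun h z), fun φ => ?_⟩
    exact ⟨φ.codRestrict k'.toSubalgebra fun z => hle φ ⟨z, rfl⟩, rfl⟩
  let P : (k' →ₐ[K] Ω) → (B →ₐ[K] Ω) → (B →ₐ[K] Ω) := fun e φ =>
    e.comp (φ.codRestrict k'.toSubalgebra fun z => hle φ ⟨z, rfl⟩)
  have hP : ∀ e, Function.Injective (P e) := fun e a b h => AlgHom.ext fun z =>
    congrArg Subtype.val (e.toRingHom.injective (AlgHom.congr_fun h z))
  have hPi : Function.Injective fun e => Equiv.ofBijective (P e) (Finite.injective_iff_bijective.1 (hP e)) := by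
    intro e e' h
    refine AlgHom.ext fun y => ?_
    let E : IntermediateField K k' := IntermediateField.mk (AlgHom.equalizer e e') fun z hz => by
      show e z⁻¹ = e' z⁻¹
      rw [map_inv₀, map_inv₀, show e z = e' z from hz]
    have key : k' ≤ IntermediateField.map k'.val E := by
      refine iSup_le fun φ => ?_
      rintro _ ⟨z, rfl⟩
      refine ⟨⟨φ z, hle φ ⟨z, rfl⟩⟩, ?_, rfl⟩
      exact AlgHom.congr_fun (congrFun (congrArg (fun (p : Equiv.Perm (B →ₐ[K] Ω)) => (p : (B →ₐ[K] Ω) → (B →ₐ[K] Ω))) h) φ) z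
    obtain ⟨y', hy', e'y⟩ := key y.2
    obtain rfl : y' = y := Subtype.ext e'y
    exact hy'
  refine ⟨k', hk, inferInstance, ?_, hbij⟩
  calc Module.finrank K k' = Fintype.card (k' →ₐ[K] Ω) := (AlgHom.card K k' Ω).symm
    _ = Nat.card (k' →ₐ[K] Ω) := (Nat.card_eq_fintype_card).symm
    _ ≤ Nat.card (Equiv.Perm (B →ₐ[K] Ω)) := Nat.card_le_card_of_injective _ hPi
    _ = Nat.factorial (Nat.card (B →ₐ[K] Ω)) := Nat.card_perm

variable {K : Type u} [Field K] {A : Over (Spec (CommRingCat.of K))} [GrpObj A] [IsCommMonObj A] [IsProper A.hom]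
  [GeometricallyIntegral A.hom]

/-- The torsion points are the points of a finite étale algebra. -/
theorem exists_algebra_torsion {g : ℕ} (hg : topologicalKrullDim A.left = g) (n : ℕ) (hn : (n : K) ≠ 0) :
    ∃ (B : Type u) (_ : CommRing B) (_ : Algebra K B), Module.Finite K B ∧ Algebra.Etale K B ∧
      ∀ (L : Type u) (_ : CommRing L) (_ : Algebra K L), Nonempty (AbDual.torsPts A n (spO K L) ≃ (B →ₐ[K] L)) := by
  have hn1 : 1 ≤ n := Nat.one_le_iff_ne_zero.2 fun h => hn (by simp [h])
  obtain ⟨hfin, -, -⟩ := AVLib.npow_spec hg n hn1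
  haveI := AVLib.etale_npow hg n hn
  set u := 𝟙 A ^ n with hu
  haveI : IsFinite u.left := hfin
  haveI : Etale u.left := ‹_›
  let N := pullback u η[A]
  have hsq := GrpQuotLib.isPullback_left (IsPullback.of_hasPullback u η[A])
  have e : N.hom = hsq.isoPullback.hom ≫ pullback.snd u.left η[A].left := by
    rw [hsq.isoPullback_hom_snd, ← Over.w (pullback.snd u η[A])]
    exact Category.comp_id _
  haveI : IsFinite N.hom := by rw [e]; infer_instance
  haveI : Etale N.hom := by rw [e]; infer_instance
  haveI : IsAffine N.left := isAffine_of_isAffineHom N.hom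
  letI : Algebra K Γ(N.left, ⊤) := (Spec.preimage (N.left.isoSpec.inv ≫ N.hom)).hom.toAlgebra
  let i : spO K Γ(N.left, ⊤) ≅ N := Over.isoMk N.left.isoSpec.symm (Spec.map_preimage _).symm
  have hw : i.hom.left ≫ N.hom = Spec.map (CommRingCat.ofHom (algebraMap K Γ(N.left, ⊤))) := Over.w i.hom
  haveI : IsIso i.hom.left := inferInstanceAs (IsIso ((Over.forget _).map i.hom))
  haveI hf' : IsFinite (Spec.map (CommRingCat.ofHom (algebraMap K Γ(N.left, ⊤)))) := by rw [← hw]; infer_instance
  haveI het : Etale (Spec.map (CommRingCat.ofHom (algebraMap K Γ(N.left, ⊤)))) := by rw [← hw]; infer_instance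
  refine ⟨Γ(N.left, ⊤), inferInstance, inferInstance, RingHom.finite_algebraMap.1 ((IsFinite.SpecMap_iff _).1 hf'),
    RingHom.etale_algebraMap.1 ((HasRingHomProperty.Spec_iff (P := @Etale)).1 het), fun L _ _ => ⟨?_⟩⟩
  have hpow : ∀ {T : Over (Spec (CommRingCat.of K))} (t : T ⟶ A), t ≫ u = t ^ n := fun t => by
    rw [hu, MonObj.comp_pow, Category.comp_id]
  refine Equiv.trans ?_ (((Iso.homCongr (Iso.refl _) i.symm)).trans
    (Equiv.ofBijective _ ⟨GrpSchLib.spMap_injective, fun t => GrpSchLib.exists_spMap t⟩).symm)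
  exact
    { toFun := fun t => pullback.lift t.1 (toUnit _) (by
        rw [hpow, (AbDual.mem_torsPts A t.1).1 t.2]; exact Hom.one_def)
      invFun := fun s => ⟨s ≫ pullback.fst u η[A], (AbDual.mem_torsPts A _).2 (by
        rw [← hpow, Category.assoc, pullback.condition, ← Category.assoc, toUnit_unique (s ≫ _) (toUnit _)]
        exact Hom.one_def.symm)⟩
      left_inv := fun t => Subtype.ext (pullback.lift_fst _ _ _)
      right_inv := fun s => pullback.hom_ext (pullback.lift_fst _ _ _) (toUnit_unique _ _) }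

/-- Torsion points prime to the characteristic are defined over a finite separable extension. -/
theorem exists_field_torsion {g : ℕ} (hg : topologicalKrullDim A.left = g) (n : ℕ) (hn : (n : K) ≠ 0)
    (Ω : Type u) [Field Ω] [IsAlgClosed Ω] [Algebra K Ω] :
    ∃ k' : IntermediateField K Ω, FiniteDimensional K k' ∧ Algebra.IsSeparable K k' ∧
      Module.finrank K k' ≤ Nat.factorial (Nat.card (AbDual.torsPts A n (spO K Ω))) ∧
      Nat.card (AbDual.torsPts A n (spO K k')) = Nat.card (AbDual.torsPts A n (spO K Ω)) := by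
  obtain ⟨B, _, _, hBf, hBe, hB⟩ := exists_algebra_torsion (A := A) hg n hn
  haveI := hBf
  haveI := hBe
  obtain ⟨k', h1, h2, h3, h4⟩ := exists_field_points (K := K) Ω B
  refine ⟨k', h1, h2, ?_, ?_⟩
  · rwa [Nat.card_congr (hB Ω inferInstance inferInstance).some]
  · rw [Nat.card_congr (hB k' inferInstance inferInstance).some, Nat.card_congr (hB Ω inferInstance inferInstance).some]
    exact Nat.card_eq_of_bijective _ h4

end Groth.Agent.JacLib
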