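import Groth.Agent.JacLib.SplitTorsion
import Groth.Agent.JacLib.FineDim
import Groth.Agent.JacLib.JacPoints
import Groth.Agent.S6545
import Groth.Agent.CurveFF.BC

/-!
# Extensions over which all torsion classes of a curve are rational
-/

set_option autoImplicit false
set_option backward.isDefEq.respectTransparency false
set_option backward.isDefEq.respectTransparency.types false
set_option linter.style.haveILetI false
set_option maxHeartbeats 1000000

universe u

open CategoryTheory CategoryTheory.Limits AlgebraicGeometry MonObj MonoidalCategory CartesianMonoidalCategory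
open Groth.Agent.PicLib Groth.Agent.AbDualLib

noncomputable section

namespace Groth.Agent.JacLib

open GrpSchLib (spO)

/-- The classes killed by an integer form the torsion of the Picard group. -/
theorem natCard_torsion_cls (Y : Scheme.{u}) (n : ℕ) :
    Nat.card {c : PicF.Cl Y | ∃ M : Scheme.Modules Y, PicF.cl M = c ∧ PicF.IsInvertible M ∧
        Nonempty (CohB1.tensorPow M n ≅ Coh.structureModule Y)} = Nat.card {a : Pic Y // a ^ n = 1} := by
  let F : {a : Pic Y // a ^ n = 1} → {c : PicF.Cl Y | ∃ M : Scheme.Modules Y, PicF.cl M = c ∧ PicF.IsInvertible M ∧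
            Nonempty (CohB1.tensorPow M n ≅ Coh.structureModule Y)} := fun a => ⟨toCl a.1, by
    obtain ⟨L, hL, h⟩ := exists_cls a.1
    refine ⟨L, by rw [← h]; rfl, hL, (cls_eq_one (AmpleLib.isInvertible_tensorPow hL n)).1 ?_⟩
    rw [PicLib.cls_tensorPow hL n, h]
    exact a.2⟩
  refine (Nat.card_eq_of_bijective F ⟨fun a b h => Subtype.ext (toCl_injective (congrArg Subtype.val h)), ?_⟩).symm
  rintro ⟨c, M, rfl, hM, ⟨e⟩⟩
  refine ⟨⟨cls hM, ?_⟩, rfl⟩
  rw [← PicLib.cls_tensorPow hM n]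
  exact (cls_eq_one _).2 ⟨e⟩

theorem natCard_torsion_of_iso {Y Z : Scheme.{u}} (q : Y ≅ Z) (n : ℕ) :
    Nat.card {a : Pic Y // a ^ n = 1} = Nat.card {a : Pic Z // a ^ n = 1} :=
  Nat.card_congr
    { toFun := fun a => ⟨pull q.inv a.1, by rw [← map_pow, a.2, map_one]⟩
      invFun := fun a => ⟨pull q.hom a.1, by rw [← map_pow, a.2, map_one]⟩
      left_inv := fun a => Subtype.ext (by simp only [← pull_comp, Iso.hom_inv_id, pull_id])
      right_inv := fun a => Subtype.ext (by simp only [← pull_comp, Iso.inv_hom_id, pull_id]) }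

theorem natCard_torsPts_eq {C : Scheme.{u}} {k : Type u} [Field k] {f : C ⟶ Spec (CommRingCat.of k)}
    [IsProper f] [Smooth f] [GeometricallyConnected f] (hdim : ∀ s, topologicalKrullDim ↥(f.fiber s) = 1)
    {σ : Spec (CommRingCat.of k) ⟶ C} {hσ : σ ≫ f = 𝟙 _} {J : Over (Spec (CommRingCat.of k))} [GrpObj J]
    [IsCommMonObj J] {x : Pic (PicF.XT f J)} (hF : FineJac σ hσ J x)
    (hmul : ∀ (T : Over (Spec (CommRingCat.of k))) (a b : T ⟶ J),
      pull (PicF.XTmap f (a * b)) x = pull (PicF.XTmap f a) x * pull (PicF.XTmap f b) x)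
    (L : Type u) [Field L] [Algebra k L] {n : ℕ} (hn : n ≠ 0) :
    Nat.card (AbDual.torsPts J n (spO k L)) = Nat.card {a : Pic (PicF.XT f (spO k L)) // a ^ n = 1} := by
  let Ψ := clsHom hmul (spO k L)
  have hrig : ∀ a : Pic (PicF.XT f (spO k L)), pull (PicF.secT f σ hσ (spO k L)) a = 1 :=
    fun a => eq_one_of_local (R := CommRingCat.of L) _
  refine Nat.card_eq_of_bijective (fun g => ⟨Ψ g.1, by rw [← map_pow, (AbDual.mem_torsPts J g.1).1 g.2, map_one]⟩)
    ⟨fun a b h => Subtype.ext (hom_ext_fine hdim hF (congrArg Subtype.val h)), fun ⟨a, ha⟩ => ?_⟩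
  obtain ⟨g, hg, -⟩ := hF.univ _ a (hrig a) (isPZc_of_pow f hdim hn ha)
  refine ⟨⟨g, (AbDual.mem_torsPts J g).2 (hom_ext_fine hdim hF ?_)⟩, Subtype.ext hg⟩
  show Ψ (g ^ n) = Ψ 1
  rw [map_pow, map_one]
  exact (congrArg (· ^ n) hg).trans ha

variable (k : Type u) [Field k] (X : Scheme.{u}) [X.Over (Spec (CommRingCat.of k))]
  [IsProper (X ↘ Spec (CommRingCat.of k))] [Smooth (X ↘ Spec (CommRingCat.of k))]
  (hdim : topologicalKrullDim X = 1) (h0 : Module.finrank k (Coh.HH X (Coh.structureModule X) 0) = 1)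

include hdim h0 in
theorem geometricallyConnected_of_h0 : GeometricallyConnected (X ↘ Spec (CommRingCat.of k)) := by
  refine ⟨fun K _ y T fst snd h => ?_⟩
  obtain ⟨φ, rfl⟩ := Spec.map_surjective y
  letI : Algebra k K := φ.hom.toAlgebra
  obtain ⟨-, hi, -, -⟩ := CurveFF.setup_bc k hdim h0 K
  haveI := hi
  haveI : ConnectedSpace ↥(Curv2.bc k X K) := inferInstance
  exact h.isoPullback.hom.homeomorph.connectedSpace_iff.2 ‹_›

include hdim h0 in
/-- With a point over a finite separable extension, all torsion classes prime to the characteristic are rational over a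
further one of bounded degree. -/
theorem exists_ext_torsion (k₁ : Type u) [Field k₁] [Algebra k k₁] [FiniteDimensional k k₁] [Algebra.IsSeparable k k₁]
    (x : Spec (CommRingCat.of k₁) ⟶ X)
    (hx : x ≫ (X ↘ Spec (CommRingCat.of k)) = Spec.map (CommRingCat.ofHom (algebraMap k k₁)))
    (n : ℕ) (hn : IsUnit (n : k)) :
    ∃ (k' : Type u) (_ : Field k') (_ : Algebra k k'), FiniteDimensional k k' ∧ Algebra.IsSeparable k k' ∧
      Module.finrank k k' ≤ Module.finrank k k₁ * Nat.factorial (n ^ (2 * Curv2.genus k X)) ∧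
      (∃ x : Spec (CommRingCat.of k') ⟶ Curv2.bc k X k', x ≫ Curv2.bcSnd k X k' = 𝟙 _) ∧
      Nat.card {c : PicF.Cl (Curv2.bc k X k') | ∃ M : Scheme.Modules (Curv2.bc k X k'), PicF.cl M = c ∧
        PicF.IsInvertible M ∧ Nonempty (CohB1.tensorPow M n ≅ Coh.structureModule (Curv2.bc k X k'))} =
          n ^ (2 * Curv2.genus k X) := by
  classical
  obtain ⟨hs1, -, -, hd1⟩ := CurveFF.setup_bc k hdim h0 k₁
  let f : Curv2.bc k X k₁ ⟶ Spec (CommRingCat.of k₁) := Curv2.bcSnd k X k₁
  haveI : Smooth (Curv2.bc k X k₁ ↘ Spec (CommRingCat.of k₁)) := hs1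
  haveI : IsProper (Curv2.bc k X k₁ ↘ Spec (CommRingCat.of k₁)) := MorphismProperty.pullback_snd _ _ inferInstance
  haveI : GeometricallyConnected (Curv2.bc k X k₁ ↘ Spec (CommRingCat.of k₁)) :=
    geometricallyConnected_of_h0 k₁ _ hd1 ((CurveFF.finrank_H0_bc_structure k (X := X) k₁).trans h0)
  haveI : IsProper f := ‹IsProper (Curv2.bc k X k₁ ↘ Spec (CommRingCat.of k₁))›
  haveI : Smooth f := hs1
  haveI : GeometricallyConnected f := ‹GeometricallyConnected (Curv2.bc k X k₁ ↘ Spec (CommRingCat.of k₁))›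
  have hd := fibreDim (k := k₁) hd1
  let σ : Spec (CommRingCat.of k₁) ⟶ Curv2.bc k X k₁ := pullback.lift x (𝟙 _) (by rw [hx, Category.id_comp])
  have hσ : σ ≫ f = 𝟙 _ := pullback.lift_snd _ _ _
  obtain ⟨J, ξ, hξ, hξz, hu, h1, h2, h3⟩ := exists_jac_field f hd σ hσ
  obtain ⟨hG, hC, hmul⟩ := exists_grpObj hd hξ hξz hu
  letI := hG
  haveI := hC
  haveI := h1
  haveI := h2
  haveI : GeometricallyConnected J.hom := GeomIrred.geometricallyConnected_of_geometricallyIrreducible J.hom
  haveI : GeometricallyIntegral J.hom := AbDualLib.geometricallyIntegral_of_smooth J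
  let hF : FineJac σ hσ J ξ := ⟨hξ, hξz, hu⟩
  have hdJ := dim_fine (k := k₁) hd1 hF
  rw [CurveFF.genus_bc k X k₁] at hdJ
  have hn1 : (n : k₁) ≠ 0 := by
    have := hn.map (algebraMap k k₁)
    rw [map_natCast] at this
    exact this.ne_zero
  have hn0 : n ≠ 0 := by rintro rfl; exact hn1 Nat.cast_zero
  let Ω := AlgebraicClosure k₁
  obtain ⟨k', hfd, hsep, hdeg, hcard⟩ := exists_field_torsion (A := J) hdJ n hn1 Ω
  have hcls : ∀ (L : Type u) [Field L] [Algebra k₁ L] [Algebra k L] [IsScalarTower k k₁ L],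
      Nat.card (AbDual.torsPts J n (spO k₁ L)) = Nat.card {c : PicF.Cl (Curv2.bc k X L) | ∃ M : Scheme.Modules (Curv2.bc k X L),
        PicF.cl M = c ∧ PicF.IsInvertible M ∧ Nonempty (CohB1.tensorPow M n ≅ Coh.structureModule (Curv2.bc k X L))} := by
    intro L _ _ _ _
    rw [natCard_torsPts_eq hd hF hmul L hn0, natCard_torsion_cls]
    exact natCard_torsion_of_iso (pullbackLeftPullbackSndIso _ _ _ ≪≫ pullback.congrHom rfl (by
      show Spec.map (CommRingCat.ofHom (algebraMap k₁ L)) ≫ _ = _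
      rw [← Spec.map_comp, ← CommRingCat.ofHom_comp, ← IsScalarTower.algebraMap_eq])) n
  have hΩ : Nat.card (AbDual.torsPts J n (spO k₁ Ω)) = n ^ (2 * Curv2.genus k X) := by
    obtain ⟨hsΩ, hiΩ, -, hdΩ⟩ := CurveFF.setup_bc k hdim h0 Ω
    haveI := hsΩ
    haveI := hiΩ
    haveI : IsProper (Curv2.bc k X Ω ↘ Spec (CommRingCat.of Ω)) := MorphismProperty.pullback_snd _ _ inferInstance
    rw [hcls Ω, ← CurveFF.genus_bc k X Ω]
    refine Groth.Agent.S6545.result Ω (Curv2.bc k X Ω) hdΩ n ?_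
    have := hn.map (algebraMap k Ω)
    rwa [map_natCast] at this
  haveI := hfd
  haveI := hsep
  refine ⟨k', inferInstance, inferInstance, Module.Finite.trans k₁ k', Algebra.IsSeparable.trans k k₁ k', ?_, ?_, ?_⟩
  · rw [← Module.finrank_mul_finrank k k₁ k', ← hΩ]
    exact Nat.mul_le_mul_left _ hdeg
  · exact ⟨pullback.lift (Spec.map (CommRingCat.ofHom (algebraMap k₁ k')) ≫ x) (𝟙 _) (by
      rw [Category.assoc, hx, ← Spec.map_comp, ← CommRingCat.ofHom_comp, ← IsScalarTower.algebraMap_eq, Category.id_comp]),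
      pullback.lift_snd _ _ _⟩
  · rw [← hcls k', hcard, hΩ]

end Groth.Agent.JacLib
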