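import Groth.Agent.JacLib.WTranslate
import Groth.Agent.CurveFF.CanGen

/-!
# Effective divisors of degree the genus and the canonical point of the Jacobian
-/

set_option autoImplicit false
set_option backward.isDefEq.respectTransparency false
set_option backward.isDefEq.respectTransparency.types false
set_option linter.style.haveILetI false
set_option linter.unusedSectionVars false
set_option maxHeartbeats 1000000

universe u

open CategoryTheory CategoryTheory.Limits AlgebraicGeometry TopologicalSpace MonObj MonoidalCategory CartesianMonoidalCategory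
open Groth.Agent.PicLib Groth.Agent.CurveFF

noncomputable section

namespace Groth.Agent.JacLib

attribute [local instance] Curv2.stalkAlgebra
attribute [local instance high] FunFld.Place.algRes

section Curve

variable {k : Type u} [Field k] [IsAlgClosed k] {C : Scheme.{u}} [C.Over (Spec (CommRingCat.of k))]
  [IsProper (C ↘ Spec (CommRingCat.of k))] [IsIntegral C] [VBLib.IsRegCurve C]
  (hdim : topologicalKrullDim C = 1) (h0 : Module.finrank k (Coh.HH C (Coh.structureModule C) 0) = 1)

include h0 in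
/-- An effective class is a product of classes of points. -/
theorem exists_prod_of_ell_pos {c : Pic C} {D : FunFld.Divisor k C.functionField} (hD : HasDiv k hdim c D) {m : ℕ}
    (hdeg : D.deg = (m : ℤ)) (hell : 0 < FunFld.ell D) :
    ∃ x : Fin m → {x : C // IsClosed ({x} : Set C)}, c = ∏ i, ptc (k := k) hdim (x i).1 (x i).2 := by
  classical
  have hK := isFunctionField k hdim h0
  obtain ⟨z, hz, hzL⟩ := FF.exists_ne_zero_of_ell_pos (D := D) hell
  obtain ⟨P, hP⟩ := exists_eq_sum hdim h0 (FF.le_add_div_of_mem_L hK hz hzL) m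
    (by rw [FF.deg_add, FF.deg_div hK, add_zero, hdeg])
  have hs : ∀ i, ∃ x : {x : C // IsClosed ({x} : Set C)}, placeOf k hdim x.1 x.2 = P i := fun i => by
    obtain ⟨x, hx, h⟩ := placeOf_surjective hdim (P i)
    exact ⟨⟨x, hx⟩, h⟩
  choose x hx using hs
  refine ⟨x, (eq_iff_of_hasDiv hdim h0 hD
    (hasDiv_prod hdim Finset.univ _ _ fun i => hasDiv_ptc hdim h0 (x i).1 (x i).2)).2 ?_⟩
  simp only [hx, hP, add_sub_cancel_left]
  exact (FF.mem_prinDivs_iff hK).2 ⟨z, hz, rfl⟩

include hdim h0 in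
/-- Riemann-Roch against a class of canonical degree with enough sections. -/
theorem ell_eq_of_canonical {W D : FunFld.Divisor k C.functionField} (hWd : W.deg = 2 * (Curv2.genus k C : ℤ) - 2)
    (hWl : Curv2.genus k C ≤ FunFld.ell W) :
    (FunFld.ell D : ℤ) = D.deg + 1 - (Curv2.genus k C : ℤ) + FunFld.ell (W - D) := by
  have hK := isFunctionField k hdim h0
  obtain ⟨K, hC⟩ := FF.exists_canonical hK
  obtain ⟨eO, heO⟩ := exists_base (L := Coh.structureModule C) ParaFLib.isInvertible_structureModule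
  obtain ⟨DO, hDO⟩ := exists_isDiv hdim h0 ParaFLib.isInvertible_structureModule heO
  have hgen := (genus_and_deg hdim h0 ParaFLib.isInvertible_structureModule heO hDO).1
  rw [hgen] at hWd hWl ⊢
  have hWK := sub_canonical_mem_prinDivs hK hC hWd hWl
  rw [FF.riemann_roch hK hC D, FF.ell_congr hK (D := K - D) (E := W - D)
    (by rwa [sub_sub_sub_cancel_right])]

variable {cW : Pic C} {W : FunFld.Divisor k C.functionField} (hW : HasDiv k hdim cW W)
  (hWd : W.deg = 2 * (Curv2.genus k C : ℤ) - 2) (hWl : Curv2.genus k C ≤ FunFld.ell W)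

include h0 hW hWd hWl in
/-- A divisor of degree the genus moves only if it lies in a canonical one. -/
theorem eq_or_exists_canonical {n m : ℕ} (hn : n = Curv2.genus k C) (u : Fin n → {x : C // IsClosed ({x} : Set C)})
    (v : Fin m → {x : C // IsClosed ({x} : Set C)})
    (he : ∏ i, ptc (k := k) hdim (u i).1 (u i).2 = ∏ i, ptc (k := k) hdim (v i).1 (v i).2) :
    (∀ i, ∃ l, u l = v i) ∨ ∃ w : Fin (n - 2) → {x : C // IsClosed ({x} : Set C)},
      (∏ i, ptc (k := k) hdim (u i).1 (u i).2) * ∏ i, ptc (k := k) hdim (w i).1 (w i).2 = cW := by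
  classical
  have hK := isFunctionField k hdim h0
  let P : {x : C // IsClosed ({x} : Set C)} → FunFld.Place k C.functionField := fun x => placeOf k hdim x.1 x.2
  let E : FunFld.Divisor k C.functionField := ∑ i, Finsupp.single (P (u i)) (1 : ℤ)
  let F : FunFld.Divisor k C.functionField := ∑ i, Finsupp.single (P (v i)) (1 : ℤ)
  have hE : HasDiv k hdim _ E := hasDiv_prod hdim Finset.univ _ _ fun i => hasDiv_ptc hdim h0 (u i).1 (u i).2
  have hF : HasDiv k hdim _ F := hasDiv_prod hdim Finset.univ _ _ fun i => hasDiv_ptc hdim h0 (v i).1 (v i).2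
  have hEd : E.deg = (n : ℤ) := deg_eq_card hdim h0 _
  have hE0 : 0 ≤ E := Finset.sum_nonneg fun i _ => Finsupp.single_nonneg.2 zero_le_one
  have hrr := ell_eq_of_canonical hdim h0 (D := E) hWd hWl
  by_cases h2 : FunFld.ell (W - E) = 0
  · left
    obtain ⟨z, hz, hzd⟩ := (FF.mem_prinDivs_iff hK).1 ((eq_iff_of_hasDiv hdim h0 hE hF).1 he)
    have hzE : FunFld.div k z = 0 := by
      have h1 : FunFld.ell E = 1 := by omega
      have hzL : z ∈ FunFld.L E := (FF.mem_L_iff_ord hz).2 fun Q => by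
        have h4 : FunFld.div k z Q = Q.ord z := FF.div_apply hK z Q
        rw [hzd, Finsupp.sub_apply] at h4
        rw [← h4, sub_add_cancel]
        exact (show (0 : FunFld.Divisor k C.functionField) ≤ F from
          Finset.sum_nonneg fun i _ => Finsupp.single_nonneg.2 zero_le_one) Q
      have h1L : (1 : C.functionField) ∈ FunFld.L E := FF.one_mem_L hE0
      obtain ⟨c, hc⟩ := (finrank_eq_one_iff_of_nonzero' (K := k) (⟨1, h1L⟩ : FunFld.L E)
        (fun e => one_ne_zero (congrArg Subtype.val e))).1 h1 ⟨z, hzL⟩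
      have hc' : z = algebraMap k C.functionField c := by
        rw [← mul_one (algebraMap k C.functionField c), ← Algebra.smul_def]
        exact (congrArg Subtype.val hc).symm
      rw [hc', FF.div_algebraMap hK]
    rw [hzE] at hzd
    intro i
    by_contra hne
    push Not at hne
    have h5 : E (P (v i)) = 0 := by
      simp only [E, Finsupp.finset_sum_apply]
      refine Finset.sum_eq_zero fun l _ => Finsupp.single_eq_of_ne fun hPl => hne l ?_
      exact Subtype.ext (placeOf_injective hdim (u l).2 (v i).2 hPl.symm)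
    have h6 : (1 : ℤ) ≤ F (P (v i)) := by
      simp only [F, Finsupp.finset_sum_apply]
      refine le_trans (le_of_eq ?_) (Finset.single_le_sum (fun l _ => ?_) (Finset.mem_univ i))
      · rw [Finsupp.single_eq_same]
      · exact (Finsupp.single_nonneg.2 zero_le_one) _
    rw [eq_comm, sub_eq_zero] at hzd
    rw [hzd, h5] at h6
    omega
  · right
    obtain ⟨w, hw⟩ := exists_prod_of_ell_pos hdim h0 (hasDiv_mul hdim hW (hasDiv_inv hdim h0 hE)) (m := n - 2)
      (by
        rw [← sub_eq_add_neg, FF.deg_sub, hWd, hEd]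
        obtain ⟨z, hz, hzL⟩ := FF.exists_ne_zero_of_ell_pos (D := W - E) (Nat.pos_of_ne_zero h2)
        have h7 := FF.le_add_div_of_mem_L hK hz hzL
        by_cases hg : 2 ≤ n
        · omega
        · exfalso
          have h8 := FF.eq_zero_of_nonneg_of_deg hK h7 (by rw [FF.deg_add, FF.deg_div hK, FF.deg_sub, hWd, hEd]; omega)
          have h9 := congrArg FunFld.Divisor.deg h8
          rw [FF.deg_add, FF.deg_div hK, FF.deg_sub, hWd, hEd, FF.deg_zero] at h9
          omega)
      (by rw [← sub_eq_add_neg]; exact Nat.pos_of_ne_zero h2)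
    exact ⟨w, by rw [← hw, mul_comm, inv_mul_cancel_right]⟩

include h0 hW hWd hWl in
/-- A divisor of degree the genus inside a canonical one moves through every point. -/
theorem exists_through_of_canonical {n l : ℕ} (hn : n = Curv2.genus k C) (u : Fin n → {x : C // IsClosed ({x} : Set C)})
    (w : Fin l → {x : C // IsClosed ({x} : Set C)}) (x : {x : C // IsClosed ({x} : Set C)})
    (he : (∏ i, ptc (k := k) hdim (u i).1 (u i).2) * ∏ i, ptc (k := k) hdim (w i).1 (w i).2 = cW) (hn1 : 1 ≤ n) :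
    ∃ v : Fin (n - 1) → {x : C // IsClosed ({x} : Set C)},
      ∏ i, ptc (k := k) hdim (u i).1 (u i).2 = (∏ i, ptc (k := k) hdim (v i).1 (v i).2) * ptc (k := k) hdim x.1 x.2 := by
  classical
  have hK := isFunctionField k hdim h0
  let P : {x : C // IsClosed ({x} : Set C)} → FunFld.Place k C.functionField := fun x => placeOf k hdim x.1 x.2
  let E : FunFld.Divisor k C.functionField := ∑ i, Finsupp.single (P (u i)) (1 : ℤ)
  let G : FunFld.Divisor k C.functionField := ∑ i, Finsupp.single (P (w i)) (1 : ℤ)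
  have hE : HasDiv k hdim _ E := hasDiv_prod hdim Finset.univ _ _ fun i => hasDiv_ptc hdim h0 (u i).1 (u i).2
  have hG : HasDiv k hdim _ G := hasDiv_prod hdim Finset.univ _ _ fun i => hasDiv_ptc hdim h0 (w i).1 (w i).2
  have hEd : E.deg = (n : ℤ) := deg_eq_card hdim h0 _
  have hWE : 0 < FunFld.ell (W - E) := by
    refine ell_pos_of_sub_mem hdim h0 (E := G) (Finset.sum_nonneg fun i _ => Finsupp.single_nonneg.2 zero_le_one) ?_
    have h := (eq_iff_of_hasDiv hdim h0 hW (hasDiv_mul hdim hE hG)).1 he.symm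
    rwa [sub_sub_eq_add_sub, add_comm G E]
  have hle : FunFld.ell (W - E) ≤ FunFld.ell (W - (E - Finsupp.single (P x) (1 : ℤ))) := by
    haveI := FF.finite_L hK (W - (E - Finsupp.single (P x) (1 : ℤ)))
    refine Submodule.finrank_mono (FF.L_mono ?_)
    rw [sub_le_sub_iff_left, sub_le_self_iff]
    exact Finsupp.single_nonneg.2 zero_le_one
  have hd : FunFld.Divisor.deg (E - Finsupp.single (P x) (1 : ℤ)) = ((n - 1 : ℕ) : ℤ) := by
    rw [FF.deg_sub, FF.deg_single, deg_place hdim h0, hEd]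
    omega
  have hrr := ell_eq_of_canonical hdim h0 (D := E - Finsupp.single (P x) (1 : ℤ)) hWd hWl
  rw [hd] at hrr
  have hpos : 0 < FunFld.ell (E - Finsupp.single (P x) (1 : ℤ)) := by omega
  obtain ⟨v, hv⟩ := exists_prod_of_ell_pos hdim h0 (hasDiv_mul hdim hE (hasDiv_inv hdim h0 (hasDiv_ptc hdim h0 x.1 x.2)))
    (m := n - 1) (by rw [← sub_eq_add_neg]; exact hd) (by rw [← sub_eq_add_neg]; exact hpos)
  exact ⟨v, by rw [← hv, inv_mul_cancel_right]⟩

end Curve

section Jac

variable {k : Type u} [Field k] [IsAlgClosed k] {C : Scheme.{u}} [C.Over (Spec (CommRingCat.of k))]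
  [IsProper (C ↘ Spec (CommRingCat.of k))] [Smooth (C ↘ Spec (CommRingCat.of k))]
  [GeometricallyConnected (C ↘ Spec (CommRingCat.of k))]
  [SmoothOfRelativeDimension 1 (C ↘ Spec (CommRingCat.of k))]

attribute [local instance] overSelf

/-- Fibre ranks of pullbacks. -/
theorem rk_pull_fst' {M : C.Modules} (hM : PicF.IsInvertible M) (i : ℕ) (t : ↥(Spec (CommRingCat.of k))) :
    CohIII.fiberRank (PicF.XTproj (C ↘ Spec (CommRingCat.of k)) (Over.mk (𝟙 (Spec (CommRingCat.of k)))))
      ((Scheme.Modules.pullback (pullback.fst (C ↘ Spec (CommRingCat.of k)) (Over.mk (𝟙 (Spec (CommRingCat.of k)))).hom)).obj M) i t =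
      Module.finrank k (Coh.HH C M i) := by
  haveI := PicDegLib.isQCoh_invertible hM
  exact (BCLib.fiberRank_baseChange (IsPullback.of_hasPullback _ _) M i t).trans (fiberRank_eq_finrank M i _)

/-- The cohomology of the pullback to the curve over its base. -/
theorem finrank_pull_self {M : C.Modules} (hM : PicF.IsInvertible M) (i : ℕ) :
    Module.finrank k (Coh.HH (self k C) ((Scheme.Modules.pullback
      (pullback.fst (C ↘ Spec (CommRingCat.of k)) (Over.mk (𝟙 (Spec (CommRingCat.of k)))).hom)).obj M) i) =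
      Module.finrank k (Coh.HH C M i) := by
  let f := C ↘ Spec (CommRingCat.of k)
  let T₀ : Over (Spec (CommRingCat.of k)) := Over.mk (𝟙 _)
  let t := IsLocalRing.closedPoint k
  haveI : IsProper (self k C ↘ Spec (CommRingCat.of k)) := isProper_XT f (𝟙 _)
  haveI := PicDegLib.isQCoh_invertible hM
  have hN := AmpleLib.isInvertible_pullback (pullback.fst f T₀.hom) hM
  haveI := PicDegLib.isQCoh_invertible hN
  have h1 : CohIII.fiberRank (PicF.XTproj f T₀) ((Scheme.Modules.pullback (pullback.fst f T₀.hom)).obj M) i t =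
      Module.finrank k (Coh.HH C M i) := by
    have h := rk_pull_fst' hM i t
    exact h
  exact (fiberRank_eq_finrank (X := self k C) ((Scheme.Modules.pullback (pullback.fst f T₀.hom)).obj M) i t).symm.trans h1

variable {J : Over (Spec (CommRingCat.of k))} [GrpObj J] [IsCommMonObj J]
  (σ : Spec (CommRingCat.of k) ⟶ C) (hσ : σ ≫ (C ↘ Spec (CommRingCat.of k)) = 𝟙 _)
  {ψ : (ModFun.PicDeg (C ↘ Spec (CommRingCat.of k)) 0).Hom ⊤ J}
  (hJ : Jac.IsJacobian (C ↘ Spec (CommRingCat.of k)) ⊤ J ψ)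
  {j : Over.mk (C ↘ Spec (CommRingCat.of k)) ⟶ J}
  (hdim : topologicalKrullDim ↥C = 1) (hj : Jac.IsAbelJacobiAt (C ↘ Spec (CommRingCat.of k)) σ ψ j)

include hσ hJ hdim hj in
/-- The two facts about effective classes of degree the genus and the canonical point. -/
theorem canonical_facts
    (Kf : (PicF.XT (C ↘ Spec (CommRingCat.of k)) (𝟙_ (Over (Spec (CommRingCat.of k))))).Modules)
    (hKf : Nonempty (Kf ≅ (Scheme.Modules.pullback (pullback.fst (C ↘ Spec (CommRingCat.of k)) (𝟙_ (Over (Spec (CommRingCat.of k)))).hom)).obj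
      (CohB1.tensorMod (Omega.sheaf (C ↘ Spec (CommRingCat.of k))) (CohB1.tensorPow (ClSub.idealMod σ.ker) (2 * Curv2.genus k C - 2)))))
    (hT : (⊤ : ObjectProperty (Over (Spec (CommRingCat.of k)))) (𝟙_ (Over (Spec (CommRingCat.of k)))))
    (hKok : (ModFun.PicDeg (C ↘ Spec (CommRingCat.of k)) 0).ok (𝟙_ (Over (Spec (CommRingCat.of k)))) Kf)
    (κ : (𝟙_ (Over (Spec (CommRingCat.of k)))) ⟶ J) (hκ : ψ.app (𝟙_ (Over (Spec (CommRingCat.of k)))) Kf hT hKok = κ) :
    (∀ {n m : ℕ}, 2 ≤ Curv2.genus k C → n = Curv2.genus k C → m = Curv2.genus k C →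
      ∀ (u : Fin n → (𝟙_ (Over (Spec (CommRingCat.of k))) ⟶ Over.mk (C ↘ Spec (CommRingCat.of k))))
        (v : Fin m → (𝟙_ (Over (Spec (CommRingCat.of k))) ⟶ Over.mk (C ↘ Spec (CommRingCat.of k)))),
      (∏ i, u i ≫ j) = ∏ i, v i ≫ j →
        (∀ i, ∃ l, u l = v i) ∨ ∃ w ∈ WPts j (Curv2.genus k C - 2), (∏ i, u i ≫ j) * w = κ) ∧
    ∀ a ∈ WPts j (Curv2.genus k C), ∀ w ∈ WPts j (Curv2.genus k C - 2), a * w = κ → 2 ≤ Curv2.genus k C →
      ∀ x ∈ WPts j 1, a * x⁻¹ ∈ WPts j (Curv2.genus k C - 1) := by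
  classical
  let f := C ↘ Spec (CommRingCat.of k)
  let S := Spec (CommRingCat.of k)
  have hfib := fibreDim (k := k) hdim
  obtain ⟨J₀, hG, hC, x, hF, e, -, -, -, hmul, he, hψ, hj'⟩ := exists_fine_of_isJacobian hdim σ hσ hJ
  letI := hG
  haveI := hC
  haveI := he
  let T₀ : Over S := Over.mk (𝟙 S)
  obtain ⟨hprop, hint, hreg, hd, h0, hgY⟩ := setup_self (k := k) (C := C) hdim
  haveI := hprop
  haveI := hint
  haveI := hreg
  obtain ⟨-, -, h0C⟩ := setup_of_smooth_connected k C hdim
  haveI : IsIntegral C := (setup_of_smooth_connected k C hdim).1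
  haveI : VBLib.IsRegCurve C := (setup_of_smooth_connected k C hdim).2.1
  let g := Curv2.genus k C
  have hrig : ∀ a : Pic (PicF.XT f T₀), PicRepLib.rig σ hσ a = a := fun a =>
    PicRepLib.rig_eq_self (eq_one_of_local (R := CommRingCat.of k) _)
  have hinv : ∀ a b : T₀ ⟶ J, (a * b) ≫ e.inv = (a ≫ e.inv) * (b ≫ e.inv) := fun a b => by
    rw [← cancel_mono e.hom, MonObj.mul_comp]
  let Φ : (T₀ ⟶ J) →* Pic (PicF.XT f T₀) := MonoidHom.mk' (fun a => clsHom hmul T₀ (a ≫ e.inv))
    fun a b => by rw [hinv, map_mul]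
  have hΦinj : Function.Injective Φ := fun a b h => by
    rw [← cancel_mono e.inv]
    exact hom_ext_fine hfib hF h
  let β := pt f (basePt f σ hσ T₀)
  have hΦj : ∀ y : T₀ ⟶ Over.mk f, Φ (y ≫ j) = pt f y / β := fun y => by
    show pull (PicF.XTmap f ((y ≫ j) ≫ e.inv)) x = _
    rw [hj' j hj, Category.assoc, Category.assoc, e.hom_inv_id, Category.comp_id, pull_comp_abel1, hrig]
  let pc : {z : self k C // IsClosed ({z} : Set (self k C))} → (T₀ ⟶ Over.mk f) := fun z => pointHom f (𝟙 S) z.1 z.2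
  let cp : (T₀ ⟶ Over.mk f) → {z : self k C // IsClosed ({z} : Set (self k C))} := pointClosed f (𝟙 S)
  have hpc : ∀ z, ptc (k := k) hd z.1 z.2 = pt f (pc z) := fun z => ptc_eq_pt f (𝟙 S) hd z.1 z.2
  have hΦW : ∀ {n : ℕ} (y : Fin n → (T₀ ⟶ Over.mk f)),
      Φ (∏ i, y i ≫ j) * β ^ n = ∏ i, ptc (k := k) hd (cp (y i)).1 (cp (y i)).2 := fun {n} y => by
    simp only [hpc, pc, cp, pointHom_pointClosed]
    rw [map_prod]
    simp only [hΦj]
    rw [Finset.prod_div_distrib, Finset.prod_const, Finset.card_univ, Fintype.card_fin, div_mul_cancel]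
  -- the canonical class
  have hΩ := omega_invertible_of_smooth k hdim h0C
  obtain ⟨hΩd, hΩh⟩ := omega_deg_h0 k hdim h0C
  have hW0 : PicF.IsInvertible ((Scheme.Modules.pullback (pullback.fst f T₀.hom)).obj (Omega.sheaf f)) :=
    AmpleLib.isInvertible_pullback _ hΩ
  obtain ⟨eW, heW⟩ := exists_base hW0
  obtain ⟨W, hWdiv⟩ := exists_isDiv hd h0 hW0 heW
  have hW : HasDiv k hd (cls hW0) W := ⟨_, hW0, eW, rfl, heW, hWdiv⟩
  have hWl : Curv2.genus k (self k C) ≤ FunFld.ell W := by
    rw [hgY, ← finrank_H0_eq_ell hd hW0 heW hWdiv, finrank_pull_self hΩ 0]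
    exact hΩh.ge
  have hWd : W.deg = 2 * (Curv2.genus k (self k C) : ℤ) - 2 := by
    rw [← (genus_and_deg hd h0 hW0 heW hWdiv).2, hgY, ← hΩd]
    obtain ⟨φ⟩ := (cls_eq_one (AmpleLib.isInvertible_pullback (pullback.fst f T₀.hom)
      (ParaFLib.isInvertible_structureModule (X := C)))).1 (by
        rw [← pull_cls _ (ParaFLib.isInvertible_structureModule (X := C)), (cls_eq_one ParaFLib.isInvertible_structureModule).2 ⟨Iso.refl _⟩, map_one])
    unfold Curv2.deg Curv2.euler
    have e1 : ∀ i, Module.finrank k (Coh.HH (self k C) ((Scheme.Modules.pullback (pullback.fst f T₀.hom)).obj (Omega.sheaf f)) i) =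
        Module.finrank k (Coh.HH C (om k C) i) := fun i => finrank_pull_self hΩ i
    have e2 : ∀ i, Module.finrank k (Coh.HH (self k C) (Coh.structureModule (self k C)) i) =
        Module.finrank k (Coh.HH C (Coh.structureModule C) i) := fun i =>
      (ShBCLib.finrank_HH_iso φ i).symm.trans (finrank_pull_self ParaFLib.isInvertible_structureModule i)
    simp only [e1, e2]
  have hI : PicF.IsInvertible (ClSub.idealMod σ.ker) :=
    isInvertible_ker_of_section f σ hσ
  have hκ' : Φ κ * β ^ (2 * g - 2) = cls hW0 := by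
    obtain ⟨φK⟩ := hKf
    obtain ⟨hP, hPe⟩ := cls_tensorPow hI (2 * g - 2)
    have hM := AmpleLib.isInvertible_tensor hΩ hP
    have hKi : PicF.IsInvertible Kf := ((picDeg_ok_iff hfib).1 hKok).choose
    have hb : β = (pull (pullback.fst f T₀.hom) (cls hI))⁻¹ := by
      rw [← pt_secPt σ hσ hI]
      exact congrArg (pt f) (Over.OverMorphism.ext (Category.id_comp σ))
    have h1 : Φ κ = cls hKi := by
      show pull (PicF.XTmap f (κ ≫ e.inv)) x = _
      rw [← hκ, hψ _ Kf hT hKok, Category.assoc, e.hom_inv_id, Category.comp_id]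
      exact (clfApp_spec hfib hF hKok hKi).trans (hrig _)
    have h2 : cls hKi = pull (pullback.fst f T₀.hom) (cls hM) :=
      ((cls_eq_cls hKi (AmpleLib.isInvertible_pullback _ hM)).2 ⟨φK⟩).trans (pull_cls _ _).symm
    rw [h1, h2, cls_tensor hΩ hP, map_mul, hPe, map_pow, hb, inv_pow, mul_inv_cancel_right, pull_cls]
  refine ⟨fun {n m} hg2 hn hm u v he => ?_, fun a ha w hw haw hg2 x hx => ?_⟩
  · rcases eq_or_exists_canonical hd h0 hW hWd hWl (hn.trans hgY.symm) (fun i => cp (u i)) (fun i => cp (v i))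
      (by rw [← hΦW, ← hΦW, he]; subst hn; subst hm; rfl) with h | ⟨w, hw⟩
    · refine Or.inl fun i => ?_
      obtain ⟨l, hl⟩ := h i
      refine ⟨l, ?_⟩
      have h2 := congrArg pc hl
      simpa only [pc, cp, pointHom_pointClosed] using h2
    · refine Or.inr ⟨∏ i, pc (w (i.cast (by rw [hn]))) ≫ j, ⟨_, rfl⟩, hΦinj (mul_right_cancel (b := β ^ (2 * g - 2)) ?_)⟩
      rw [hκ', ← hw, map_mul]
      have e2 : ∏ i : Fin (g - 2), ptc (k := k) hd (cp (pc (w (i.cast (by rw [hn]))))).1 (cp (pc (w (i.cast (by rw [hn]))))).2 =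
          ∏ i, ptc (k := k) hd (w i).1 (w i).2 := by
        refine Fintype.prod_equiv (finCongr (by rw [hn])) _ _ fun i => ?_
        simp only [cp, pc, pointClosed_pointHom]
        rfl
      rw [← e2, ← hΦW, ← hΦW, show 2 * g - 2 = n + (g - 2) by omega, pow_add, _root_.mul_mul_mul_comm]
  · obtain ⟨u, rfl⟩ := ha
    obtain ⟨w, rfl⟩ := hw
    obtain ⟨x, rfl⟩ := hx
    obtain ⟨v, hv⟩ := exists_through_of_canonical hd h0 hW hWd hWl hgY.symm (fun i => cp (u i)) (fun i => cp (w i))
      (cp (x 0)) (by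
        rw [← hΦW, ← hΦW, ← hκ', ← haw, map_mul, show 2 * g - 2 = g + (g - 2) by omega, pow_add, _root_.mul_mul_mul_comm])
      (by omega)
    refine ⟨fun i => pc (v i), ?_⟩
    rw [mul_inv_eq_iff_eq_mul, Fin.prod_univ_one]
    refine hΦinj (mul_right_cancel (b := β ^ g) ?_)
    rw [hΦW, hv, map_mul, show β ^ g = β ^ (g - 1) * β from by rw [← pow_succ]; congr 1; omega, _root_.mul_mul_mul_comm, hΦW,
      hΦj, div_mul_cancel, hpc (cp (x 0))]
    simp only [cp, pc, pointClosed_pointHom, pointHom_pointClosed]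

end Jac

end Groth.Agent.JacLib
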