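import Groth.Agent.JacLib.WTranslate
import Groth.Agent.CurveFF.Pencil
import Groth.Agent.CurveFF.CanGen
import Groth.Agent.CurveFF.CanSep
import Groth.Agent.CurveFF.DoubleG12

/-!
# Relations between pairs of points in the Jacobian
-/

set_option autoImplicit false
set_option backward.isDefEq.respectTransparency false
set_option backward.isDefEq.respectTransparency.types false
set_option linter.style.haveILetI false
set_option linter.unusedSectionVars false
set_option maxHeartbeats 1000000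

universe u

open CategoryTheory CategoryTheory.Limits AlgebraicGeometry TopologicalSpace MonObj MonoidalCategory CartesianMonoidalCategory
open Groth.Agent.PicLib Groth.Agent.CurveFF

noncomputable section

namespace Groth.Agent.JacLib

attribute [local instance] Curv2.stalkAlgebra
attribute [local instance high] FunFld.Place.algRes

variable {k : Type u} [Field k] [IsAlgClosed k] {C : Scheme.{u}} [C.Over (Spec (CommRingCat.of k))]
  [IsProper (C ↘ Spec (CommRingCat.of k))] [Smooth (C ↘ Spec (CommRingCat.of k))]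
  [GeometricallyConnected (C ↘ Spec (CommRingCat.of k))]

/-- The closed point of a rational point. -/
def kpt (R : 𝟙_ (Over (Spec (CommRingCat.of k))) ⟶ Over.mk (C ↘ Spec (CommRingCat.of k))) :
    {x : C // IsClosed ({x} : Set C)} :=
  ⟨R.left (IsLocalRing.closedPoint k), ((pointEquivClosedPoint (C ↘ Spec (CommRingCat.of k))) ⟨R.left, Over.w R⟩).2⟩

theorem kpt_injective : Function.Injective (kpt (k := k) (C := C)) := fun R S h =>
  Over.OverMorphism.ext (ext_of_apply_closedPoint_eq (C ↘ Spec (CommRingCat.of k)) (Over.w R) (Over.w S)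
    (congrArg Subtype.val h))

theorem kpt_surjective : Function.Surjective (kpt (k := k) (C := C)) := fun z =>
  ⟨Over.homMk (pointOfClosedPoint (C ↘ Spec (CommRingCat.of k)) z.1 z.2) (pointOfClosedPoint_comp _ z.1 z.2),
    Subtype.ext (pointOfClosedPoint_apply _ z.1 z.2 _)⟩

theorem kpt_comp (R : 𝟙_ (Over (Spec (CommRingCat.of k))) ⟶ Over.mk (C ↘ Spec (CommRingCat.of k)))
    (τa : Over.mk (C ↘ Spec (CommRingCat.of k)) ⟶ Over.mk (C ↘ Spec (CommRingCat.of k))) :
    (kpt (R ≫ τa)).1 = τa.left (kpt R).1 := Scheme.Hom.comp_apply _ _ _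

/-- There are at least three rational points. -/
theorem exists_three_points (hdim : topologicalKrullDim ↥C = 1) :
    ∃ a b c : 𝟙_ (Over (Spec (CommRingCat.of k))) ⟶ Over.mk (C ↘ Spec (CommRingCat.of k)),
      a ≠ b ∧ a ≠ c ∧ b ≠ c := by
  classical
  obtain ⟨hint, hreg, -⟩ := setup_of_smooth_connected k C hdim
  haveI := hint
  haveI := hreg
  obtain ⟨x, -⟩ := exists_closed_not_mem k hdim (∅ : Finset {x : C // IsClosed ({x} : Set C)})
  obtain ⟨y, hy⟩ := exists_closed_not_mem k hdim {x}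
  obtain ⟨z, hz⟩ := exists_closed_not_mem k hdim {x, y}
  obtain ⟨a, rfl⟩ := kpt_surjective (k := k) x
  obtain ⟨b, rfl⟩ := kpt_surjective (k := k) y
  obtain ⟨c, rfl⟩ := kpt_surjective (k := k) z
  simp only [Finset.mem_insert, Finset.mem_singleton, not_or] at hy hz
  exact ⟨a, b, c, fun e => hy (e ▸ rfl), fun e => hz.1 (e ▸ rfl), fun e => hz.2 (e ▸ rfl)⟩

variable {J : Over (Spec (CommRingCat.of k))} [GrpObj J] [IsCommMonObj J]
  (σ : Spec (CommRingCat.of k) ⟶ C) (hσ : σ ≫ (C ↘ Spec (CommRingCat.of k)) = 𝟙 _)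
  {ψ : (ModFun.PicDeg (C ↘ Spec (CommRingCat.of k)) 0).Hom ⊤ J}
  (hJ : Jac.IsJacobian (C ↘ Spec (CommRingCat.of k)) ⊤ J ψ)
  (hdim : topologicalKrullDim ↥C = 1)
  {j : Over.mk (C ↘ Spec (CommRingCat.of k)) ⟶ J} (hj : Jac.IsAbelJacobiAt (C ↘ Spec (CommRingCat.of k)) σ ψ j)

include hσ hJ hdim hj in
/-- The degree zero class of a point of the Jacobian, on the curve. -/
theorem exists_classHom [IsIntegral C] [VBLib.IsRegCurve C] :
    ∃ (Φ : (𝟙_ (Over (Spec (CommRingCat.of k))) ⟶ J) →* Pic C) (β : Pic C), Function.Injective Φ ∧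
      ∀ R, Φ (R ≫ j) = ptc (k := k) hdim (kpt R).1 (kpt R).2 / β := by
  let f := C ↘ Spec (CommRingCat.of k)
  let S := Spec (CommRingCat.of k)
  have hfib := fibreDim (k := k) hdim
  haveI := smoothOfRelativeDimension_one f hfib
  obtain ⟨J₀, hG, hC, x, hF, e, -, -, -, hmul, he, -, hj'⟩ := exists_fine_of_isJacobian hdim σ hσ hJ
  letI := hG
  haveI := hC
  haveI := he
  let T₀ : Over S := 𝟙_ (Over S)
  let q : C ⟶ PicF.XT f T₀ := pullback.lift (𝟙 C) f (by show 𝟙 C ≫ f = f ≫ 𝟙 S; rw [Category.id_comp]; exact (Category.comp_id f).symm)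
  have hqi : pullback.fst f T₀.hom ≫ q = 𝟙 _ := by
    apply pullback.hom_ext
    · rw [Category.assoc, pullback.lift_fst, Category.comp_id, Category.id_comp]
    · rw [Category.assoc, pullback.lift_snd, Category.id_comp, pullback.condition]
      exact Category.comp_id _
  have hqi' : q ≫ pullback.fst f T₀.hom = 𝟙 C := pullback.lift_fst _ _ _
  have hinj : Function.Injective (pull q) := fun a b h => by
    have h' := congrArg (pull (pullback.fst f T₀.hom)) h
    rwa [← pull_comp, ← pull_comp, hqi, pull_id, pull_id] at h'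
  have hrig : ∀ a : Pic (PicF.XT f T₀), PicRepLib.rig σ hσ a = a := fun a =>
    PicRepLib.rig_eq_self (eq_one_of_local (R := CommRingCat.of k) _)
  have hinv : ∀ a b : T₀ ⟶ J, (a * b) ≫ e.inv = (a ≫ e.inv) * (b ≫ e.inv) := fun a b => by
    rw [← cancel_mono e.hom, MonObj.mul_comp]
  let Φ₁ : (T₀ ⟶ J) →* Pic (PicF.XT f T₀) := MonoidHom.mk' (fun a => clsHom hmul T₀ (a ≫ e.inv))
    fun a b => by rw [hinv, map_mul]
  refine ⟨(pull q).comp Φ₁, pull q (pt f (basePt f σ hσ T₀)), fun a b h => ?_, fun R => ?_⟩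
  · rw [← cancel_mono e.inv]
    exact hom_ext_fine hfib hF (hinj h)
  · have h1 : Φ₁ (R ≫ j) = pt f R / pt f (basePt f σ hσ T₀) := by
      show pull (PicF.XTmap f ((R ≫ j) ≫ e.inv)) x = _
      rw [hj' j hj, Category.assoc, Category.assoc, e.hom_inv_id, Category.comp_id, pull_comp_abel1, hrig]
    have hI := isInvertible_ker_of_section f R.left (Over.w R)
    have h2 : pull q (pt f R) = ptc (k := k) hdim (kpt R).1 (kpt R).2 := by
      rw [show pt f R = _ from pt_secPt (k := k) (C := C) R.left (Over.w R) hI, map_inv, ptc, inv_inj]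
      refine (pull_comp q (pullback.fst f T₀.hom) (cls hI)).symm.trans ?_
      rw [hqi', pull_id]
      haveI : IsClosedImmersion R.left := isClosedImmersion_of_section f R.left (Over.w R)
      exact cls_ideal_congr (ker_section R.left _ (kpt R).2 rfl) _ _
    show pull q (Φ₁ (R ≫ j)) = _
    rw [h1, map_div, h2]

/-- The divisor of a pair of rational points. -/
def pairDiv [IsIntegral C] [VBLib.IsRegCurve C]
    (R S : 𝟙_ (Over (Spec (CommRingCat.of k))) ⟶ Over.mk (C ↘ Spec (CommRingCat.of k))) :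
    FunFld.Divisor k C.functionField :=
  Finsupp.single (placeOf k hdim (kpt R).1 (kpt R).2) 1 + Finsupp.single (placeOf k hdim (kpt S).1 (kpt S).2) 1

variable [IsIntegral C] [VBLib.IsRegCurve C]

include hσ hJ hdim hj in
/-- Two unequal pairs with the same sum span a pencil. -/
theorem two_le_ell_of_mul_eq (R₁ R₂ R₃ R₄ : 𝟙_ (Over (Spec (CommRingCat.of k))) ⟶ Over.mk (C ↘ Spec (CommRingCat.of k)))
    (h : (R₁ ≫ j) * (R₂ ≫ j) = (R₃ ≫ j) * (R₄ ≫ j)) (h13 : R₁ ≠ R₃) (h14 : R₁ ≠ R₄) :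
    2 ≤ FunFld.ell (pairDiv (k := k) hdim R₁ R₂) := by
  classical
  obtain ⟨-, -, h0⟩ := setup_of_smooth_connected k C hdim
  obtain ⟨Φ, β, -, hΦ⟩ := exists_classHom σ hσ hJ hdim hj
  have h1 := congrArg Φ h
  rw [map_mul, map_mul, hΦ, hΦ, hΦ, hΦ, div_mul_div_comm, div_mul_div_comm] at h1
  have hd : ∀ R S, HasDiv k hdim (ptc (k := k) hdim (kpt R).1 (kpt R).2 * ptc (k := k) hdim (kpt S).1 (kpt S).2)
      (pairDiv (k := k) hdim R S) := fun R S =>
    hasDiv_mul hdim (hasDiv_ptc hdim h0 _ _) (hasDiv_ptc hdim h0 _ _)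
  have h2 := (eq_iff_of_hasDiv hdim h0 (hd R₁ R₂) (hd R₃ R₄)).1 (div_left_injective h1)
  have hnn : ∀ R S, 0 ≤ pairDiv (k := k) hdim R S := fun R S =>
    add_nonneg (Finsupp.single_nonneg.2 zero_le_one) (Finsupp.single_nonneg.2 zero_le_one)
  have hpos : 0 < FunFld.ell (pairDiv (k := k) hdim R₁ R₂) :=
    ell_pos_of_sub_mem hdim h0 (hnn R₁ R₂) (by rw [sub_self]; exact zero_mem _)
  by_contra hlt
  have hE := eq_of_ell_one hdim h0 (hnn R₁ R₂) (hnn R₃ R₄) (by omega) h2
  have hne : ∀ R S : 𝟙_ (Over (Spec (CommRingCat.of k))) ⟶ Over.mk (C ↘ Spec (CommRingCat.of k)), R ≠ S → placeOf k hdim (kpt R).1 (kpt R).2 ≠ placeOf k hdim (kpt S).1 (kpt S).2 :=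
    fun R S hRS e => hRS (kpt_injective (Subtype.ext (placeOf_injective hdim (kpt R).2 (kpt S).2 e)))
  have h3 := congrArg (fun D => D (placeOf k hdim (kpt R₁).1 (kpt R₁).2)) hE
  simp only [pairDiv, Finsupp.add_apply, Finsupp.single_eq_same, Finsupp.single_eq_of_ne (hne _ _ h13),
    Finsupp.single_eq_of_ne (hne _ _ h14)] at h3
  rcases eq_or_ne R₁ R₂ with rfl | h12
  · rw [Finsupp.single_eq_same] at h3; omega
  · rw [Finsupp.single_eq_of_ne (hne _ _ h12)] at h3; omega

include hσ hJ hdim hj in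
/-- Pairs spanning pencils have the same sum. -/
theorem mul_eq_of_two_le_ell (hg : 2 ≤ Curv2.genus k C)
    (R₁ R₂ R₃ R₄ : 𝟙_ (Over (Spec (CommRingCat.of k))) ⟶ Over.mk (C ↘ Spec (CommRingCat.of k)))
    (h : 2 ≤ FunFld.ell (pairDiv (k := k) hdim R₁ R₂)) (h' : 2 ≤ FunFld.ell (pairDiv (k := k) hdim R₃ R₄)) :
    (R₁ ≫ j) * (R₂ ≫ j) = (R₃ ≫ j) * (R₄ ≫ j) := by
  classical
  obtain ⟨-, -, h0⟩ := setup_of_smooth_connected k C hdim
  obtain ⟨Φ, β, hinj, hΦ⟩ := exists_classHom σ hσ hJ hdim hj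
  have hK := isFunctionField k hdim h0
  have hdeg : ∀ R S, (pairDiv (k := k) hdim R S).deg = 2 := fun R S => by
    rw [pairDiv, FF.deg_add, FF.deg_single, FF.deg_single, deg_place hdim h0, deg_place hdim h0]; rfl
  have hgen : 2 ≤ FunFld.genus k C.functionField := by rw [← CurveFF.genus_eq hdim h0]; exact hg
  have h2 := g12_unique hK hgen (hdeg R₃ R₄) (hdeg R₁ R₂) h' h
  refine hinj ?_
  rw [map_mul, map_mul, hΦ, hΦ, hΦ, hΦ, div_mul_div_comm, div_mul_div_comm]
  refine congrArg (· / _) ((eq_iff_of_hasDiv hdim h0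
    (hasDiv_mul hdim (hasDiv_ptc hdim h0 _ _) (hasDiv_ptc hdim h0 _ _))
    (hasDiv_mul hdim (hasDiv_ptc hdim h0 _ _) (hasDiv_ptc hdim h0 _ _))).2 ?_)
  exact h2

include hσ hJ hdim hj in
/-- The Abel map is injective on rational points. -/
theorem comp_abel_injective (hg : 1 ≤ Curv2.genus k C)
    {R S : 𝟙_ (Over (Spec (CommRingCat.of k))) ⟶ Over.mk (C ↘ Spec (CommRingCat.of k))} (h : R ≫ j = S ≫ j) : R = S := by
  classical
  obtain ⟨-, -, h0⟩ := setup_of_smooth_connected k C hdim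
  obtain ⟨Φ, β, hinj, hΦ⟩ := exists_classHom σ hσ hJ hdim hj
  have h1 := congrArg Φ h
  rw [hΦ, hΦ] at h1
  have h2 := (eq_iff_of_hasDiv hdim h0 (hasDiv_ptc hdim h0 (kpt R).1 (kpt R).2)
    (hasDiv_ptc hdim h0 (kpt S).1 (kpt S).2)).1 (div_left_injective h1)
  let D : FunFld.Divisor k C.functionField := Finsupp.single (placeOf k hdim (kpt R).1 (kpt R).2) 1
  have hD : 0 ≤ D := Finsupp.single_nonneg.2 zero_le_one
  have hle := ell_single_le hdim h0 hg (placeOf k hdim (kpt R).1 (kpt R).2)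
  rw [deg_place hdim h0] at hle
  have hpos : 0 < FunFld.ell D := ell_pos_of_sub_mem hdim h0 hD (by rw [sub_self]; exact zero_mem _)
  have hone : FunFld.ell D = 1 := le_antisymm hle hpos
  have he := eq_of_ell_one hdim h0 hD (Finsupp.single_nonneg.2 zero_le_one) hone h2
  exact (kpt_injective (Subtype.ext (placeOf_injective hdim (kpt S).2 (kpt R).2
    ((Finsupp.single_left_inj one_ne_zero).1 he)))).symm

include hσ hJ hdim hj in
/-- An automorphism differing from the identity by a translation is trivial. -/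
theorem eq_one_of_translate (hg : 2 ≤ Curv2.genus k C)
    (τa : Over.mk (C ↘ Spec (CommRingCat.of k)) ⟶ Over.mk (C ↘ Spec (CommRingCat.of k))) (d : 𝟙_ (Over (Spec (CommRingCat.of k))) ⟶ J)
    (h : ∀ R, (R ≫ τa) ≫ j = (R ≫ j) * d) : d = 1 := by
  classical
  obtain ⟨a, b, c, hab, hac, hbc⟩ := exists_three_points (k := k) hdim
  by_contra hd
  have hne : ∀ R, R ≠ R ≫ τa := fun R e => hd (mul_left_cancel
    (a := R ≫ j) ((h R).symm.trans ((congrArg (· ≫ j) e.symm).trans (_root_.mul_one _).symm)))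
  have hG : ∀ R Q, Q ≠ R → 2 ≤ FunFld.ell (pairDiv (k := k) hdim R (Q ≫ τa)) := fun R Q hQR =>
    two_le_ell_of_mul_eq σ hσ hJ hdim hj R (Q ≫ τa) Q (R ≫ τa) (by rw [h, h]; ac_rfl) (Ne.symm hQR) (hne R)
  exact hbc (comp_abel_injective σ hσ hJ hdim hj (le_trans one_le_two hg)
    (mul_right_cancel (mul_eq_of_two_le_ell σ hσ hJ hdim hj hg b (a ≫ τa) c (a ≫ τa) (hG b a hab) (hG c a hac))))

include hσ hJ hdim hj in
/-- A map whose sum with the identity is constant gives a pencil of degree two. -/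
theorem exists_g12_of_reflect (hg : 1 ≤ Curv2.genus k C)
    (τa : Over.mk (C ↘ Spec (CommRingCat.of k)) ⟶ Over.mk (C ↘ Spec (CommRingCat.of k)))
    (hτa : ∀ R S : 𝟙_ (Over (Spec (CommRingCat.of k))) ⟶ Over.mk (C ↘ Spec (CommRingCat.of k)), R ≫ τa = S ≫ τa → R = S)
    (d : 𝟙_ (Over (Spec (CommRingCat.of k))) ⟶ J) (h : ∀ R, ((R ≫ τa) ≫ j) * (R ≫ j) = d) :
    ∃ L : C.Modules, PicF.IsInvertible L ∧ Curv2.deg k C L 1 = 2 ∧ Module.finrank k (Coh.HH C L 0) = 2 := by
  classical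
  obtain ⟨-, -, h0⟩ := setup_of_smooth_connected k C hdim
  obtain ⟨a, b, c, hab, hac, hbc⟩ := exists_three_points (k := k) hdim
  obtain ⟨R, S, hSR, hSτa⟩ : ∃ R S, S ≠ R ∧ R ≠ S ≫ τa := by
    by_cases hb : a = b ≫ τa
    · exact ⟨a, c, hac.symm, fun e => hbc (hτa b c (hb.symm.trans e))⟩
    · exact ⟨a, b, hab.symm, hb⟩
  have hG := two_le_ell_of_mul_eq σ hσ hJ hdim hj R (R ≫ τa) S (S ≫ τa)
    (by rw [mul_comm (R ≫ j), mul_comm (S ≫ j), h, h]) hSR.symm hSτa
  obtain ⟨L, e, hL, he, hD⟩ := exists_module hdim h0 (pairDiv (k := k) hdim R (R ≫ τa))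
  have hdeg : (pairDiv (k := k) hdim R (R ≫ τa)).deg = 2 := by
    rw [pairDiv, FF.deg_add, FF.deg_single, FF.deg_single, deg_place hdim h0, deg_place hdim h0]; rfl
  have hgen : 1 ≤ FunFld.genus k C.functionField := by rw [← CurveFF.genus_eq hdim h0]; exact hg
  refine ⟨L, hL, ?_, ?_⟩
  · rw [(genus_and_deg hdim h0 hL he hD).2, hdeg]
  · rw [finrank_H0_eq_ell hdim hL he hD]
    exact le_antisymm (CurveFF.ell_le_two (isFunctionField k hdim h0) hgen hdeg) hG

end Groth.Agent.JacLib
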