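import Groth.Agent.JacLib.AlbaneseCoarse
import Groth.Agent.JacLib.OpenEll

/-!
# Translates of the images of the symmetric powers in the Jacobian
-/

set_option autoImplicit false
set_option backward.isDefEq.respectTransparency false
set_option backward.isDefEq.respectTransparency.types false
set_option linter.style.haveILetI false
set_option linter.unusedSectionVars false
set_option maxHeartbeats 1000000

universe u

open CategoryTheory CategoryTheory.Limits AlgebraicGeometry TopologicalSpace MonObj MonoidalCategory CartesianMonoidalCategory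
open Groth.Agent.PicLib Groth.Agent.CurveFF

noncomputable section

namespace Groth.Agent.JacLib

attribute [local instance] Curv2.stalkAlgebra
attribute [local instance high] FunFld.Place.algRes

section Curve

variable {k : Type u} [Field k] [IsAlgClosed k] {C : Scheme.{u}} [C.Over (Spec (CommRingCat.of k))]
  [IsProper (C ↘ Spec (CommRingCat.of k))] [IsIntegral C] [VBLib.IsRegCurve C]
  (hdim : topologicalKrullDim C = 1) (h0 : Module.finrank k (Coh.HH C (Coh.structureModule C) 0) = 1)

include hdim h0 in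
/-- A divisor equivalent to an effective one has a section. -/
theorem ell_pos_of_sub_mem {D E : FunFld.Divisor k C.functionField} (hE : 0 ≤ E)
    (h : E - D ∈ FunFld.prinDivs k C.functionField) : 0 < FunFld.ell D := by
  have hK := isFunctionField k hdim h0
  obtain ⟨z, hz, hzd⟩ := (FF.mem_prinDivs_iff hK).1 h
  have hzL : z ∈ FunFld.L D := (FF.mem_L_iff_ord hz).2 fun P => by
    have h4 : FunFld.div k z P = P.ord z := FF.div_apply hK z P
    rw [hzd, Finsupp.sub_apply] at h4
    rw [← h4, sub_add_cancel]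
    exact hE P
  haveI := FF.finite_L hK D
  exact Module.finrank_pos_iff_exists_ne_zero.2 ⟨⟨z, hzL⟩, fun e => hz (congrArg Subtype.val e)⟩

include hdim h0 in
/-- General points keep a linear system of degree below the genus empty. -/
theorem exists_ell_zero_add : ∀ (r : ℕ) (D : FunFld.Divisor k C.functionField), FunFld.ell D = 0 →
    D.deg + r + 1 ≤ Curv2.genus k C → ∃ x : Fin r → {x : C // IsClosed ({x} : Set C)},
      FunFld.ell (D + ∑ i, Finsupp.single (placeOf k hdim (x i).1 (x i).2) (1 : ℤ)) = 0 := by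
  classical
  have hK := isFunctionField k hdim h0
  obtain ⟨K, hC⟩ := FF.exists_canonical hK
  obtain ⟨eO, heO⟩ := exists_base (L := Coh.structureModule C) ParaFLib.isInvertible_structureModule
  obtain ⟨DO, hDO⟩ := exists_isDiv hdim h0 ParaFLib.isInvertible_structureModule heO
  have hgen := (genus_and_deg hdim h0 ParaFLib.isInvertible_structureModule heO hDO).1
  intro r
  induction r with
  | zero =>
    intro D hD _
    exact ⟨Fin.elim0, by rw [Finset.univ_eq_empty, Finset.sum_empty, add_zero, hD]⟩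
  | succ r ih =>
    intro D hD hdeg
    have hl := FF.riemann_roch hK hC D
    obtain ⟨z, hz, hzL⟩ := FF.exists_ne_zero_of_ell_pos (D := K - D) (by push_cast at hdeg; omega)
    let E := K - D + FunFld.div k z
    obtain ⟨y, hy⟩ := exists_closed_not_mem k hdim
      ((Finset.finite_toSet E.support).preimage (f := fun y : {x : C // IsClosed ({x} : Set C)} => placeOf k hdim y.1 y.2)
        (fun a _ b _ h => Subtype.ext (placeOf_injective hdim a.2 b.2 h))).toFinset
    let Q := placeOf k hdim y.1 y.2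
    have hQ : E Q = 0 := by
      by_contra h
      exact hy ((Set.Finite.mem_toFinset _).2 (Finsupp.mem_support_iff.2 h))
    have hle : K - (Finsupp.single Q 1 + D) ≤ K - D := by
      rw [sub_le_sub_iff_left, le_add_iff_nonneg_left]
      exact Finsupp.single_nonneg.2 zero_le_one
    have hlt : FunFld.ell (K - (Finsupp.single Q 1 + D)) < FunFld.ell (K - D) := by
      haveI := FF.finite_L hK (K - D)
      refine Submodule.finrank_lt_finrank_of_lt (lt_of_le_of_ne (FF.L_mono hle) fun h6 => ?_)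
      have h7 := (FF.mem_L_iff_ord hz).1 (h6 ▸ hzL : z ∈ FunFld.L (K - (Finsupp.single Q 1 + D))) Q
      rw [Finsupp.sub_apply, Finsupp.add_apply, Finsupp.single_eq_same] at h7
      simp only [E, Finsupp.add_apply, Finsupp.sub_apply, FF.div_apply hK] at hQ
      omega
    have hl' := FF.riemann_roch hK hC (Finsupp.single Q 1 + D)
    rw [FF.deg_add, FF.deg_single, deg_place hdim h0] at hl'
    have h1 : FunFld.ell (Finsupp.single Q 1 + D) = 0 := by omega
    obtain ⟨x, hx⟩ := ih (Finsupp.single Q 1 + D) h1 (by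
      rw [FF.deg_add, FF.deg_single, deg_place hdim h0]; push_cast at hdeg ⊢; omega)
    refine ⟨Fin.cons y x, ?_⟩
    rw [Fin.sum_univ_succ, Fin.cons_zero]
    simp only [Fin.cons_succ]
    rw [← hx]
    congr 1
    abel

include h0 in
/-- If all translates by effective divisors of degree `r` are effective, so is the class. -/
theorem exists_eq_prod_of_forall (c : Pic C) (m r : ℕ) (hmr : m + r + 1 ≤ Curv2.genus k C)
    (H : ∀ x : Fin r → {x : C // IsClosed ({x} : Set C)}, ∃ y : Fin (m + r) → {x : C // IsClosed ({x} : Set C)},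
      c * ∏ i, ptc (k := k) hdim (x i).1 (x i).2 = ∏ i, ptc (k := k) hdim (y i).1 (y i).2) :
    ∃ x : Fin m → {x : C // IsClosed ({x} : Set C)}, c = ∏ i, ptc (k := k) hdim (x i).1 (x i).2 := by
  classical
  have hK := isFunctionField k hdim h0
  obtain ⟨D, hD⟩ := exists_hasDiv hdim h0 c
  have hH : ∀ x : Fin r → {x : C // IsClosed ({x} : Set C)}, ∃ E : FunFld.Divisor k C.functionField,
      0 ≤ E ∧ E.deg = ((m + r : ℕ) : ℤ) ∧ E - (D + ∑ i, Finsupp.single (placeOf k hdim (x i).1 (x i).2) (1 : ℤ)) ∈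
        FunFld.prinDivs k C.functionField := fun x => by
    obtain ⟨y, hy⟩ := H x
    exact ⟨_, Finset.sum_nonneg fun i _ => Finsupp.single_nonneg.2 zero_le_one, deg_eq_card hdim h0 _,
      (eq_iff_of_hasDiv hdim h0 (hasDiv_mul hdim hD (hasDiv_prod hdim Finset.univ _ _ fun i => hasDiv_ptc hdim h0 (x i).1 (x i).2))
        (hasDiv_prod hdim Finset.univ _ _ fun i => hasDiv_ptc hdim h0 (y i).1 (y i).2)).1 hy⟩
  obtain ⟨p, -⟩ := exists_closed_not_mem k hdim (∅ : Finset {x : C // IsClosed ({x} : Set C)})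
  have hdeg : D.deg = (m : ℤ) := by
    obtain ⟨E, -, hE, hp⟩ := hH fun _ => p
    obtain ⟨z, hz, hzd⟩ := (FF.mem_prinDivs_iff hK).1 hp
    have h := congrArg FunFld.Divisor.deg hzd
    rw [FF.deg_div hK, FF.deg_sub, FF.deg_add, hE, deg_eq_card hdim h0] at h
    push_cast at h
    omega
  have hell : 0 < FunFld.ell D := by
    by_contra h
    obtain ⟨x, hx⟩ := exists_ell_zero_add hdim h0 r D (by omega) (by omega)
    obtain ⟨E, hE, -, hp⟩ := hH x
    exact (ell_pos_of_sub_mem hdim h0 hE hp).ne' hx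
  obtain ⟨z, hz, hzL⟩ := FF.exists_ne_zero_of_ell_pos (D := D) hell
  obtain ⟨P, hP⟩ := exists_eq_sum hdim h0 (FF.le_add_div_of_mem_L hK hz hzL) m
    (by rw [FF.deg_add, FF.deg_div hK, add_zero, hdeg])
  have hs : ∀ i, ∃ x : {x : C // IsClosed ({x} : Set C)}, placeOf k hdim x.1 x.2 = P i := fun i => by
    obtain ⟨x, hx, h⟩ := placeOf_surjective hdim (P i)
    exact ⟨⟨x, hx⟩, h⟩
  choose x hx using hs
  refine ⟨x, (eq_iff_of_hasDiv hdim h0 hD
    (hasDiv_prod hdim Finset.univ _ _ fun i => hasDiv_ptc hdim h0 (x i).1 (x i).2)).2 ?_⟩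
  simp only [hx, hP, add_sub_cancel_left]
  exact (FF.mem_prinDivs_iff hK).2 ⟨z, hz, rfl⟩

end Curve

section Jac

variable {k : Type u} [Field k] [IsAlgClosed k] {C : Scheme.{u}} [C.Over (Spec (CommRingCat.of k))]
  [IsProper (C ↘ Spec (CommRingCat.of k))] [Smooth (C ↘ Spec (CommRingCat.of k))]
  [GeometricallyConnected (C ↘ Spec (CommRingCat.of k))]

attribute [local instance] overSelf

/-- The structure morphism of the `n`-fold power. -/
abbrev powT (n : ℕ) : Over (Spec (CommRingCat.of k)) :=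
  Over.mk (WidePullback.base fun _ : Fin n => C ↘ Spec (CommRingCat.of k))

/-- The sum map of the `n`-fold power. -/
abbrev powSum {J : Over (Spec (CommRingCat.of k))} [GrpObj J] (j : Over.mk (C ↘ Spec (CommRingCat.of k)) ⟶ J) (n : ℕ) :
    powT (k := k) (C := C) n ⟶ J :=
  (List.ofFn fun i : Fin n =>
    (Over.homMk (WidePullback.π (fun _ : Fin n => C ↘ Spec (CommRingCat.of k)) i)
      (WidePullback.π_arrow (fun _ : Fin n => C ↘ Spec (CommRingCat.of k)) i) :
        powT (k := k) (C := C) n ⟶ Over.mk (C ↘ Spec (CommRingCat.of k))) ≫ j).prod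

theorem proper_fibPow (n : ℕ) : IsProper (powT (k := k) (C := C) n).hom := by
  let f := C ↘ Spec (CommRingCat.of k)
  let e : pow f n ⟶ powT (k := k) (C := C) n := Over.homMk (WidePullback.lift (pow f n).hom
    (fun i => (comps f n (𝟙 _) i).left) fun i => Over.w (comps f n (𝟙 _) i)) (WidePullback.lift_base _ _ _ _)
  let e' : powT (k := k) (C := C) n ⟶ pow f n := tuple f n fun i =>
    Over.homMk (WidePullback.π (fun _ : Fin n => f) i) (WidePullback.π_arrow (fun _ : Fin n => f) i)
  have hcomp : ∀ i, e ≫ (Over.homMk (WidePullback.π (fun _ : Fin n => f) i)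
      (WidePullback.π_arrow (fun _ : Fin n => f) i) : powT (k := k) (C := C) n ⟶ Over.mk f) = comps f n (𝟙 _) i :=
    fun i => Over.OverMorphism.ext (WidePullback.lift_π _ _ _ _ i)
  have h1 : e'.left ≫ e.left = 𝟙 _ := WidePullback.hom_ext _ _ _ (fun i => by
    have h := congrArg (fun g => (e' ≫ g).left) (hcomp i)
    simp only [← comps_eq, e', comps_tuple, Over.comp_left] at h
    rw [Category.assoc, Category.id_comp]
    exact h) (by rw [Category.id_comp, Category.assoc]; exact (congrArg (e'.left ≫ ·) (Over.w e)).trans (Over.w e'))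
  have h2 : e ≫ e' = 𝟙 _ := by
    rw [← tuple_comps f n (e ≫ e'), ← tuple_comps f n (𝟙 (pow f n))]
    refine congrArg (tuple f n) (funext fun i => ?_)
    rw [comps_eq, Category.assoc, ← comps_eq e', comps_tuple, hcomp]
  haveI : IsIso e'.left := ⟨e.left, h1, congrArg CommaMorphism.left h2⟩
  rw [← Over.w e']
  infer_instance

/-- The points of the image of the `n`-fold power. -/
def WPts {J : Over (Spec (CommRingCat.of k))} [GrpObj J] [IsCommMonObj J]
    (j : Over.mk (C ↘ Spec (CommRingCat.of k)) ⟶ J) (n : ℕ) :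
    Set (𝟙_ (Over (Spec (CommRingCat.of k))) ⟶ J) :=
  {a | ∃ y : Fin n → (𝟙_ (Over (Spec (CommRingCat.of k))) ⟶ Over.mk (C ↘ Spec (CommRingCat.of k))),
    a = ∏ i, y i ≫ j}

variable {J : Over (Spec (CommRingCat.of k))} [GrpObj J] [IsCommMonObj J]
  (σ : Spec (CommRingCat.of k) ⟶ C) (hσ : σ ≫ (C ↘ Spec (CommRingCat.of k)) = 𝟙 _)
  {ψ : (ModFun.PicDeg (C ↘ Spec (CommRingCat.of k)) 0).Hom ⊤ J}
  (hJ : Jac.IsJacobian (C ↘ Spec (CommRingCat.of k)) ⊤ J ψ)
  {j : Over.mk (C ↘ Spec (CommRingCat.of k)) ⟶ J}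

theorem mul_mem_WPts {n m : ℕ} {a b : 𝟙_ (Over (Spec (CommRingCat.of k))) ⟶ J}
    (ha : a ∈ WPts j n) (hb : b ∈ WPts j m) : a * b ∈ WPts j (n + m) := by
  obtain ⟨y, rfl⟩ := ha
  obtain ⟨z, rfl⟩ := hb
  exact ⟨Fin.append y z, by simp [Fin.prod_univ_add]⟩

variable (hdim : topologicalKrullDim ↥C = 1) (hj : Jac.IsAbelJacobiAt (C ↘ Spec (CommRingCat.of k)) σ ψ j)

include hσ hJ hdim hj in
/-- A point all of whose translates by `W^r` lie in `W^(m+r)` lies in `W^m`. -/
theorem mem_WPts_of_forall (m r : ℕ) (hmr : m + r + 1 ≤ Curv2.genus k C)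
    (c : 𝟙_ (Over (Spec (CommRingCat.of k))) ⟶ J) (H : ∀ a ∈ WPts j r, c * a ∈ WPts j (m + r)) :
    c ∈ WPts j m := by
  classical
  let f := C ↘ Spec (CommRingCat.of k)
  let S := Spec (CommRingCat.of k)
  have hfib := fibreDim (k := k) hdim
  haveI := smoothOfRelativeDimension_one f hfib
  obtain ⟨J₀, hG, hC, x, hF, e, -, -, -, hmul, he, -, hj'⟩ := exists_fine_of_isJacobian hdim σ hσ hJ
  letI := hG
  haveI := hC
  haveI := he
  let T₀ : Over S := Over.mk (𝟙 S)
  let Y := PicF.XT f T₀
  haveI : IsProper (self k C ↘ Spec (CommRingCat.of k)) := isProper_XT f (𝟙 S)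
  haveI : Smooth (self k C ↘ Spec (CommRingCat.of k)) := smooth_XT f (𝟙 S)
  haveI : GeometricallyConnected (self k C ↘ Spec (CommRingCat.of k)) := geometricallyConnected_XT f (𝟙 S)
  have hd : topologicalKrullDim (self k C) = 1 := dim_XT f (𝟙 S) hfib
  obtain ⟨hint, hreg, h0⟩ := setup_of_smooth_connected k (self k C) hd
  haveI := hint
  haveI := hreg
  have hgY : Curv2.genus k (self k C) = Curv2.genus k C := (genus_XT f (𝟙 S)).trans (by
    rw [show (𝟙 S : S ⟶ S) (IsLocalRing.closedPoint k) = IsLocalRing.closedPoint k from rfl, fiberRank_genus])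
  have hrig : ∀ a : Pic (PicF.XT f T₀), PicRepLib.rig σ hσ a = a := fun a =>
    PicRepLib.rig_eq_self (eq_one_of_local (R := CommRingCat.of k) _)
  have hinv : ∀ a b : T₀ ⟶ J, (a * b) ≫ e.inv = (a ≫ e.inv) * (b ≫ e.inv) := fun a b => by
    rw [← cancel_mono e.hom, MonObj.mul_comp]
  let Φ : (T₀ ⟶ J) →* Pic (PicF.XT f T₀) := MonoidHom.mk' (fun a => clsHom hmul T₀ (a ≫ e.inv))
    fun a b => by rw [hinv, map_mul]
  have hΦinj : Function.Injective Φ := fun a b h => by
    rw [← cancel_mono e.inv]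
    exact hom_ext_fine hfib hF h
  let β := pt f (basePt f σ hσ T₀)
  have hΦj : ∀ y : T₀ ⟶ Over.mk f, Φ (y ≫ j) = pt f y / β := fun y => by
    show pull (PicF.XTmap f ((y ≫ j) ≫ e.inv)) x = _
    rw [hj' j hj, Category.assoc, Category.assoc, e.hom_inv_id, Category.comp_id, pull_comp_abel1, hrig]
  have hΦW : ∀ {n : ℕ} (y : Fin n → (T₀ ⟶ Over.mk f)), Φ (∏ i, y i ≫ j) * β ^ n = ∏ i, pt f (y i) := fun {n} y => by
    rw [map_prod]
    simp only [hΦj]
    rw [Finset.prod_div_distrib, Finset.prod_const, Finset.card_univ, Fintype.card_fin, div_mul_cancel]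
  let pc : {z : self k C // IsClosed ({z} : Set (self k C))} → (T₀ ⟶ Over.mk f) := fun z => pointHom f (𝟙 S) z.1 z.2
  have hpc : ∀ z, ptc (k := k) hd z.1 z.2 = pt f (pc z) := fun z => ptc_eq_pt f (𝟙 S) hd z.1 z.2
  obtain ⟨z, hz⟩ := exists_eq_prod_of_forall (k := k) (C := self k C) hd h0 (Φ c * β ^ m) m r (by omega) fun z => by
    obtain ⟨y, hy⟩ := H _ ⟨fun i => pc (z i), rfl⟩
    refine ⟨fun i => pointClosed f (𝟙 S) (y i), ?_⟩
    simp only [hpc, pc, pointHom_pointClosed]
    rw [← hΦW, ← hΦW, ← hy, map_mul, pow_add]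
    ac_rfl
  refine ⟨fun i => pc (z i), hΦinj (mul_right_cancel (b := β ^ m) ?_)⟩
  rw [hΦW, hz]
  simp only [hpc]

omit [IsCommMonObj J] in
theorem comp_powSum {T : Over (Spec (CommRingCat.of k))} (n : ℕ) (w : T ⟶ powT (k := k) (C := C) n)
    [IsCommMonObj J] : w ≫ powSum j n = ∏ i, (w ≫ (Over.homMk (WidePullback.π (fun _ : Fin n => C ↘ Spec (CommRingCat.of k)) i)
      (WidePullback.π_arrow (fun _ : Fin n => C ↘ Spec (CommRingCat.of k)) i) :
        powT (k := k) (C := C) n ⟶ Over.mk (C ↘ Spec (CommRingCat.of k)))) ≫ j := by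
  rw [powSum, List.prod_ofFn, comp_prod]
  simp only [Category.assoc]

include hσ hJ hdim in
theorem isSeparated_jac : IsSeparated J.hom ∧ LocallyOfFiniteType J.hom := by
  haveI := smoothOfRelativeDimension_one _ (fibreDim (k := k) hdim)
  obtain ⟨J₀, hG, hC, x, hF, e, h1, -, -, -, -, -, -⟩ := exists_fine_of_isJacobian hdim σ hσ hJ
  haveI : IsIso e.inv.left := inferInstanceAs (IsIso ((Over.forget _).map e.inv))
  rw [← Over.w e.inv]
  exact ⟨inferInstance, inferInstance⟩

variable [IsSeparated J.hom] [LocallyOfFiniteType J.hom]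

/-- The point of a rational point. -/
def jpt (q : 𝟙_ (Over (Spec (CommRingCat.of k))) ⟶ J) : J.left := q.left (IsLocalRing.closedPoint k)

theorem eq_of_jpt_eq {q q' : 𝟙_ (Over (Spec (CommRingCat.of k))) ⟶ J} (h : jpt q = jpt q') : q = q' :=
  Over.OverMorphism.ext (ext_of_apply_closedPoint_eq J.hom (Over.w q) (Over.w q') h)

theorem jpt_mem_range_iff (n : ℕ) (q : 𝟙_ (Over (Spec (CommRingCat.of k))) ⟶ J) :
    jpt q ∈ Set.range (powSum j n).left ↔ q ∈ WPts j n := by
  let f := C ↘ Spec (CommRingCat.of k)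
  let π : Fin n → (powT (k := k) (C := C) n ⟶ Over.mk f) := fun i =>
    Over.homMk (WidePullback.π (fun _ : Fin n => f) i) (WidePullback.π_arrow (fun _ : Fin n => f) i)
  constructor
  · rintro ⟨t, ht⟩
    haveI : LocallyOfFiniteType (powT (k := k) (C := C) n).hom := by
      haveI := proper_fibPow (k := k) (C := C) n
      infer_instance
    haveI : JacobsonSpace (powT (k := k) (C := C) n).left :=
      LocallyOfFiniteType.jacobsonSpace (powT (k := k) (C := C) n).hom
    have hcl : IsClosed ({jpt q} : Set J.left) := ((pointEquivClosedPoint J.hom) ⟨q.left, Over.w q⟩).2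
    obtain ⟨z, hz, hzc⟩ := nonempty_inter_closedPoints (Z := (powSum j n).left ⁻¹' {jpt q}) ⟨t, ht⟩
      (hcl.preimage (powSum j n).left.continuous).isLocallyClosed
    let w : 𝟙_ (Over (Spec (CommRingCat.of k))) ⟶ powT (k := k) (C := C) n :=
      Over.homMk (pointOfClosedPoint (powT (k := k) (C := C) n).hom z hzc) (pointOfClosedPoint_comp _ z hzc)
    refine ⟨fun i => w ≫ π i, ?_⟩
    rw [← comp_powSum n w]
    refine eq_of_jpt_eq ?_
    show jpt q = (pointOfClosedPoint _ z hzc ≫ (powSum j n).left) _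
    rw [Scheme.Hom.comp_apply, pointOfClosedPoint_apply]
    exact hz.symm
  · rintro ⟨y, rfl⟩
    let w : 𝟙_ (Over (Spec (CommRingCat.of k))) ⟶ powT (k := k) (C := C) n :=
      Over.homMk (WidePullback.lift (𝟙 _) (fun i => (y i).left) fun i => Over.w (y i)) (WidePullback.lift_base _ _ _ _)
    have hw : ∀ i, w ≫ π i = y i := fun i => Over.OverMorphism.ext (WidePullback.lift_π _ _ _ _ i)
    have e : w ≫ powSum j n = ∏ i, y i ≫ j := by
      rw [comp_powSum]
      exact Finset.prod_congr rfl fun i _ => by rw [← hw i]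
    exact ⟨w.left (IsLocalRing.closedPoint k), by rw [← e]; exact (Scheme.Hom.comp_apply _ _ _).symm⟩

theorem isClosed_range_powSum (n : ℕ) : IsClosed (Set.range (powSum j n).left) := by
  haveI := proper_fibPow (k := k) (C := C) n
  haveI : IsProper ((powSum j n).left ≫ J.hom) := by
    rw [Over.w (powSum j n)]; infer_instance
  haveI := IsProper.of_comp (powSum j n).left J.hom
  exact (powSum j n).left.isClosedMap.isClosed_range

/-- A closed set contains another as soon as it contains its rational points. -/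
theorem subset_of_jpt {Z W : Set J.left} (hZ : IsClosed Z) (hW : IsClosed W)
    (h : ∀ q, jpt q ∈ Z → jpt q ∈ W) : Z ⊆ W := by
  haveI : JacobsonSpace J.left := LocallyOfFiniteType.jacobsonSpace J.hom
  intro p hp
  by_contra hpW
  obtain ⟨z, hz, hzc⟩ := nonempty_inter_closedPoints (Z := Z ∩ Wᶜ) ⟨p, hp, hpW⟩
    (hZ.isLocallyClosed.inter hW.isOpen_compl.isLocallyClosed)
  let q : 𝟙_ (Over (Spec (CommRingCat.of k))) ⟶ J :=
    Over.homMk (pointOfClosedPoint J.hom z hzc) (pointOfClosedPoint_comp _ z hzc)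
  have hq : jpt q = z := pointOfClosedPoint_apply _ z hzc _
  exact hz.2 (hq ▸ h q (hq ▸ hz.1))

omit [IsSeparated J.hom] [LocallyOfFiniteType J.hom] in
/-- Translation as a homeomorphism. -/
theorem transl_comp (a b : 𝟙_ (Over (Spec (CommRingCat.of k))) ⟶ J) :
    Jac.transl J a ≫ Jac.transl J b = Jac.transl J (a * b) := by
  rw [Jac.transl, Jac.transl, Jac.transl, MonObj.comp_mul, Category.comp_id, ← Category.assoc,
    Subsingleton.elim ((𝟙 J * toUnit J ≫ a) ≫ toUnit J) (toUnit J), MonObj.comp_mul, _root_.mul_assoc]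

omit [IsSeparated J.hom] [LocallyOfFiniteType J.hom] in
theorem transl_one : Jac.transl J (1 : 𝟙_ (Over (Spec (CommRingCat.of k))) ⟶ J) = 𝟙 J := by
  rw [Jac.transl, MonObj.comp_one, _root_.mul_one]

omit [IsSeparated J.hom] [LocallyOfFiniteType J.hom] in
theorem transl_image (a : 𝟙_ (Over (Spec (CommRingCat.of k))) ⟶ J) (Z : Set J.left) :
    (Jac.transl J a).left.base '' Z = (Jac.transl J a⁻¹).left.base ⁻¹' Z := by
  have h1 : ∀ (b : 𝟙_ (Over (Spec (CommRingCat.of k))) ⟶ J) (p : J.left),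
      (Jac.transl J b⁻¹).left ((Jac.transl J b).left p) = p := fun b p => by
    rw [← Scheme.Hom.comp_apply, ← Over.comp_left, transl_comp, mul_inv_cancel, transl_one]
    rfl
  ext p
  constructor
  · rintro ⟨z, hz, rfl⟩
    show (Jac.transl J a⁻¹).left ((Jac.transl J a).left z) ∈ Z
    rw [h1]; exact hz
  · intro hp
    refine ⟨_, hp, ?_⟩
    have := h1 a⁻¹ p
    rwa [inv_inv] at this

theorem jpt_transl (a : 𝟙_ (Over (Spec (CommRingCat.of k))) ⟶ J) (q : 𝟙_ (Over (Spec (CommRingCat.of k))) ⟶ J) :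
    (Jac.transl J a).left.base (jpt q) = jpt (q * a) := by
  have h : q ≫ Jac.transl J a = q * a := by
    rw [Jac.transl, MonObj.comp_mul, Category.comp_id, ← Category.assoc,
      Subsingleton.elim (q ≫ toUnit J) (𝟙 (𝟙_ (Over (Spec (CommRingCat.of k))))), Category.id_comp]
  rw [← h]
  rfl

theorem jpt_mem_transl_iff (n : ℕ) (a : 𝟙_ (Over (Spec (CommRingCat.of k))) ⟶ J)
    (q : 𝟙_ (Over (Spec (CommRingCat.of k))) ⟶ J) :
    jpt q ∈ (Jac.transl J a).left.base '' Set.range (powSum j n).left.base ↔ q * a⁻¹ ∈ WPts j n := by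
  rw [transl_image, Set.mem_preimage, jpt_transl]
  exact jpt_mem_range_iff n _

theorem isClosed_transl (n : ℕ) (a : 𝟙_ (Over (Spec (CommRingCat.of k))) ⟶ J) :
    IsClosed ((Jac.transl J a).left.base '' Set.range (powSum j n).left.base) := by
  rw [transl_image]
  exact (isClosed_range_powSum n).preimage (Jac.transl J a⁻¹).left.continuous

end Jac

end Groth.Agent.JacLib
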